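import Cfsg.Agent.Lib.Lead.JankoOne.Iso
import Cfsg.Agent.Lib.Lie.JankoSimple
import Cfsg.Agent.Lib.Lie.JankoCent
import Cfsg.Prelude.Def_Spor_J1

/-!
# Uniqueness of the first Janko group
-/

set_option autoImplicit false

namespace Cfsg.Agent.Lead.JankoOne

open Cfsg
open Cfsg.Agent.Lead.GLTwoThree (mem_cent_iff t_mem)

universe u v

theorem nonempty_iso {G : Type u} {H : Type v} [Group G] [Finite G] [IsSimpleGroup G] [Group H] [Finite H]
    [IsSimpleGroup H] {t : G} {w : H} (e : Subgroup.centralizer ({t} : Set G) ≃* CG) (ht : IsTwoCentralInvolution t)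
    (f : Subgroup.centralizer ({w} : Set H) ≃* CG) (hw : IsTwoCentralInvolution w) : Nonempty (G ≃* H) :=
  ⟨(nonempty_table e ht).some.trans (nonempty_table f hw).some.symm⟩

theorem isTwoCentral_J1 {t : Spor.J1} (ht : orderOf t = 2)
    (e : Subgroup.centralizer ({t} : Set Spor.J1) ≃* CG) : IsTwoCentralInvolution t := by
  haveI : Fact (Nat.Prime 2) := ⟨Nat.prime_two⟩
  have hle : sylG e ≤ Subgroup.centralizer ({t} : Set Spor.J1) := fun x hx => ((mem_sylG e).1 hx).1
  have h8 : Nat.card (sylG e) = 2 ^ (Nat.card Spor.J1).factorization 2 := by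
    rw [card_sylG e, Cfsg.Agent.Lie.Janko.card_eq, show (175560 : ℕ) = 2 ^ 3 * 21945 by norm_num,
      Nat.factorization_mul (by norm_num) (by norm_num), Finsupp.add_apply,
      Nat.Prime.factorization_pow Nat.prime_two, Finsupp.single_eq_same,
      Nat.factorization_eq_zero_of_not_dvd (by norm_num)]
    norm_num
  let P : Sylow 2 Spor.J1 := Sylow.ofCard (sylG e) h8
  have hcomm : ∀ x ∈ P, x * t = t * x := fun x hx => mem_cent_iff.1 (hle hx)
  refine ⟨ht, P, ?_, hcomm⟩
  have hpg : IsPGroup 2 (Subgroup.zpowers t) := IsPGroup.of_card (n := 1) (by rw [Nat.card_zpowers, ht, pow_one])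
  obtain ⟨Q, hQ⟩ := hpg.exists_le_sylow
  have hmax : Subgroup.zpowers t ⊔ (P : Subgroup Spor.J1) = P := by
    refine P.3 ?_ le_sup_right
    refine hpg.to_sup_of_normal_right' (hK := P.2) ?_
    rw [Subgroup.zpowers_le]
    refine Subgroup.mem_normalizer_iff.2 fun x => ⟨fun hx => ?_, fun hx => ?_⟩
    · rwa [← hcomm x hx, mul_inv_cancel_right]
    · have h := hcomm _ hx
      rw [mul_assoc, mul_assoc, inv_mul_cancel, mul_one] at h
      rwa [← mul_left_cancel h] at hx
  exact hmax.le (Subgroup.mem_sup_left (Subgroup.mem_zpowers t))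

theorem isoJ1 {G : Type u} [Group G] [Finite G] [IsSimpleGroup G] {t : G} (ht : IsTwoCentralInvolution t)
    (e : Subgroup.centralizer ({t} : Set G) ≃* CG) : Spor.IsoJ1 G := by
  haveI : IsSimpleGroup Spor.J1 := Cfsg.Agent.Lie.Janko.isSimpleGroup_J1
  obtain ⟨s, hs, ⟨f⟩⟩ := Cfsg.Agent.Lie.Janko.exists_cent
  exact nonempty_iso e ht f (isTwoCentral_J1 hs f)

theorem isTwoCentral_of_comm {G : Type u} [Group G] [Finite G] (S : Sylow 2 G)
    (hS : IsMulCommutative (S : Subgroup G)) {t : G} (ht : orderOf t = 2) : IsTwoCentralInvolution t := by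
  haveI : Fact (Nat.Prime 2) := ⟨Nat.prime_two⟩
  have hpg : IsPGroup 2 (Subgroup.zpowers t) := IsPGroup.of_card (n := 1) (by rw [Nat.card_zpowers, ht, pow_one])
  obtain ⟨Q, hQ⟩ := hpg.exists_le_sylow
  have htQ : t ∈ Q := hQ (Subgroup.mem_zpowers t)
  refine ⟨ht, Q, htQ, fun x hx => ?_⟩
  obtain ⟨g, hg⟩ := MulAction.exists_smul_eq G Q S
  have key : ∀ z ∈ Q, g * z * g⁻¹ ∈ (S : Subgroup G) := fun z hz => by
    rw [← hg, Sylow.smul_def]; exact ⟨z, hz, rfl⟩
  have := congrArg Subtype.val (hS.is_comm.comm ⟨_, key x hx⟩ ⟨_, key t htQ⟩)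
  simp only [Subgroup.coe_mul] at this
  calc x * t = g⁻¹ * (g * x * g⁻¹ * (g * t * g⁻¹)) * g := by group
    _ = t * x := by rw [this]; group

end Cfsg.Agent.Lead.JankoOne
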