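import Cfsg.Agent.Lib.Lead.JankoOne.ExcludeMain

/-!
# The order from the involution centraliser `C₂ × A₅`
-/

set_option autoImplicit false
set_option maxRecDepth 20000
set_option linter.style.haveILetI false

namespace Cfsg.Agent.Lead.JankoOne

open Cfsg Cfsg.Agent.Char
open Cfsg.Agent.Lead.GLTwoThree (orderOf_two_iff mem_cent_iff t_mem)

universe u

variable {G : Type u} [Group G] [Finite G] {t : G}
variable (ht : orderOf t = 2) (e : ↥(Subgroup.centralizer ({t} : Set G)) ≃* CG)

include ht e in
theorem two_group_facts (h2c : IsTwoCentralInvolution t) :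
    ∀ Q : Subgroup G, IsPGroup 2 Q → ∀ a ∈ Q, ∀ b ∈ Q, a * a = 1 ∧ a * b = b * a := by
  intro Q hQ a ha b hb
  haveI : Fact (Nat.Prime 2) := ⟨Nat.prime_two⟩
  obtain ⟨⟨P, hP⟩, -, -⟩ := sylow_facts ht e h2c
  obtain ⟨R, hR⟩ := hQ.exists_le_sylow
  obtain ⟨g, hg⟩ := MulAction.exists_smul_eq G R P
  have hmem : ∀ y ∈ Q, g * y * g⁻¹ ∈ sylG e := fun y hy => by
    rw [← hP, ← hg, Sylow.smul_def]
    exact ⟨y, hR hy, rfl⟩
  have h1 := sq_sylG e (hmem a ha)
  have h2 := comm_sylG e (hmem a ha) (hmem b hb)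
  simp only [show ∀ y z : G, g * y * g⁻¹ * (g * z * g⁻¹) = g * (y * z) * g⁻¹ from fun y z => conj_mul] at h1 h2
  exact ⟨conj_eq_one_iff.1 h1, mul_left_cancel (mul_right_cancel h2)⟩

include ht in
/-- The odd part of the centraliser of `x`. -/
theorem exists_kernel (h2c : IsTwoCentralInvolution t) :
    ∃ O : Subgroup G, O ≤ Subgroup.centralizer ({xG e} : Set G) ∧
      Nat.card ↥(Subgroup.centralizer ({xG e} : Set G)) = 2 * Nat.card O ∧ Odd (Nat.card O) ∧
      ∀ m ∈ Subgroup.centralizer ({xG e} : Set G), Odd (orderOf m) → m ∈ O := by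
  haveI : Fact (Nat.Prime 2) := ⟨Nat.prime_two⟩
  obtain ⟨-, -, htx, -⟩ := base_facts e ht
  set M := Subgroup.centralizer ({xG e} : Set G) with hM
  let t' : M := ⟨t, Subgroup.mem_centralizer_singleton_iff.2 htx⟩
  have ht' : orderOf t' = 2 := by rw [← Subgroup.orderOf_coe]; exact ht
  obtain ⟨Q, hQ⟩ := (IsPGroup.of_card (p := 2) (n := 1) (G := Subgroup.zpowers t')
    (by rw [Nat.card_zpowers, ht', pow_one])).exists_le_sylow
  have htQ : t' ∈ (Q : Subgroup M) := hQ (Subgroup.mem_zpowers t')
  have hQ2 : (Q : Subgroup M) = Subgroup.zpowers t' := by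
    refine le_antisymm (fun q hq => ?_) hQ
    have hpg : IsPGroup 2 ((Q : Subgroup M).map M.subtype) := Q.isPGroup'.map M.subtype
    obtain ⟨hsq, hct⟩ := two_group_facts ht e h2c _ hpg _ (Subgroup.mem_map_of_mem _ hq) _
      (Subgroup.mem_map_of_mem _ htQ)
    rcases (cent_tx ht e hct (Subgroup.mem_centralizer_singleton_iff.1 q.2)).1 hsq with h | h
    · have : q = 1 := Subtype.ext h
      rw [this]; exact one_mem _
    · have : q = t' := Subtype.ext h
      rw [this]; exact Subgroup.mem_zpowers t'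
  have hc2 : Nat.card (Q : Subgroup M) = 2 := by rw [hQ2, Nat.card_zpowers, ht']
  obtain ⟨P, N, hN, hcomp⟩ := Fusion.DihedralFours.hnpc_two_cyclic Q (isCyclic_of_prime_card hc2)
  have hP2 : Nat.card (P : Subgroup M) = 2 := by
    rw [P.card_eq_multiplicity, ← Q.card_eq_multiplicity, hc2]
  have hmul := hcomp.card_mul
  rw [hP2] at hmul
  have hfac : (Nat.card M).factorization 2 = 1 := by
    have h := Q.card_eq_multiplicity
    rw [hc2] at h
    exact Nat.pow_right_injective le_rfl (by show 2 ^ _ = 2 ^ 1; rw [← h, pow_one])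
  have hNodd : Odd (Nat.card N) := by
    rw [Nat.odd_iff]
    have := Nat.not_dvd_ordCompl Nat.prime_two (Nat.card_pos (α := M)).ne'
    rw [hfac, pow_one] at this
    omega
  have hidx : N.index = 2 := by
    have := N.card_mul_index
    rw [← hmul] at this
    exact Nat.eq_of_mul_eq_mul_left Nat.card_pos this
  refine ⟨N.map M.subtype, Subgroup.map_subtype_le N, ?_, ?_, fun m hm ho => ?_⟩
  · rw [Subgroup.card_map_of_injective M.subtype_injective]; omega
  · rwa [Subgroup.card_map_of_injective M.subtype_injective]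
  · obtain ⟨k, hk⟩ := ho
    let m' : M := ⟨m, hm⟩
    have h2 : m' ^ 2 ∈ N := Subgroup.sq_mem_of_index_two hidx m'
    have : (m' ^ 2) ^ (k + 1) = m' := by
      rw [← pow_mul, show 2 * (k + 1) = orderOf m + 1 by omega, pow_succ,
        show orderOf m = orderOf m' from Subgroup.orderOf_coe m', pow_orderOf_eq_one, one_mul]
    exact ⟨m', this ▸ N.pow_mem h2 _, rfl⟩

theorem comm_of_card_five_sub {O : Subgroup G} (hO : Nat.card O = 45) {B C : Subgroup G} (hB : B ≤ O) (hC : C ≤ O)
    (hB5 : Nat.card B = 5) (hC5 : Nat.card C = 5) : B = C := by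
  haveI : Fact (Nat.Prime 5) := ⟨by norm_num⟩
  have hf : (Nat.card O).factorization 5 = 1 := by
    rw [hO, show (45 : ℕ) = 5 ^ 1 * 9 by norm_num, Nat.factorization_mul (by norm_num) (by norm_num),
      Finsupp.add_apply, Nat.Prime.factorization_pow (by norm_num), Finsupp.single_eq_same,
      Nat.factorization_eq_zero_of_not_dvd (by norm_num)]
  have hB' : Nat.card (B.subgroupOf O) = 5 ^ (Nat.card O).factorization 5 := by
    rw [hf, pow_one, Nat.card_congr (Subgroup.subgroupOfEquivOfLe hB).toEquiv, hB5]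
  have hC' : Nat.card (C.subgroupOf O) = 5 ^ (Nat.card O).factorization 5 := by
    rw [hf, pow_one, Nat.card_congr (Subgroup.subgroupOfEquivOfLe hC).toEquiv, hC5]
  have h1 := card_sylow_modEq_one 5 O
  have h2 := (Sylow.ofCard _ hB').card_dvd_index
  rw [Sylow.coe_ofCard] at h2
  have hidx := (B.subgroupOf O).card_mul_index
  rw [hB', hf, pow_one, hO] at hidx
  rw [show (B.subgroupOf O).index = 9 by omega] at h2
  have hm : Nat.card (Sylow 5 O) ∈ Nat.divisors 9 := Nat.mem_divisors.2 ⟨h2, by norm_num⟩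
  rw [show Nat.divisors 9 = {1, 3, 9} by decide] at hm
  simp only [Finset.mem_insert, Finset.mem_singleton] at hm
  have hone : Nat.card (Sylow 5 O) = 1 := by unfold Nat.ModEq at h1; omega
  haveI := (Nat.card_eq_one_iff_unique.1 hone).1
  have : Sylow.ofCard _ hB' = Sylow.ofCard _ hC' := Subsingleton.elim _ _
  have e' : B.subgroupOf O = C.subgroupOf O := by
    rw [← Sylow.coe_ofCard _ hB', ← Sylow.coe_ofCard _ hC', this]
  have h := Subgroup.subgroupOf_inj.1 e'
  rwa [inf_eq_left.2 hB, inf_eq_left.2 hC] at h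

include ht e in
theorem not_189000 [IsSimpleGroup G] (h2c : IsTwoCentralInvolution t) : Nat.card G ≠ 189000 := by
  intro hcard
  haveI : Fact (Nat.Prime 3) := ⟨by norm_num⟩
  obtain ⟨hconj, -⟩ := one_class ht e h2c
  obtain ⟨x3, x1, tx, ss, ts, sx, s1, st1⟩ := base_facts e ht
  obtain ⟨O, hO, hMO, hodd, hmem⟩ := exists_kernel ht e h2c
  obtain ⟨tt, t1⟩ := orderOf_two_iff.1 ht
  set x := xG e with hx
  set s := sG e with hs
  have hsi : ∀ {a : G}, a * a = 1 → a⁻¹ = a := fun h => inv_eq_of_mul_eq_one_left h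
  -- the second inverting involution
  set r := t * s with hr
  have rr : r * r = 1 := by
    rw [hr, show t * s * (t * s) = t * (s * t) * s by group, ← ts, show t * (t * s) * s = (t * t) * (s * s) by group,
      tt, ss, one_mul]
  have r1 : r ≠ 1 := fun h => st1 (mul_left_cancel (h.trans tt.symm))
  have rt1 : r ≠ t := fun h => s1 (mul_left_cancel (h.trans (mul_one t).symm))
  have tr : t * r = r * t := by rw [hr, mul_assoc t s, ← ts]
  have rx : r * x * r = x * x := by
    calc r * x * r = t * (s * x * s) * t := by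
          conv_lhs => arg 2; rw [ts]
          rw [hr]
          group
      _ = x * x := by
        rw [sx, ← mul_assoc, tx, mul_assoc x t x, tx, ← mul_assoc, mul_assoc (x * x) t t, tt, mul_one]
  have o3 : ∀ {y : G}, y ^ 3 = 1 → Odd (orderOf y) := fun h =>
    Odd.of_dvd_nat (by decide) (orderOf_dvd_of_pow_eq_one h)
  have hxpow : ∀ a : G, (a * x * a = x ∨ a * x * a = x * x) → a * x * a ∈ Subgroup.zpowers x := fun a h => by
    rcases h with h | h <;> rw [h]
    · exact Subgroup.mem_zpowers x
    · exact Subgroup.mul_mem _ (Subgroup.mem_zpowers x) (Subgroup.mem_zpowers x)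
  have invt := odd_kernel_inv hO hodd hmem tt (hxpow t (Or.inl (by rw [tx, mul_assoc, tt, mul_one])))
  have invs := odd_kernel_inv hO hodd hmem ss (hxpow s (Or.inr sx))
  set B : G → Subgroup G := fun a => O ⊓ Subgroup.centralizer ({a} : Set G) with hB
  have cB : ∀ a, a * a = 1 → a ≠ 1 → Nat.card (B a) = 1 ∨ Nat.card (B a) = 3 ∨ Nat.card (B a) = 5 :=
    fun a ha ha1 => card_odd_sub e (hconj a (orderOf_two_iff.2 ⟨ha, ha1⟩)) _ inf_le_right
      (Odd.of_dvd_nat hodd (Subgroup.card_dvd_of_le inf_le_left))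
  have hA : ∀ y ∈ B t, y = 1 ∨ y = x ∨ y = x * x := fun y hy =>
    (cent_tx ht e (Subgroup.mem_centralizer_singleton_iff.1 hy.2) (Subgroup.mem_centralizer_singleton_iff.1 (hO hy.1))).2
      (Odd.of_dvd_nat hodd (Subgroup.orderOf_dvd_natCard _ hy.1))
  have cA : Nat.card (B t) ≤ 3 := by
    classical
    have h : ((B t : Subgroup G) : Set G) ⊆ (({1, x, x * x} : Finset G) : Set G) := fun y hy => by
      simpa using hA y hy
    have := Set.ncard_le_ncard h
    rw [Set.ncard_coe_finset] at this
    exact (Nat.card_coe_set_eq _).le.trans (this.trans Finset.card_le_three)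
  have hbound : Nat.card O ≤ Nat.card (B t) * Nat.card (B r) * Nat.card (B s) := by
    rw [← Nat.card_prod, ← Nat.card_prod]
    refine Nat.card_le_card_of_surjective (fun p : ((B t) × (B r)) × (B s) =>
      (⟨(p.1.1 : G) * p.1.2 * p.2, O.mul_mem (O.mul_mem p.1.1.2.1 p.1.2.2.1) p.2.2.1⟩ : O)) ?_
    rintro ⟨k, hk⟩
    obtain ⟨a, ha, b, hb, c, hc, h1, h2, h3, hk'⟩ :=
      Solv.ExtClosed.decomp tt ss ts hodd invt invs hk
    exact ⟨⟨⟨⟨a, ha, Subgroup.mem_centralizer_singleton_iff.2 h1.eq.symm⟩,
      ⟨b, hb, Subgroup.mem_centralizer_singleton_iff.2 h2.eq.symm⟩⟩,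
      ⟨c, hc, Subgroup.mem_centralizer_singleton_iff.2 h3.eq.symm⟩⟩, Subtype.ext hk'.symm⟩
  have h9 : 9 ∣ Nat.card O := by
    have hzp : IsPGroup 3 (Subgroup.zpowers x) := IsPGroup.of_card (n := 1) (by
      rw [Nat.card_zpowers, pow_one]; exact orderOf_eq_prime x3 x1)
    obtain ⟨R, hR⟩ := hzp.exists_le_sylow
    have hR27 : Nat.card (R : Subgroup G) = 27 := by
      rw [R.card_eq_multiplicity, hcard, show (189000 : ℕ) = 3 ^ 3 * 7000 by norm_num,
        Nat.factorization_mul (by norm_num) (by norm_num), Finsupp.add_apply,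
        Nat.Prime.factorization_pow (by norm_num), Finsupp.single_eq_same,
        Nat.factorization_eq_zero_of_not_dvd (by norm_num)]
      norm_num
    haveI : Nontrivial (R : Subgroup G) := by rw [← Finite.one_lt_card_iff_nontrivial, hR27]; norm_num
    haveI := R.isPGroup'.center_nontrivial
    have hxR : x ∈ (R : Subgroup G) := hR (Subgroup.mem_zpowers x)
    have hd := Subgroup.card_dvd_of_le (inf_le_left : (R : Subgroup G) ⊓ Subgroup.centralizer {x} ≤ R)
    rw [hR27] at hd
    set K := (R : Subgroup G) ⊓ Subgroup.centralizer ({x} : Set G) with hK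
    have hgt : 3 < Nat.card K := by
      obtain ⟨z, hz1⟩ := exists_ne (1 : Subgroup.center (R : Subgroup G))
      have hzK : ((z : (R : Subgroup G)) : G) ∈ K := ⟨SetLike.coe_mem z.1, Subgroup.mem_centralizer_singleton_iff.2
        (congrArg Subtype.val (Subgroup.mem_center_iff.1 z.2 ⟨x, hxR⟩)).symm⟩
      have hle : Subgroup.zpowers x ≤ K := Subgroup.zpowers_le.2 ⟨hxR, Subgroup.mem_centralizer_singleton_iff.2 rfl⟩
      by_contra hle3
      have heq : Subgroup.zpowers x = K := Subgroup.eq_of_le_of_card_ge hle (by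
        rw [Nat.card_zpowers, orderOf_eq_prime x3 x1]; omega)
      -- `x` is then central, and the intersection is everything
      have hzx : ((z : (R : Subgroup G)) : G) ∈ Subgroup.zpowers x := heq ▸ hzK
      have hxz : x ∈ Subgroup.zpowers ((z : (R : Subgroup G)) : G) := by
        rcases mem_three x3 hzx with h | h | h
        · exact absurd (Subtype.ext (Subtype.ext h)) hz1
        · rw [h]; exact Subgroup.mem_zpowers x
        · rw [h]
          have : x = (x * x) * (x * x) := by
            rw [show x * x * (x * x) = x ^ 3 * x by simp [pow_succ, mul_assoc], x3, one_mul]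
          exact Subgroup.mem_zpowers_iff.2 ⟨2, by rw [zpow_two]; exact this.symm⟩
      have hall : (R : Subgroup G) ≤ K := fun y hy => ⟨hy, Subgroup.mem_centralizer_singleton_iff.2 (by
        obtain ⟨k, hk⟩ := Subgroup.mem_zpowers_iff.1 hxz
        rw [← hk]
        exact ((show Commute y ((z : (R : Subgroup G)) : G) from
          congrArg Subtype.val (Subgroup.mem_center_iff.1 z.2 ⟨y, hy⟩)).zpow_right k).eq)⟩
      have := Subgroup.card_le_of_le hall
      omega
    have hmK : Nat.card K ∈ Nat.divisors 27 := Nat.mem_divisors.2 ⟨hd, by norm_num⟩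
    rw [show Nat.divisors 27 = {1, 3, 9, 27} by decide] at hmK
    simp only [Finset.mem_insert, Finset.mem_singleton] at hmK
    have h9K : 9 ∣ Nat.card K := by rcases hmK with h | h | h | h <;> rw [h] at hgt ⊢ <;> omega
    have h9M : 9 ∣ 2 * Nat.card O := hMO ▸ h9K.trans (Subgroup.card_dvd_of_le inf_le_right)
    exact Nat.Coprime.dvd_of_dvd_mul_left (by norm_num : Nat.Coprime 9 2) h9M
  have hpos : 0 < Nat.card O := Nat.card_pos
  -- one of the parts has order three
  obtain ⟨a, aa, a1, ta, at1, ax, hB3, hOb⟩ : ∃ a, a * a = 1 ∧ a ≠ 1 ∧ t * a = a * t ∧ a ≠ t ∧ a * x * a = x * x ∧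
      Nat.card (B a) = 3 ∧ Nat.card O ≤ 45 := by
    have hs5 : Nat.card (B s) ≤ 5 := by rcases cB s ss s1 with h | h | h <;> omega
    have hr5 : Nat.card (B r) ≤ 5 := by rcases cB r rr r1 with h | h | h <;> omega
    rcases cB s ss s1 with hb | hb | hb <;> rcases cB r rr r1 with hc | hc | hc
    all_goals first
      | exact ⟨s, ss, s1, ts, st1, sx, hb, hbound.trans ((Nat.mul_le_mul (Nat.mul_le_mul cA hr5) hb.le).trans le_rfl)⟩
      | exact ⟨r, rr, r1, tr, rt1, rx, hc, hbound.trans ((Nat.mul_le_mul (Nat.mul_le_mul cA hc.le) hs5).trans le_rfl)⟩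
      | skip
    all_goals rw [hb, hc] at hbound
    · omega
    · exfalso
      have h5 : 5 ∣ Nat.card O := hc ▸ Subgroup.card_dvd_of_le inf_le_left
      omega
    · exfalso
      have h5 : 5 ∣ Nat.card O := hb ▸ Subgroup.card_dvd_of_le inf_le_left
      omega
    · exfalso
      have h5 : 5 ∣ Nat.card O := hb ▸ Subgroup.card_dvd_of_le inf_le_left
      have h45 : Nat.card O = 45 := by omega
      have heq := comm_of_card_five_sub h45 inf_le_left inf_le_left hb hc
      haveI : Nontrivial (B s) := by rw [← Finite.one_lt_card_iff_nontrivial, hb]; norm_num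
      obtain ⟨y, hy⟩ := exists_ne (1 : B s)
      have hy2 : (y : G) ∈ B r := (le_of_eq heq) y.2
      have hys : Commute (y : G) s := Subgroup.mem_centralizer_singleton_iff.1 y.2.2
      have hyr : Commute (y : G) r := Subgroup.mem_centralizer_singleton_iff.1 hy2.2
      have hyt : Commute (y : G) t := by
        have := hyr.mul_right hys
        rwa [hr, mul_assoc, ss, mul_one] at this
      have h15 : orderOf (y : G) ∣ 5 := hb ▸ Subgroup.orderOf_dvd_natCard _ y.2
      have h3 : orderOf (y : G) ∣ 3 := by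
        rcases hA _ ⟨y.2.1, Subgroup.mem_centralizer_singleton_iff.2 hyt.eq⟩ with h | h | h <;> rw [h]
        · simp
        · exact orderOf_dvd_of_pow_eq_one x3
        · exact orderOf_dvd_of_pow_eq_one (by rw [← pow_two, ← pow_mul, mul_comm, pow_mul, x3, one_pow])
      have := Nat.dvd_gcd h3 h15
      norm_num at this
      exact hy (Subtype.ext (by simpa using this))
  -- the element `w`
  haveI : Nontrivial (B a) := by rw [← Finite.one_lt_card_iff_nontrivial, hB3]; norm_num
  obtain ⟨⟨w, hwB⟩, hw1⟩ := exists_ne (1 : B a)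
  have hw1' : w ≠ 1 := fun h => hw1 (Subtype.ext h)
  have w3 : w ^ 3 = 1 := orderOf_dvd_iff_pow_eq_one.1 (hB3 ▸ Subgroup.orderOf_dvd_natCard _ hwB)
  have hwa : w * a = a * w := Subgroup.mem_centralizer_singleton_iff.1 hwB.2
  have hwx : w * x = x * w := Subgroup.mem_centralizer_singleton_iff.1 (hO hwB.1)
  have hwnx : w ∉ Subgroup.zpowers x := fun h => by
    have hfix : a * w * a = w := by rw [← hwa, mul_assoc, aa, mul_one]
    rcases mem_three x3 h with rfl | rfl | rfl
    · exact hw1' rfl
    · rw [ax] at hfix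
      exact x1 (mul_left_cancel (hfix.trans (mul_one _).symm))
    · have h' : a * (x * x) * a = (a * x * a) * (a * x * a) := by
        rw [show a * x * a * (a * x * a) = a * x * (a * a) * x * a by group, aa, mul_one]; group
      rw [h', ax, show x * x * (x * x) = x ^ 3 * x by simp [pow_succ, mul_assoc], x3, one_mul] at hfix
      exact x1 (mul_left_cancel (hfix.symm.trans (mul_one _).symm))
  have hzw : Subgroup.zpowers w = B a := Subgroup.eq_of_le_of_card_ge (Subgroup.zpowers_le.2 hwB) (by
    rw [hB3, Nat.card_zpowers, orderOf_eq_prime w3 hw1'])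
  have htw : t * w * t ∈ Subgroup.zpowers w := by
    rw [hzw]
    refine ⟨invt w hwB.1, Subgroup.mem_centralizer_singleton_iff.2 ?_⟩
    calc t * w * t * a = t * (w * a) * t := by rw [mul_assoc (t * w), ta, ← mul_assoc, mul_assoc t w a]
      _ = (t * a) * w * t := by rw [hwa, ← mul_assoc]
      _ = a * (t * w * t) := by rw [ta]; group
  have htw2 : t * w * t = w * w := by
    rcases mem_three w3 htw with h | h | h
    · exfalso
      have : w = t * (t * w * t) * t := by
        rw [show t * (t * w * t) * t = (t * t) * w * (t * t) by group, tt, one_mul, mul_one]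
      rw [h, mul_one, tt] at this
      exact hw1' this
    · exfalso
      have : w * t = t * w := by
        conv_lhs => rw [← h]
        rw [mul_assoc, tt, mul_one]
      rcases hA w ⟨hwB.1, Subgroup.mem_centralizer_singleton_iff.2 this⟩ with e' | e' | e'
      · exact hw1' e'
      · exact hwnx (e' ▸ Subgroup.mem_zpowers x)
      · exact hwnx (e' ▸ Subgroup.mul_mem _ (Subgroup.mem_zpowers x) (Subgroup.mem_zpowers x))
    · exact h
  have hwconj : IsConj x w :=
    (three_isConj e (hconj a (orderOf_two_iff.2 ⟨aa, a1⟩)) hwa w3 hw1').symm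
  have C : Config t a x w :=
    ⟨tt, t1, aa, a1, ta, at1, tx, ax, hwa.symm, htw2, x3, x1, w3, hwx.symm, hwnx, hwconj, hcard⟩
  refine C.absurd_of hO hMO hodd hmem hOb fun y hy => ?_
  have hpy : IsPGroup 2 (Subgroup.zpowers y) := by
    rintro ⟨_, k, rfl⟩
    refine ⟨2, Subtype.ext ?_⟩
    show (y ^ k) ^ (2 ^ 2) = 1
    rw [← zpow_natCast (y ^ k), ← zpow_mul, mul_comm, zpow_mul, zpow_natCast, show (2 : ℕ) ^ 2 = 4 from rfl, hy, one_zpow]
  exact (two_group_facts ht e h2c _ hpy y (Subgroup.mem_zpowers y) y (Subgroup.mem_zpowers y)).1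

/-- Janko's order theorem. -/
theorem card_eq [IsSimpleGroup G] (h2c : IsTwoCentralInvolution t)
    (e : ↥(Subgroup.centralizer ({t} : Set G)) ≃* CG) : Nat.card G = 175560 := by
  have ht := h2c.1
  obtain ⟨hconj, h168⟩ := one_class ht e h2c
  obtain ⟨-, -, hodd⟩ := sylow_facts ht e h2c
  exact (order_two_values ht e hconj (card_sylG e) (fun x hx => sq_sylG e hx) h168 hodd).resolve_right
    (not_189000 ht e h2c)

end Cfsg.Agent.Lead.JankoOne
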