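import Mathlib

/-!
# The arithmetic of the order formula for centraliser `C₂ × A₅`
-/

set_option autoImplicit false
set_option maxRecDepth 20000

namespace Cfsg.Agent.Lead.JankoOne

def chkMain (i j : ℕ) : Bool :=
  let C : ℤ := 8 * (i : ℤ) - 701
  let D : ℤ := 8 * (j : ℤ) - 701
  let p := C * D
  let d := (C + D) * (p + 9 * (C + D) + 9)
  let n := 144000 * p * (1 + (C + D))
  let g := n / d
  decide (n % d = 0 → 0 < g → g % 168 = 0 → g / 8 % 2 = 1 →
    125 * p * (1 + (C + D)) % (27 * (1 + (C + D)) - 2 * p) = 0 → g = 175560 ∨ g = 189000)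

theorem main_check : ((List.range 176).all fun i => (List.range 176).all fun j => chkMain i j) = true := by
  decide +kernel

def chkAlt (i j : ℕ) : Bool :=
  let A : ℤ := 8 * (i : ℤ) - 466
  let C : ℤ := 8 * (j : ℤ) - 333
  let B := -1 - 2 * (A + C)
  let D := 1 + (A + C)
  decide (2 * A * B * C * D ≠ 108 * B * C * D + 125 * A * C * D + 27 * A * B * D + 28 * A * B * C)

theorem alt_check : ((List.range 117).all fun i => (List.range 84).all fun j => chkAlt i j) = true := by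
  decide +kernel

def chkAB (i : ℕ) : Bool :=
  let A : ℤ := 8 * (i : ℤ) - 303
  let G := 2 * A - 1
  decide ((-54 * A * A * G) % (2 * G * A + 2 * A - 410 * G) ≠ 0)

theorem ab_check : ((List.range 76).all fun i => chkAB i) = true := by decide +kernel

theorem all_mem {n : ℕ} {p : ℕ → Bool} (h : (List.range n).all p = true) {i : ℕ} (hi : i < n) : p i = true :=
  List.all_eq_true.1 h i (List.mem_range.2 hi)

theorem sq_bound {D : ℤ} {B : ℤ} (hB : 0 ≤ B) {g : ℕ} (h : 2 * D ^ 2 ≤ (g : ℤ)) (hg : (g : ℤ) < 2 * B ^ 2) :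
    -B < D ∧ D < B := ⟨by nlinarith, by nlinarith⟩

theorem two_div_ge {G : ℤ} (h8 : G % 8 = 1) : (-2 / 7 : ℚ) ≤ 2 / (G : ℚ) := by
  rcases lt_or_ge 0 G with h | h
  · have : (0 : ℚ) ≤ 2 / (G : ℚ) := by positivity
    linarith
  · have hG : (G : ℚ) ≤ -7 := by exact_mod_cast (show G ≤ -7 by omega)
    rw [le_div_iff_of_neg (by linarith)]
    linarith

theorem small_div {k x b : ℚ} (hk : 0 ≤ k) (hb : 0 < b) (hx : b ≤ |x|) : -(k / b) ≤ k / x ∧ k / x ≤ k / b := by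
  rw [← abs_le, abs_div, abs_of_nonneg hk]
  exact div_le_div_of_nonneg_left hk hb hx

theorem main_bound {C D : ℤ} {g : ℕ} (hC : C % 8 = 3) (hD : D % 8 = 3) (hle : |C| ≤ |D|) (hS : C + D ≠ 0)
    (hg : 0 < g) (hD2 : 2 * D ^ 2 ≤ (g : ℤ))
    (e2 : (288000 : ℚ) / g = 2 + 2 / ((-1 - (C + D) : ℤ) : ℚ) + 18 / (C : ℚ) + 18 / (D : ℚ)) :
    |D| ≤ 700 := by
  by_contra hc
  have hD701 : (701 : ℚ) ≤ |(D : ℚ)| := by exact_mod_cast (show 701 ≤ |D| by omega)
  obtain ⟨d1, d2⟩ := small_div (k := 18) (by norm_num) (by norm_num) hD701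
  have hgpos : (0 : ℚ) < g := by exact_mod_cast hg
  have key : (0.3 : ℚ) ≤ 288000 / (g : ℚ) := by
    have hG := two_div_ge (G := -1 - (C + D)) (by omega)
    rcases (show 0 < C ∨ C = -5 ∨ C ≤ -13 by omega) with h | h | h
    · have : (0 : ℚ) ≤ 18 / (C : ℚ) := by positivity
      rw [e2]; norm_num at *; linarith
    · exfalso
      subst h
      have h696 : (696 : ℚ) ≤ |((-1 - (-5 + D) : ℤ) : ℚ)| := by
        have : 696 ≤ |(-1 - (-5 + D) : ℤ)| := by rw [le_abs]; rcases le_abs.1 (show 701 ≤ |D| by omega) with h | h <;> omega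
        exact_mod_cast this
      obtain ⟨-, g2⟩ := small_div (k := 2) (by norm_num) (by norm_num) h696
      have : (0 : ℚ) < 288000 / g := by positivity
      rw [e2] at this
      norm_num at *
      linarith
    · have h13 : (13 : ℚ) ≤ |(C : ℚ)| := by
        exact_mod_cast (show 13 ≤ |C| by rw [abs_of_neg (by omega)]; omega)
      obtain ⟨c1, -⟩ := small_div (k := 18) (by norm_num) (by norm_num) h13
      rw [e2]; norm_num at *; linarith
  rw [le_div_iff₀ hgpos] at key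
  have : (g : ℤ) < 2 * 701 ^ 2 := by
    have h' : (g : ℚ) < 982802 := by norm_num at key; linarith
    have h'' : g < 982802 := by exact_mod_cast h'
    norm_num
    omega
  obtain ⟨b1, b2⟩ := sq_bound (by norm_num) hD2 this
  exact hc (abs_le.2 ⟨by omega, by omega⟩)

theorem main_arith {A B C D : ℤ} {g : ℕ} (hA : A % 8 = 5) (hB : B % 8 = 5) (hC : C % 8 = 3) (hD : D % 8 = 3)
    (hsum : A + B + C + D = 0) (hg : 0 < g) (hC2 : 2 * C ^ 2 ≤ (g : ℤ)) (hD2 : 2 * D ^ 2 ≤ (g : ℤ))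
    (h168 : 168 ∣ g) (hodd : g / 8 % 2 = 1)
    (e1 : (2 : ℚ) + 2 / ((-1 - (C + D) : ℤ) : ℚ) =
      125 * (1 / (A : ℚ) + 1 / (B : ℚ)) + 27 * (1 / (C : ℚ) + 1 / (D : ℚ)))
    (e2 : (288000 : ℚ) / g = 2 + 2 / ((-1 - (C + D) : ℤ) : ℚ) + 18 / (C : ℚ) + 18 / (D : ℚ)) :
    g = 175560 ∨ g = 189000 := by
  have hA0 : (A : ℚ) ≠ 0 := Int.cast_ne_zero.2 (by omega)
  have hB0 : (B : ℚ) ≠ 0 := Int.cast_ne_zero.2 (by omega)
  have hC0 : (C : ℚ) ≠ 0 := Int.cast_ne_zero.2 (by omega)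
  have hD0 : (D : ℚ) ≠ 0 := Int.cast_ne_zero.2 (by omega)
  have hg0 : (g : ℚ) ≠ 0 := Nat.cast_ne_zero.2 hg.ne'
  have hG0 : (-1 - ((C : ℚ) + (D : ℚ))) ≠ 0 := by
    exact_mod_cast (show (-1 - (C + D) : ℤ) ≠ 0 by omega)
  have hS : C + D ≠ 0 := by
    intro h
    have e2' := e2
    rw [h, show (D : ℚ) = -(C : ℚ) by rw [show D = -C by omega]; push_cast; ring] at e2'
    norm_num [neg_div, div_neg] at e2'
    omega
  have hsum' : (A : ℚ) + B = -((C : ℚ) + D) := by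
    have : (A : ℚ) + B + C + D = 0 := by exact_mod_cast hsum
    linarith
  push_cast at e1 e2
  have p1 : (A * B) * (27 * (1 + (C + D)) - 2 * (C * D)) = 125 * (C * D) * (1 + (C + D)) := by
    have h : ((A : ℚ) * B) * (27 * (1 + (C + D)) - 2 * (C * D)) = 125 * ((C : ℚ) * D) * (1 + (C + D)) := by
      apply mul_left_cancel₀ (show ((C : ℚ) + D) ≠ 0 by exact_mod_cast hS)
      field_simp at e1
      linear_combination e1 + (125 * (C : ℚ) * D * (-1 - (C + D))) * hsum'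
    exact_mod_cast h
  have p2 : (g : ℤ) * ((C + D) * (C * D + 9 * (C + D) + 9)) = 144000 * (C * D) * (1 + (C + D)) := by
    have h : (g : ℚ) * (((C : ℚ) + D) * (C * D + 9 * (C + D) + 9)) = 144000 * ((C : ℚ) * D) * (1 + (C + D)) := by
      field_simp at e2
      linear_combination (1 / 2 : ℚ) * e2
    exact_mod_cast h
  have hb : |C| ≤ 700 ∧ |D| ≤ 700 := by
    rcases le_total |C| |D| with h | h
    · have := main_bound hC hD h hS hg hD2 (by push_cast; exact e2)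
      exact ⟨h.trans this, this⟩
    · have := main_bound hD hC h (by omega) hg hC2 (by push_cast; rw [e2, add_comm (C : ℚ)]; ring)
      exact ⟨this, h.trans this⟩
  obtain ⟨c1, c2⟩ := abs_le.1 hb.1
  obtain ⟨d1, d2⟩ := abs_le.1 hb.2
  obtain ⟨i, hi, rfl⟩ : ∃ i : ℕ, i < 176 ∧ C = 8 * (i : ℤ) - 701 := ⟨((C + 701) / 8).toNat, by omega, by omega⟩
  obtain ⟨j, hj, rfl⟩ : ∃ j : ℕ, j < 176 ∧ D = 8 * (j : ℤ) - 701 := ⟨((D + 701) / 8).toNat, by omega, by omega⟩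
  have hk := all_mem (all_mem main_check hi) hj
  simp only [chkMain, decide_eq_true_eq] at hk
  set S : ℤ := 8 * (i : ℤ) - 701 + (8 * (j : ℤ) - 701)
  set p : ℤ := (8 * (i : ℤ) - 701) * (8 * (j : ℤ) - 701)
  have hd0 : S * (p + 9 * S + 9) ≠ 0 := by
    intro h
    rw [h, mul_zero] at p2
    rcases mul_eq_zero.1 p2.symm with h' | h'
    · exact mul_ne_zero (by omega : (8 * (i : ℤ) - 701) ≠ 0) (by omega : (8 * (j : ℤ) - 701) ≠ 0)
        ((mul_eq_zero.1 h').resolve_left (by norm_num))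
    · omega
  have hq : 144000 * p * (1 + S) / (S * (p + 9 * S + 9)) = (g : ℤ) := by
    rw [← p2, Int.mul_ediv_cancel _ hd0]
  rw [hq] at hk
  have := hk (by rw [← p2]; exact Int.mul_emod_left _ _) (by exact_mod_cast hg) (by omega) (by omega)
    (by rw [← p1]; exact Int.mul_emod_left _ _)
  omega

theorem alt_bound {T : ℤ} (h8 : T % 8 = 1) :
    (4 / 5 : ℚ) ≤ 2 - 50 / ((-1 - 2 * T : ℤ) : ℚ) - 16 / ((1 + T : ℤ) : ℚ) := by
  push_cast
  rcases (show T = 1 ∨ T = -7 ∨ T = 9 ∨ T = -15 ∨ T = -23 ∨ 17 ≤ T ∨ T ≤ -31 by omega) with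
    rfl | rfl | rfl | rfl | rfl | h | h
  iterate 5 norm_num
  · have h' : (17 : ℚ) ≤ T := by exact_mod_cast h
    have : 16 / (1 + (T : ℚ)) ≤ 16 / 18 := div_le_div_of_nonneg_left (by norm_num) (by norm_num) (by linarith)
    have : 50 / (-1 - 2 * (T : ℚ)) ≤ 0 := div_nonpos_of_nonneg_of_nonpos (by norm_num) (by linarith)
    linarith
  · have h' : (T : ℚ) ≤ -31 := by exact_mod_cast h
    have : 50 / (-1 - 2 * (T : ℚ)) ≤ 50 / 61 := div_le_div_of_nonneg_left (by norm_num) (by norm_num) (by linarith)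
    have : 16 / (1 + (T : ℚ)) ≤ 0 := div_nonpos_of_nonneg_of_nonpos (by norm_num) (by linarith)
    linarith

theorem alt_arith {A B C D : ℤ} {g : ℕ} (hA : A % 8 = 6) (hC : C % 8 = 3) (hB : B = -1 - 2 * (A + C))
    (hD : D = 1 + (A + C)) (hg : 0 < g) (hA2 : A ^ 2 ≤ (g : ℤ)) (hC2 : 2 * C ^ 2 ≤ (g : ℤ))
    (e1 : (2 : ℚ) = 108 / (A : ℚ) + 125 / (B : ℚ) + 27 / (C : ℚ) + 28 / (D : ℚ))
    (e2 : (172800 : ℚ) / g = 108 / (A : ℚ) + 75 / (B : ℚ) + 27 / (C : ℚ) + 12 / (D : ℚ)) : False := by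
  have hgpos : (0 : ℚ) < g := by exact_mod_cast hg
  have hb := alt_bound (T := A + C) (by omega)
  rw [← hB, ← hD] at hb
  have key : (4 / 5 : ℚ) ≤ 172800 / (g : ℚ) := by
    refine hb.trans (le_of_eq ?_)
    rw [e2]
    linear_combination e1
  rw [le_div_iff₀ hgpos] at key
  have hgb : (g : ℤ) ≤ 216000 := by
    have h' : (g : ℚ) ≤ 216000 := by linarith
    exact_mod_cast h'
  have a1 : -465 < A ∧ A < 465 := ⟨by nlinarith, by nlinarith⟩
  have c1 : -329 < C ∧ C < 329 := ⟨by nlinarith, by nlinarith⟩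
  obtain ⟨i, hi, rfl⟩ : ∃ i : ℕ, i < 117 ∧ A = 8 * (i : ℤ) - 466 := ⟨((A + 466) / 8).toNat, by omega, by omega⟩
  obtain ⟨j, hj, rfl⟩ : ∃ j : ℕ, j < 84 ∧ C = 8 * (j : ℤ) - 333 := ⟨((C + 333) / 8).toNat, by omega, by omega⟩
  have hk := all_mem (all_mem alt_check hi) hj
  simp only [chkAlt, decide_eq_true_eq] at hk
  rw [← hB, ← hD] at hk
  apply hk
  have hA0 : ((8 * (i : ℤ) - 466 : ℤ) : ℚ) ≠ 0 := Int.cast_ne_zero.2 (by omega)
  have hC0 : ((8 * (j : ℤ) - 333 : ℤ) : ℚ) ≠ 0 := Int.cast_ne_zero.2 (by omega)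
  have hB0 : (B : ℚ) ≠ 0 := Int.cast_ne_zero.2 (by omega)
  have hD0 : (D : ℚ) ≠ 0 := Int.cast_ne_zero.2 (by omega)
  generalize (8 * (i : ℤ) - 466) = A at *
  generalize (8 * (j : ℤ) - 333) = C at *
  have h : 2 * (A : ℚ) * B * C * D = 108 * B * C * D + 125 * A * C * D + 27 * A * B * D + 28 * A * B * C := by
    field_simp at e1
    linear_combination e1
  exact_mod_cast h

theorem ab_arith {A C D : ℤ} {g : ℕ} (hA : A % 8 = 1) (hC : C % 8 = 3) (hD : D % 8 = 3) (hsum : C + D = -2 * A)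
    (hg : 0 < g) (hA2 : 2 * A ^ 2 ≤ (g : ℤ))
    (e1 : (2 : ℚ) + 2 / ((2 * A - 1 : ℤ) : ℚ) = 410 / (A : ℚ) + 27 * (1 / (C : ℚ) + 1 / (D : ℚ)))
    (e2 : (172800 : ℚ) / g = 2 + 2 / ((2 * A - 1 : ℤ) : ℚ) - 164 / (A : ℚ)) : False := by
  have hgpos : (0 : ℚ) < g := by exact_mod_cast hg
  have hb : -300 ≤ A ∧ A ≤ 300 := by
    by_contra hc
    have h301 : 301 ≤ |A| := by rw [le_abs]; omega
    have h601 : 601 ≤ |2 * A - 1| := by rw [le_abs]; omega
    obtain ⟨-, a2⟩ := small_div (k := 164) (x := (A : ℚ)) (b := 301) (by norm_num) (by norm_num) (by exact_mod_cast h301)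
    obtain ⟨g1, -⟩ := small_div (k := 2) (x := ((2 * A - 1 : ℤ) : ℚ)) (b := 601) (by norm_num) (by norm_num)
      (by exact_mod_cast h601)
    have key : (1.44 : ℚ) ≤ 172800 / (g : ℚ) := by rw [e2]; norm_num at *; linarith
    rw [le_div_iff₀ hgpos] at key
    have : (g : ℤ) < 2 * 301 ^ 2 := by
      have h' : (g : ℚ) < 181202 := by norm_num at key; linarith
      have h'' : g < 181202 := by exact_mod_cast h'
      norm_num
      omega
    obtain ⟨b1, b2⟩ := sq_bound (by norm_num) hA2 this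
    omega
  obtain ⟨i, hi, rfl⟩ : ∃ i : ℕ, i < 76 ∧ A = 8 * (i : ℤ) - 303 := ⟨((A + 303) / 8).toNat, by omega, by omega⟩
  have hk := all_mem ab_check hi
  simp only [chkAB, decide_eq_true_eq] at hk
  apply hk
  have hA0 : ((8 * (i : ℤ) - 303 : ℤ) : ℚ) ≠ 0 := Int.cast_ne_zero.2 (by omega)
  have hG0 : ((2 * (8 * (i : ℤ) - 303) - 1 : ℤ) : ℚ) ≠ 0 := Int.cast_ne_zero.2 (by omega)
  have hC0 : (C : ℚ) ≠ 0 := Int.cast_ne_zero.2 (by omega)
  have hD0 : (D : ℚ) ≠ 0 := Int.cast_ne_zero.2 (by omega)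
  generalize (8 * (i : ℤ) - 303) = A at *
  have hs : (C : ℚ) + D = -2 * A := by exact_mod_cast hsum
  have h : (C * D : ℚ) * (2 * (2 * A - 1) * A + 2 * A - 410 * (2 * A - 1)) = -54 * A * A * (2 * A - 1) := by
    push_cast at e1 hG0
    field_simp at e1
    linear_combination e1 + 27 * (A : ℚ) * (2 * A - 1) * hs
  have h' : C * D * (2 * (2 * A - 1) * A + 2 * A - 410 * (2 * A - 1)) = -54 * A * A * (2 * A - 1) := by
    exact_mod_cast h
  rw [← h']
  exact Int.mul_emod_left _ _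

end Cfsg.Agent.Lead.JankoOne
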