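import Cfsg.Agent.Lib.Lead.GLTwoThree.Decomp
import Cfsg.Agent.Lib.Lead.JankoOne.Arith

/-!
# Decomposing the Gram matrix for centraliser `C₂ × A₅`
-/

set_option autoImplicit false
set_option linter.unusedSimpArgs false
set_option maxHeartbeats 1000000

namespace Cfsg.Agent.Lead.JankoOne

open Cfsg.Agent.Lead.GLTwoThree (ind sum_ind_mul norm_zero norm_one norm_two sq_le_norm strip strip_list)

variable {ι : Type*} [Fintype ι] [DecidableEq ι]

/-- The data of the four virtual characters. -/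
structure Data (z : Fin 4 → ι → ℤ) (o : ι) (p : Equiv.Perm ι) (d : ι → ℕ) (g : ℕ) : Prop where
  g00 : ∑ χ, z 0 χ ^ 2 = 8
  g11 : ∑ χ, z 1 χ ^ 2 = 4
  g22 : ∑ χ, z 2 χ ^ 2 = 4
  g33 : ∑ χ, z 3 χ ^ 2 = 2
  g01 : ∑ χ, z 0 χ * z 1 χ = 4
  g12 : ∑ χ, z 1 χ * z 2 χ = 2
  g03 : ∑ χ, z 0 χ * z 3 χ = 0
  g13 : ∑ χ, z 1 χ * z 3 χ = 0
  g23 : ∑ χ, z 2 χ * z 3 χ = 0
  z0o : z 0 o = 1
  z1o : z 1 o = 0
  z2o : z 2 o = 0
  z3o : z 3 o = 0
  dp : ∀ χ, d (p χ) = d χ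
  p0 : ∀ χ, z 0 (p χ) = z 0 χ
  p12 : ∀ χ, z 1 (p χ) = z 2 χ
  p21 : ∀ χ, z 2 (p χ) = z 1 χ
  p3 : ∀ χ, z 3 (p χ) = z 3 χ
  deg : ∀ i, ∑ χ, z i χ * (d χ : ℤ) = 0
  dpos : ∀ χ, 0 < d χ
  do1 : d o = 1
  cong : ∀ χ, (8 : ℤ) ∣ (d χ : ℤ) + 7 * (z 0 χ + 2 * z 1 χ + 2 * z 2 χ + 4 * z 3 χ)
  sq : ∑ χ, d χ ^ 2 = g
  eq : ∀ i, ∑ χ, (z i χ : ℚ) *
    (((z 0 χ + 2 * z 1 χ + 2 * z 2 χ + 4 * z 3 χ : ℤ) : ℚ) ^ 2 / (d χ : ℚ)) =
      (![201600, 57600, 57600, 0] : Fin 4 → ℚ) i / (g : ℚ)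

theorem sum_ind_rat (a : ι) (F : ι → ℚ) : ∑ χ, ((ind a χ : ℤ) : ℚ) * F χ = F a := by simp [ind]

theorem ind_self (a : ι) : ind a a = 1 := if_pos rfl

theorem ind_ne {a χ : ι} (h : χ ≠ a) : ind a χ = 0 := if_neg h

theorem inv_signed {s : ℤ} (hs : s = 1 ∨ s = -1) (d : ℕ) : (s : ℚ) / (d : ℚ) = 1 / ((s * d : ℤ) : ℚ) := by
  rcases hs with rfl | rfl <;> simp [neg_div, div_neg]

theorem list_sq_le {d : ι → ℕ} {g : ℕ} (h : ∑ χ, d χ ^ 2 = g) {l : List ι} (hl : l.Nodup) :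
    (l.map fun χ => d χ ^ 2).sum ≤ g := by
  rw [← h, ← List.sum_toFinset _ hl]
  exact Finset.sum_le_sum_of_subset (Finset.subset_univ _)

theorem u_options : ∀ a ∈ Finset.Icc (-2 : ℤ) 2, ∀ b ∈ Finset.Icc (-2 : ℤ) 2, ∀ c ∈ Finset.Icc (-2 : ℤ) 2,
    ∀ q ∈ Finset.Icc (-2 : ℤ) 2, a + b + c + q = 4 → a ^ 2 + b ^ 2 + 2 * c ^ 2 + 2 * q ^ 2 ≤ 7 →
    (a = 1 ∧ b = 1 ∧ c = 1 ∧ q = 1) ∨ (a = 2 ∧ b = 1 ∧ c = 1 ∧ q = 0) ∨ (a = 1 ∧ b = 2 ∧ c = 1 ∧ q = 0) ∨
      (a = 2 ∧ b = 1 ∧ c = 0 ∧ q = 1) ∨ (a = 1 ∧ b = 2 ∧ c = 0 ∧ q = 1) := by decide +kernel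

/-- The supports of the two conjugate characters. -/
structure Four (z : Fin 4 → ι → ℤ) (o : ι) (p : Equiv.Perm ι) (a b c q : ι) : Prop where
  nd : [o, a, b, c, q, p c, p q].Nodup
  ua : z 1 a = 1 ∨ z 1 a = -1
  ub : z 1 b = 1 ∨ z 1 b = -1
  uc : z 1 c = 1 ∨ z 1 c = -1
  uq : z 1 q = 1 ∨ z 1 q = -1
  e1 : z 1 = fun χ => z 1 a * ind a χ + z 1 b * ind b χ + z 1 c * ind c χ + z 1 q * ind q χ
  e2 : z 2 = fun χ => z 1 a * ind a χ + z 1 b * ind b χ + z 1 c * ind (p c) χ + z 1 q * ind (p q) χ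

theorem Four.swap_ab {z : Fin 4 → ι → ℤ} {o : ι} {p : Equiv.Perm ι} {a b c q : ι} (F : Four z o p a b c q) :
    Four z o p b a c q :=
  ⟨(List.Perm.nodup_iff (List.Perm.cons o (List.Perm.swap _ _ _))).1 F.nd, F.ub, F.ua, F.uc, F.uq,
    F.e1.trans (funext fun χ => by ring), F.e2.trans (funext fun χ => by ring)⟩

theorem Four.swap_cq {z : Fin 4 → ι → ℤ} {o : ι} {p : Equiv.Perm ι} {a b c q : ι} (F : Four z o p a b c q) :
    Four z o p a b q c := by
  refine ⟨?_, F.ua, F.ub, F.uq, F.uc, F.e1.trans (funext fun χ => by ring), F.e2.trans (funext fun χ => by ring)⟩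
  have := F.nd
  simp only [List.nodup_cons, List.mem_cons, List.not_mem_nil, or_false, not_or, List.nodup_nil, and_true,
    not_false_eq_true, ne_eq, eq_comm] at this ⊢
  tauto

variable {z : Fin 4 → ι → ℤ} {o : ι} {p : Equiv.Perm ι} {d : ι → ℕ} {g : ℕ}

theorem Data.zfour (D : Data z o p d g) :
    ∃ h k, h ≠ k ∧ d h = d k ∧ z 3 = fun χ => ind h χ - ind k χ := by
  obtain ⟨a, b, s, r, hab, hs, hr, hz⟩ := norm_two D.g33
  have hd := D.deg 3
  rw [hz] at hd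
  simp only [add_mul, Finset.sum_add_distrib, mul_assoc, ← Finset.mul_sum, sum_ind_mul] at hd
  have := D.dpos a
  have := D.dpos b
  rcases hs with rfl | rfl <;> rcases hr with rfl | rfl
  · omega
  · exact ⟨a, b, hab, by omega, hz.trans (funext fun χ => by ring)⟩
  · exact ⟨b, a, hab.symm, by omega, hz.trans (funext fun χ => by ring)⟩
  · omega

/-- A vector of norm four and degree zero is a sum of four signed units. -/
theorem norm_four_deg {c : ι → ℤ} (hn : ∑ χ, c χ ^ 2 = 4) (hdpos : ∀ χ, 0 < d χ)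
    (hd : ∑ χ, c χ * (d χ : ℤ) = 0) :
    (∀ χ, c χ = 0 ∨ c χ = 1 ∨ c χ = -1) ∧ (Finset.univ.filter fun χ => c χ ≠ 0).card = 4 := by
  have hu : ∀ χ, c χ = 0 ∨ c χ = 1 ∨ c χ = -1 := by
    intro a
    have h1 := sq_le_norm c a
    rw [hn] at h1
    have hb : -2 ≤ c a ∧ c a ≤ 2 := ⟨by nlinarith, by nlinarith⟩
    by_contra hne
    have hsq : c a ^ 2 = 4 := by
      rcases (show c a = 2 ∨ c a = -2 by omega) with e | e <;> rw [e] <;> norm_num
    have h0 := norm_zero (c := fun χ => c χ - c a * ind a χ) (by rw [strip, hn, hsq]; norm_num)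
    have hc : c = fun χ => c a * ind a χ := funext fun χ => by
      have := congrFun h0 χ
      simp only [Pi.zero_apply, sub_eq_zero] at this
      exact this
    rw [hc] at hd
    simp only [mul_assoc, ← Finset.mul_sum, sum_ind_mul] at hd
    rcases mul_eq_zero.1 hd with h | h
    · exact hne (Or.inl h)
    · have := hdpos a; omega
  refine ⟨hu, ?_⟩
  have : ∀ χ, c χ ^ 2 = if c χ ≠ 0 then 1 else 0 := fun χ => by
    rcases hu χ with e | e | e <;> simp [e]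
  simp only [this, Finset.sum_boole] at hn
  exact_mod_cast hn

theorem Data.four (D : Data z o p d g) : ∃ a b c q, Four z o p a b c q := by
  classical
  obtain ⟨u1, c1⟩ := norm_four_deg D.g11 D.dpos (D.deg 1)
  obtain ⟨u2, c2⟩ := norm_four_deg D.g22 D.dpos (D.deg 2)
  set S1 := Finset.univ.filter fun χ => z 1 χ ≠ 0 with hS1
  set S2 := Finset.univ.filter fun χ => z 2 χ ≠ 0 with hS2
  set N := (S1 ∩ S2).filter fun χ => z 1 χ ≠ z 2 χ with hN
  have hprod : ∀ χ, z 1 χ * z 2 χ = (if χ ∈ S1 ∩ S2 then 1 else 0) - 2 * (if χ ∈ N then 1 else 0) := by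
    intro χ
    rcases u1 χ with e | e | e <;> rcases u2 χ with e' | e' | e' <;> simp [hS1, hS2, hN, e, e']
  have h12 := D.g12
  simp only [hprod, Finset.sum_sub_distrib, ← Finset.mul_sum, Finset.sum_boole, Finset.filter_mem_eq_inter,
    Finset.univ_inter] at h12
  have hle : (S1 ∩ S2).card ≤ 4 := c1 ▸ Finset.card_le_card Finset.inter_subset_left
  have hNle : N.card ≤ (S1 ∩ S2).card := Finset.card_filter_le _ _
  have hN0 : N.card = 0 := by
    by_contra hne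
    have hN1 : N.card = 1 ∧ (S1 ∩ S2).card = 4 := by omega
    obtain ⟨x, hx⟩ := Finset.card_eq_one.1 hN1.1
    have e1 : S1 ∩ S2 = S1 := Finset.eq_of_subset_of_card_le Finset.inter_subset_left (by omega)
    have e2 : S1 ∩ S2 = S2 := Finset.eq_of_subset_of_card_le Finset.inter_subset_right (by omega)
    have hxT : x ∈ N := by rw [hx]; exact Finset.mem_singleton_self x
    obtain ⟨hxT1, hxne⟩ := Finset.mem_filter.1 hxT
    simp only [hS1, hS2, Finset.mem_inter, Finset.mem_filter, Finset.mem_univ, true_and] at hxT1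
    have hdiff : ∀ χ, z 1 χ - z 2 χ = 2 * z 1 x * ind x χ := by
      intro χ
      by_cases hχ : χ = x
      · subst hχ
        rcases u1 χ with e | e | e <;> rcases u2 χ with e' | e' | e' <;> simp [ind_self, e, e'] at hxne hxT1 ⊢
      · rw [ind_ne hχ, mul_zero, sub_eq_zero]
        by_cases h1 : χ ∈ S1
        · have h : χ ∉ N := by rw [hx, Finset.mem_singleton]; exact hχ
          rw [hN, Finset.mem_filter] at h
          by_contra hne
          exact h ⟨e1.symm ▸ h1, hne⟩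
        · have h2 : χ ∉ S2 := fun h => h1 (e1 ▸ e2.symm ▸ h)
          simp only [hS1, hS2, Finset.mem_filter, Finset.mem_univ, true_and, not_not] at h1 h2
          rw [h1, h2]
    have h1 := D.deg 1
    have h2 := D.deg 2
    have : ∑ χ, (z 1 χ - z 2 χ) * (d χ : ℤ) = 0 := by simp only [sub_mul, Finset.sum_sub_distrib, h1, h2, sub_self]
    simp only [hdiff, mul_assoc, ← Finset.mul_sum, sum_ind_mul] at this
    have := D.dpos x
    rcases u1 x with e | e | e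
    · exact hxT1.1 e
    all_goals simp only [e] at *; omega
  have hT : (S1 ∩ S2).card = 2 := by omega
  obtain ⟨a, b, hab, eT⟩ := Finset.card_eq_two.1 hT
  have hR : (S1 \ (S1 ∩ S2)).card = 2 := by
    rw [Finset.card_sdiff_of_subset Finset.inter_subset_left]; omega
  obtain ⟨c, q, hcq, eR⟩ := Finset.card_eq_two.1 hR
  have mc : c ∈ S1 ∧ c ∉ S2 := by
    have : c ∈ S1 \ (S1 ∩ S2) := by rw [eR]; simp
    simp only [Finset.mem_sdiff, Finset.mem_inter, not_and] at this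
    exact ⟨this.1, this.2 this.1⟩
  have mq : q ∈ S1 ∧ q ∉ S2 := by
    have : q ∈ S1 \ (S1 ∩ S2) := by rw [eR]; simp
    simp only [Finset.mem_sdiff, Finset.mem_inter, not_and] at this
    exact ⟨this.1, this.2 this.1⟩
  have ma : a ∈ S1 ∧ a ∈ S2 := Finset.mem_inter.1 (by rw [eT]; simp)
  have mb : b ∈ S1 ∧ b ∈ S2 := Finset.mem_inter.1 (by rw [eT]; simp)
  simp only [hS1, hS2, Finset.mem_filter, Finset.mem_univ, true_and, not_not] at ma mb mc mq
  have same : ∀ χ, z 1 χ ≠ 0 → z 2 χ ≠ 0 → z 2 χ = z 1 χ := by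
    intro χ h1 h2
    by_contra hne
    have : χ ∈ N := by
      simp only [hN, hS1, hS2, Finset.mem_filter, Finset.mem_inter, Finset.mem_univ, true_and]
      exact ⟨⟨h1, h2⟩, Ne.symm hne⟩
    rw [Finset.card_eq_zero.1 hN0] at this
    simp at this
  have e2c : z 2 (p c) = z 1 c := D.p21 c
  have e2q : z 2 (p q) = z 1 q := D.p21 q
  have e1c : z 1 (p c) = 0 := (D.p12 c).trans mc.2
  have e1q : z 1 (p q) = 0 := (D.p12 q).trans mq.2
  have hnd : [o, a, b, c, q, p c, p q].Nodup := by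
    have o1 := D.z1o
    have o2 := D.z2o
    have hpq : p c ≠ p q := p.injective.ne hcq
    have nz : ∀ {x y : ι} {i : Fin 4}, z i x ≠ 0 → z i y = 0 → x ≠ y := fun h h' e => h (e ▸ h')
    simp only [List.nodup_cons, List.mem_cons, List.not_mem_nil, or_false, not_or, List.nodup_nil, and_true,
      not_false_eq_true]
    exact ⟨⟨(nz ma.1 o1).symm, (nz mb.1 o1).symm, (nz mc.1 o1).symm, (nz mq.1 o1).symm,
        (nz (by rw [e2c]; exact mc.1) o2).symm, (nz (by rw [e2q]; exact mq.1) o2).symm⟩,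
      ⟨hab, nz ma.2 mc.2, nz ma.2 mq.2, nz ma.1 e1c, nz ma.1 e1q⟩,
      ⟨nz mb.2 mc.2, nz mb.2 mq.2, nz mb.1 e1c, nz mb.1 e1q⟩,
      ⟨hcq, nz mc.1 e1c, nz mc.1 e1q⟩, ⟨nz mq.1 e1c, nz mq.1 e1q⟩, hpq⟩
  refine ⟨a, b, c, q, hnd, (u1 a).resolve_left ma.1, (u1 b).resolve_left mb.1, (u1 c).resolve_left mc.1,
    (u1 q).resolve_left mq.1, funext fun χ => ?_, funext fun χ => ?_⟩
  all_goals simp only [List.nodup_cons, List.mem_cons, List.not_mem_nil, or_false, not_or] at hnd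
  all_goals obtain ⟨-, ⟨n1, n2, n3, n4, n5⟩, ⟨n6, n7, n8, n9⟩, ⟨n10, n11, n12⟩, ⟨n13, n14⟩, n15, -⟩ := hnd
  · by_cases ha : χ = a
    · subst ha; simp [ind, n1, n2, n3]
    by_cases hb : χ = b
    · subst hb; simp [ind, ha, n6, n7]
    by_cases hc : χ = c
    · subst hc; simp [ind, ha, hb, n10]
    by_cases hq : χ = q
    · subst hq; simp [ind, ha, hb, hc]
    simp only [ind_ne ha, ind_ne hb, ind_ne hc, ind_ne hq, mul_zero, add_zero]
    by_contra hne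
    have h1 : χ ∈ S1 := by simp [hS1, hne]
    by_cases h2 : χ ∈ S2
    · have : χ ∈ ({a, b} : Finset ι) := eT ▸ Finset.mem_inter.2 ⟨h1, h2⟩
      simp [ha, hb] at this
    · have : χ ∈ ({c, q} : Finset ι) := eR ▸ Finset.mem_sdiff.2 ⟨h1, fun h => h2 (Finset.mem_inter.1 h).2⟩
      simp [hc, hq] at this
  · by_cases ha : χ = a
    · subst ha; simp [ind, n1, n4, n5, same χ ma.1 ma.2]
    by_cases hb : χ = b
    · subst hb; simp [ind, ha, n8, n9, same χ mb.1 mb.2]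
    by_cases hc : χ = p c
    · subst hc; simp [ind, ha, hb, n15, e2c]
    by_cases hq : χ = p q
    · subst hq; simp [ind, ha, hb, hc, e2q]
    simp only [ind_ne ha, ind_ne hb, ind_ne hc, ind_ne hq, mul_zero, add_zero]
    by_contra hne
    have hsub : ({a, b, p c, p q} : Finset ι) ⊆ S2 := by
      simp only [hS2, Finset.subset_iff, Finset.mem_insert, Finset.mem_singleton, Finset.mem_filter,
        Finset.mem_univ, true_and]
      rintro x (rfl | rfl | rfl | rfl)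
      exacts [ma.2, mb.2, by rw [e2c]; exact mc.1, by rw [e2q]; exact mq.1]
    have hcard : ({a, b, p c, p q} : Finset ι).card = 4 := by
      simp [n1, n4, n5, n8, n9, n15]
    have := Finset.eq_of_subset_of_card_le hsub (by omega)
    have h2 : χ ∈ S2 := by simp [hS2, hne]
    rw [← this] at h2
    simp [ha, hb, hc, hq] at h2

/-- the signed degree -/
def sdeg (z : Fin 4 → ι → ℤ) (d : ι → ℕ) (χ : ι) : ℤ := z 1 χ * d χ

theorem sdeg_ne {s : ℤ} (hs : s = 1 ∨ s = -1) {x : ℕ} (hx : 0 < x) : s * (x : ℤ) ≠ 0 := by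
  rcases hs with rfl | rfl <;> omega

theorem sdeg_sq {s : ℤ} (hs : s = 1 ∨ s = -1) (x : ℕ) : (s * (x : ℤ)) ^ 2 = ((x ^ 2 : ℕ) : ℤ) := by
  rcases hs with rfl | rfl <;> push_cast <;> ring

theorem term_sigma {σ t : ℤ} (hσ : σ = 1 ∨ σ = -1) (x : ℕ) :
    (σ : ℚ) * (((5 * σ + 4 * t : ℤ) : ℚ) ^ 2 / (x : ℚ)) =
      ((5 + 4 * (σ * t) : ℤ) : ℚ) ^ 2 * (1 / ((σ * x : ℤ) : ℚ)) := by
  rw [← inv_signed hσ]
  rcases hσ with rfl | rfl <;> push_cast <;> ring

theorem term_unit {σ k : ℤ} (hσ : σ = 1 ∨ σ = -1) (x : ℕ) :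
    (σ : ℚ) * (((k * σ : ℤ) : ℚ) ^ 2 / (x : ℚ)) = (k : ℚ) ^ 2 * (1 / ((σ * x : ℤ) : ℚ)) := by
  rw [← inv_signed hσ]
  rcases hσ with rfl | rfl <;> push_cast <;> ring

/-- The values of the second and third characters on the supports. -/
theorem Four.values {a b c q : ι} (F : Four z o p a b c q) :
    (z 2 a = z 1 a ∧ z 2 b = z 1 b ∧ z 2 c = 0 ∧ z 2 q = 0) ∧
    (z 1 (p c) = 0 ∧ z 1 (p q) = 0 ∧ z 2 (p c) = z 1 c ∧ z 2 (p q) = z 1 q) ∧
    (∀ y, z 1 y ≠ 0 → y = a ∨ y = b ∨ y = c ∨ y = q) := by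
  obtain ⟨hnd, ua, ub, uc, uq, e1, e2⟩ := F
  simp only [List.nodup_cons, List.mem_cons, List.not_mem_nil, or_false, not_or] at hnd
  obtain ⟨-, ⟨n1, n2, n3, n4, n5⟩, ⟨n6, n7, n8, n9⟩, ⟨n10, n11, n12⟩, ⟨n13, n14⟩, n15, -⟩ := hnd
  refine ⟨⟨?_, ?_, ?_, ?_⟩, ⟨?_, ?_, ?_, ?_⟩, fun y hy => ?_⟩
  · rw [congrFun e2 a]; simp [ind, n1, n4, n5]
  · rw [congrFun e2 b]; simp [ind, Ne.symm n1, n8, n9]
  · rw [congrFun e2 c]; simp [ind, Ne.symm n2, Ne.symm n6, n11, n12]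
  · rw [congrFun e2 q]; simp [ind, Ne.symm n3, Ne.symm n7, n13, n14]
  · rw [congrFun e1 (p c)]; simp [ind, Ne.symm n4, Ne.symm n8, Ne.symm n11, Ne.symm n13]
  · rw [congrFun e1 (p q)]; simp [ind, Ne.symm n5, Ne.symm n9, Ne.symm n12, Ne.symm n14]
  · rw [congrFun e2 (p c)]; simp [ind, Ne.symm n4, Ne.symm n8, n15]
  · rw [congrFun e2 (p q)]; simp [ind, Ne.symm n5, Ne.symm n9, Ne.symm n15]
  · by_contra hne
    push Not at hne
    obtain ⟨a1, a2, a3, a4⟩ := hne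
    rw [congrFun e1 y] at hy
    simp [ind, a1, a2, a3, a4] at hy

/-- Where the fourth character lives. -/
theorem Data.place (D : Data z o p d g) {a b c q : ι} (F : Four z o p a b c q) :
    (z 3 c = 0 ∧ z 3 q = 0 ∧ z 3 (p c) = 0 ∧ z 3 (p q) = 0) ∧
    ((z 3 a = 0 ∧ z 3 b = 0) ∨ (z 1 a = z 1 b ∧ d a = d b ∧ z 0 a = z 0 b ∧
      ∃ t, (t = 1 ∨ t = -1) ∧ z 3 a = t ∧ z 3 b = -t)) ∧
    ∀ y, z 3 y ≠ 0 → ∃ y', y' ≠ y ∧ z 0 y' = z 0 y ∧ z 1 y' = z 1 y ∧ z 2 y' = z 2 y ∧ z 3 y' ≠ 0 := by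
  obtain ⟨h, k, hhk, hdhk, hz3⟩ := D.zfour
  have vh : z 3 h = 1 := by rw [hz3]; simp [ind, hhk]
  have vk : z 3 k = -1 := by rw [hz3]; simp [ind, hhk.symm]
  have cases3 : ∀ y, z 3 y ≠ 0 → y = h ∨ y = k := fun y hy => by
    by_contra hne
    push Not at hne
    rw [hz3] at hy
    simp [ind, hne.1, hne.2] at hy
  have hfix : ∀ y, z 3 y ≠ 0 → p y = y := fun y hy => by
    have h' := D.p3 y
    rcases cases3 y hy with rfl | rfl <;> rcases cases3 (p y) (by rw [h']; exact hy) with e | e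
    · exact e
    · rw [e, vk, vh] at h'; omega
    · rw [e, vk, vh] at h'; omega
    · exact e
  have z1h : ∀ i : Fin 4, ∑ χ, z i χ * z 3 χ = 0 → z i h = z i k := fun i hi => by
    simp only [hz3, mul_sub, Finset.sum_sub_distrib] at hi
    simp only [mul_comm (z i _) (ind _ _), sum_ind_mul] at hi
    omega
  have k0 := z1h 0 D.g03
  have k1 := z1h 1 D.g13
  have k2 := z1h 2 D.g23
  obtain ⟨-, -, hsupp⟩ := F.values
  have hnd := F.nd
  simp only [List.nodup_cons, List.mem_cons, List.not_mem_nil, or_false, not_or] at hnd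
  obtain ⟨-, ⟨n1, n2, n3, n4, n5⟩, ⟨n6, n7, n8, n9⟩, ⟨n10, n11, n12⟩, ⟨n13, n14⟩, n15, -⟩ := hnd
  have hc : z 3 c = 0 := by_contra fun h' => n11 (hfix _ h').symm
  have hq : z 3 q = 0 := by_contra fun h' => n14 (hfix _ h').symm
  have hpc : z 3 (p c) = 0 := by rw [D.p3, hc]
  have hpq : z 3 (p q) = 0 := by rw [D.p3, hq]
  refine ⟨⟨hc, hq, hpc, hpq⟩, ?_, fun y hy => ?_⟩
  · by_cases hab : z 3 a = 0 ∧ z 3 b = 0
    · exact Or.inl hab
    have ha1 : z 1 a ≠ 0 := by rcases F.ua with e | e <;> omega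
    have hb1 : z 1 b ≠ 0 := by rcases F.ub with e | e <;> omega
    have key : ∀ y, z 1 y ≠ 0 → z 3 y ≠ 0 → y = a ∨ y = b := fun y h1 h3 => by
      rcases hsupp y h1 with e | e | e | e
      · exact Or.inl e
      · exact Or.inr e
      · exact absurd (e ▸ hc) h3
      · exact absurd (e ▸ hq) h3
    have h1h : z 1 h ≠ 0 := by
      by_contra h0
      refine hab ⟨by_contra fun h' => ?_, by_contra fun h' => ?_⟩
      · rcases cases3 a h' with rfl | rfl <;> omega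
      · rcases cases3 b h' with rfl | rfl <;> omega
    right
    rcases key h h1h (by omega) with rfl | rfl <;> rcases key k (by omega) (by omega) with rfl | rfl
    · exact absurd rfl hhk
    · exact ⟨k1, hdhk, k0, 1, Or.inl rfl, vh, vk⟩
    · exact ⟨k1.symm, hdhk.symm, k0.symm, -1, Or.inr rfl, vk, by rw [vh]; norm_num⟩
    · exact absurd rfl hhk
  · rcases cases3 y hy with rfl | rfl
    · exact ⟨k, hhk.symm, k0.symm, k1.symm, k2.symm, by omega⟩
    · exact ⟨h, hhk, k0, k1, k2, by omega⟩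

theorem Data.main (D : Data z o p d g) {a b c q : ι} (F : Four z o p a b c q)
    (ha : z 0 a = z 1 a) (hb : z 0 b = z 1 b) (hc : z 0 c = z 1 c) (hq : z 0 q = z 1 q)
    (hg : 0 < g) (h168 : 168 ∣ g) (hodd : g / 8 % 2 = 1) : g = 175560 ∨ g = 189000 := by
  obtain ⟨⟨za, zb, zc, zq⟩, ⟨z1c, z1q, z2c, z2q⟩, hsupp⟩ := F.values
  obtain ⟨⟨p3c, p3q, p3pc, p3pq⟩, hab3, hpart⟩ := D.place F
  obtain ⟨hnd, ua, ub, uc, uq, e1, e2⟩ := F
  have hnd' := hnd
  simp only [List.nodup_cons, List.mem_cons, List.not_mem_nil, or_false, not_or] at hnd'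
  obtain ⟨⟨no1, no2, no3, no4, no5, no6⟩, ⟨n1, n2, n3, n4, n5⟩, ⟨n6, n7, n8, n9⟩, ⟨n10, n11, n12⟩, ⟨n13, n14⟩,
    n15, -⟩ := hnd'
  -- the rest of the first character
  have hs := strip_list (z 0) [o, a, b, c, q, p c, p q] hnd
  have hsq : ∀ {s : ℤ}, (s = 1 ∨ s = -1) → s ^ 2 = 1 := fun h => by rcases h with rfl | rfl <;> norm_num
  simp only [List.map_cons, List.map_nil, List.sum_cons, List.sum_nil, D.z0o, D.p0, ha, hb, hc, hq, D.g00,
    hsq ua, hsq ub, hsq uc, hsq uq] at hs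
  obtain ⟨x, s, hs1, hx⟩ := norm_one (hs.trans (by norm_num))
  have e0 : ∀ χ, z 0 χ = ind o χ + z 1 a * ind a χ + z 1 b * ind b χ + z 1 c * ind c χ + z 1 q * ind q χ +
      z 1 c * ind (p c) χ + z 1 q * ind (p q) χ + s * ind x χ := fun χ => by
    have := congrFun hx χ; linarith
  have sne : s ≠ 0 := by omega
  have xne : x ≠ o ∧ x ≠ a ∧ x ≠ b ∧ x ≠ c ∧ x ≠ q ∧ x ≠ p c ∧ x ≠ p q := by
    refine ⟨?_, ?_, ?_, ?_, ?_, ?_, ?_⟩ <;> intro e <;> have h0 := e0 x <;> subst e <;>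
      simp [ind, D.z0o, D.p0, ha, hb, hc, hq, no1, no2, no3, no4, no5, no6, n1, n2, n3, n4, n5, n6, n7, n8, n9,
        n10, n11, n12, n13, n14, n15, Ne.symm no1, Ne.symm no2, Ne.symm no3, Ne.symm no4, Ne.symm no5, Ne.symm no6,
        Ne.symm n1, Ne.symm n2, Ne.symm n3, Ne.symm n4, Ne.symm n5, Ne.symm n6, Ne.symm n7, Ne.symm n8, Ne.symm n9,
        Ne.symm n10, Ne.symm n11, Ne.symm n12, Ne.symm n13, Ne.symm n14, Ne.symm n15, sne] at h0
  obtain ⟨x0, x1, x2, x3, x4, x5, x6⟩ := xne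
  have z0x : z 0 x = s := by rw [e0]; simp [ind, x0, x1, x2, x3, x4, x5, x6]
  have z1x : z 1 x = 0 := by rw [congrFun e1 x]; simp [ind, x1, x2, x3, x4]
  have z2x : z 2 x = 0 := by rw [congrFun e2 x]; simp [ind, x1, x2, x5, x6]
  have z3x : z 3 x = 0 := by
    by_contra h'
    obtain ⟨y, hy, y0, y1, y2, y3⟩ := hpart x h'
    have u : ∀ {w}, z 1 w ≠ 0 → y ≠ w := fun h e => h (e ▸ (y1.trans z1x))
    have u2 : ∀ {w}, z 2 w ≠ 0 → y ≠ w := fun h e => h (e ▸ (y2.trans z2x))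
    have : y ≠ o := fun e => y3 (e ▸ D.z3o)
    have := e0 y
    rw [y0, z0x] at this
    simp [ind, hy, ‹y ≠ o›, u (show z 1 a ≠ 0 by omega), u (show z 1 b ≠ 0 by omega), u (show z 1 c ≠ 0 by omega),
      u (show z 1 q ≠ 0 by omega), u2 (show z 2 (p c) ≠ 0 by omega), u2 (show z 2 (p q) ≠ 0 by omega)] at this
    exact sne this
  -- degrees
  have d1 := D.deg 1
  rw [e1] at d1
  simp only [add_mul, Finset.sum_add_distrib, mul_assoc, ← Finset.mul_sum, sum_ind_mul] at d1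
  have d0 := D.deg 0
  simp only [e0, add_mul, Finset.sum_add_distrib, mul_assoc, ← Finset.mul_sum, sum_ind_mul, D.do1, D.dp] at d0
  have hG : s * (d x : ℤ) = -1 - (z 1 c * d c + z 1 q * d q) := by push_cast at d0; linarith
  have eq0 := D.eq 0
  have eq1 := D.eq 1
  set v : ι → ℤ := fun χ => z 0 χ + 2 * z 1 χ + 2 * z 2 χ + 4 * z 3 χ with hv
  change ∑ χ, (z 0 χ : ℚ) * ((v χ : ℚ) ^ 2 / (d χ : ℚ)) = _ at eq0
  change ∑ χ, (z 1 χ : ℚ) * ((v χ : ℚ) ^ 2 / (d χ : ℚ)) = _ at eq1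
  rw [Finset.sum_congr rfl fun χ _ => congrArg (fun w : ℤ => (w : ℚ) * _) (congrFun e1 χ)] at eq1
  simp only [e0, Int.cast_add, Int.cast_mul, add_mul, Finset.sum_add_distrib, mul_assoc,
    ← Finset.mul_sum, sum_ind_rat] at eq0 eq1
  have vo : v o = 1 := by simp [hv, D.z0o, D.z1o, D.z2o, D.z3o]
  have va : v a = 5 * z 1 a + 4 * z 3 a := by simp only [hv]; rw [ha, za]; ring
  have vb : v b = 5 * z 1 b + 4 * z 3 b := by simp only [hv]; rw [hb, zb]; ring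
  have vc : v c = 3 * z 1 c := by simp only [hv]; rw [hc, zc, p3c]; ring
  have vq : v q = 3 * z 1 q := by simp only [hv]; rw [hq, zq, p3q]; ring
  have vpc : v (p c) = 3 * z 1 c := by simp only [hv]; rw [D.p0, hc, z1c, z2c, p3pc]; ring
  have vpq : v (p q) = 3 * z 1 q := by simp only [hv]; rw [D.p0, hq, z1q, z2q, p3pq]; ring
  have vx : v x = 1 * s := by simp only [hv]; rw [z0x, z1x, z2x, z3x]; ring
  simp only [vo, va, vb, vc, vq, vpc, vpq, vx, D.dp, D.do1, term_sigma ua, term_sigma ub, term_unit uc, term_unit uq,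
    term_unit hs1] at eq0 eq1
  rw [hG] at eq0
  have cA := D.cong a
  have cB := D.cong b
  have cC := D.cong c
  have cQ := D.cong q
  rw [ha, za] at cA; rw [hb, zb] at cB; rw [hc, zc, p3c] at cC; rw [hq, zq, p3q] at cQ
  have hC8 : (z 1 c * (d c : ℤ)) % 8 = 3 := by rcases uc with e | e <;> rw [e] at cC ⊢ <;> omega
  have hQ8 : (z 1 q * (d q : ℤ)) % 8 = 3 := by rcases uq with e | e <;> rw [e] at cQ ⊢ <;> omega
  have sq4 := list_sq_le D.sq (l := [c, q, p c, p q])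
    (by simp only [List.nodup_cons, List.mem_cons, List.not_mem_nil, or_false, not_or, List.nodup_nil, and_true,
      not_false_eq_true]; exact ⟨⟨n10, n11, n12⟩, ⟨n13, n14⟩, n15⟩)
  simp only [List.map_cons, List.map_nil, List.sum_cons, List.sum_nil, D.dp] at sq4
  rcases hab3 with ⟨a3, b3⟩ | ⟨hab, hdab, -, t, ht, a3, b3⟩
  · rw [a3] at cA eq0 eq1; rw [b3] at cB eq0 eq1
    refine main_arith (A := z 1 a * d a) (B := z 1 b * d b) ?_ ?_ hC8 hQ8 (by linarith) hg ?_ ?_ h168 hodd ?_ ?_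
    · rcases ua with e | e <;> rw [e] at cA ⊢ <;> omega
    · rcases ub with e | e <;> rw [e] at cB ⊢ <;> omega
    · rw [sdeg_sq uc]; omega
    · rw [sdeg_sq uq]; omega
    · push_cast at eq0 eq1 ⊢
      linear_combination 2 * eq0 - 7 * eq1
    · push_cast at eq0 eq1 ⊢
      linear_combination (-2 : ℚ) * eq0 + 2 * eq1
  · exfalso
    rw [a3] at cA eq0 eq1; rw [b3, ← hab, ← hdab] at eq0 eq1
    have htt : (z 1 a * t) ^ 2 = 1 := by rcases ua with e | e <;> rcases ht with rfl | rfl <;> rw [e] <;> norm_num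
    refine ab_arith (A := z 1 a * d a) ?_ hC8 hQ8 (by rw [← hab, ← hdab] at d1; linarith) hg ?_ ?_ ?_
    · rcases ua with e | e <;> rcases ht with rfl | rfl <;> rw [e] at cA ⊢ <;> omega
    · have := list_sq_le D.sq (l := [a, b]) (by simp [n1])
      simp [← hdab] at this
      rw [sdeg_sq ua]; omega
    all_goals
      rw [show 2 * (z 1 a * (d a : ℤ)) - 1 = -1 - (z 1 c * d c + z 1 q * d q) by rw [← hab, ← hdab] at d1; omega]
      have htq : ((z 1 a : ℚ) * (t : ℚ)) ^ 2 = 1 := by exact_mod_cast htt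
      push_cast at eq0 eq1 ⊢
    · linear_combination 2 * eq0 - 7 * eq1 + (160 / ((z 1 a : ℚ) * (d a : ℚ))) * htq
    · linear_combination (-2 : ℚ) * eq0 + 4 * eq1 - (64 / ((z 1 a : ℚ) * (d a : ℚ))) * htq

theorem Data.alt (D : Data z o p d g) {a b c q : ι} (F : Four z o p a b c q)
    (ha : z 0 a = 2 * z 1 a) (hb : z 0 b = z 1 b) (hc : z 0 c = z 1 c) (hq : z 0 q = 0)
    (hg : 0 < g) : False := by
  obtain ⟨⟨za, zb, zc, zq⟩, ⟨z1c, z1q, z2c, z2q⟩, -⟩ := F.values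
  obtain ⟨⟨p3c, p3q, p3pc, p3pq⟩, hab3, -⟩ := D.place F
  obtain ⟨hnd, ua, ub, uc, uq, e1, e2⟩ := F
  have hs := strip_list (z 0) [o, a, b, c, q, p c, p q] hnd
  have hsq : ∀ {s : ℤ}, (s = 1 ∨ s = -1) → s ^ 2 = 1 := fun h => by rcases h with rfl | rfl <;> norm_num
  simp only [List.map_cons, List.map_nil, List.sum_cons, List.sum_nil, D.z0o, D.p0, ha, hb, hc, hq, D.g00,
    mul_pow, hsq ua, hsq ub, hsq uc] at hs
  have hx := norm_zero (hs.trans (by norm_num))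
  have e0 : ∀ χ, z 0 χ = ind o χ + 2 * z 1 a * ind a χ + z 1 b * ind b χ + z 1 c * ind c χ +
      z 1 c * ind (p c) χ := fun χ => by
    have h := congrFun hx χ
    simp only [Pi.zero_apply] at h
    linarith
  rcases hab3 with ⟨a3, b3⟩ | ⟨hab, -, h0, -⟩
  swap
  · rw [ha, hb, ← hab] at h0; omega
  have d1 := D.deg 1
  rw [e1] at d1
  simp only [add_mul, Finset.sum_add_distrib, mul_assoc, ← Finset.mul_sum, sum_ind_mul] at d1
  have d0 := D.deg 0
  simp only [e0, add_mul, Finset.sum_add_distrib, mul_assoc, ← Finset.mul_sum, sum_ind_mul, D.do1, D.dp] at d0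
  have eq0 := D.eq 0
  have eq1 := D.eq 1
  set v : ι → ℤ := fun χ => z 0 χ + 2 * z 1 χ + 2 * z 2 χ + 4 * z 3 χ with hv
  change ∑ χ, (z 0 χ : ℚ) * ((v χ : ℚ) ^ 2 / (d χ : ℚ)) = _ at eq0
  change ∑ χ, (z 1 χ : ℚ) * ((v χ : ℚ) ^ 2 / (d χ : ℚ)) = _ at eq1
  rw [Finset.sum_congr rfl fun χ _ => congrArg (fun w : ℤ => (w : ℚ) * _) (congrFun e1 χ)] at eq1
  simp only [e0, Int.cast_add, Int.cast_mul, add_mul, Finset.sum_add_distrib, mul_assoc,
    ← Finset.mul_sum, sum_ind_rat] at eq0 eq1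
  have vo : v o = 1 := by simp [hv, D.z0o, D.z1o, D.z2o, D.z3o]
  have va : v a = 6 * z 1 a := by simp only [hv]; rw [ha, za, a3]; ring
  have vb : v b = 5 * z 1 b := by simp only [hv]; rw [hb, zb, b3]; ring
  have vc : v c = 3 * z 1 c := by simp only [hv]; rw [hc, zc, p3c]; ring
  have vq : v q = 2 * z 1 q := by simp only [hv]; rw [hq, zq, p3q]; ring
  have vpc : v (p c) = 3 * z 1 c := by simp only [hv]; rw [D.p0, hc, z1c, z2c, p3pc]; ring
  simp only [vo, va, vb, vc, vq, vpc, D.dp, D.do1, term_unit ua, term_unit ub, term_unit uc, term_unit uq] at eq0 eq1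
  have cA := D.cong a
  have cC := D.cong c
  rw [ha, za, a3] at cA; rw [hc, zc, p3c] at cC
  push_cast at d0 d1
  have sqA := list_sq_le D.sq (l := [a]) (List.nodup_singleton a)
  have sqC := list_sq_le D.sq (l := [c, p c]) (by
    simp only [List.nodup_cons, List.mem_cons, List.not_mem_nil, or_false, not_or, List.nodup_nil, and_true,
      not_false_eq_true] at hnd ⊢
    exact hnd.2.2.2.1.2.1)
  simp [D.dp] at sqA sqC
  refine alt_arith (A := z 1 a * d a) (B := z 1 b * d b) (C := z 1 c * d c) (D := z 1 q * d q) (g := g) ?_ ?_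
    (by linarith) (by linarith) hg ?_ ?_ ?_ ?_
  · rcases ua with e | e <;> rw [e] at cA ⊢ <;> omega
  · rcases uc with e | e <;> rw [e] at cC ⊢ <;> omega
  · rw [sdeg_sq ua]; omega
  · rw [sdeg_sq uc]; omega
  · push_cast at eq0 eq1 ⊢
    linear_combination 2 * eq0 - 7 * eq1
  · push_cast at eq0 eq1 ⊢
    linear_combination (-3 : ℚ) * eq1

/-- The two possible orders. -/
theorem Data.order (D : Data z o p d g) (h168 : 168 ∣ g) (hodd : g / 8 % 2 = 1) :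
    g = 175560 ∨ g = 189000 := by
  have hg : 0 < g := by omega
  obtain ⟨a, b, c, q, F⟩ := D.four
  obtain ⟨hnd, ua, ub, uc, uq, e1, e2⟩ := id F
  have hs := strip_list (z 0) [o, a, b, c, q, p c, p q] hnd
  simp only [List.map_cons, List.map_nil, List.sum_cons, List.sum_nil, D.z0o, D.p0, D.g00] at hs
  have hle := hs ▸ Finset.sum_nonneg (fun χ _ => sq_nonneg _)
  have h01 := D.g01
  rw [Finset.sum_congr rfl fun χ _ => congrArg (z 0 χ * ·) (congrFun e1 χ)] at h01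
  simp only [mul_add, Finset.sum_add_distrib, mul_left_comm (z 0 _) (z 1 _), ← Finset.mul_sum,
    mul_comm (z 0 _) (ind _ _), sum_ind_mul] at h01
  have mem : ∀ {s w : ℤ}, (s = 1 ∨ s = -1) → w ^ 2 ≤ 7 → s * w ∈ Finset.Icc (-2 : ℤ) 2 := by
    intro s w hs hw
    have : -3 < w ∧ w < 3 := ⟨by nlinarith, by nlinarith⟩
    rcases hs with rfl | rfl <;> simp only [Finset.mem_Icc] <;> omega
  have sq1 : ∀ {s w : ℤ}, (s = 1 ∨ s = -1) → (s * w) ^ 2 = w ^ 2 := fun h => by rcases h with rfl | rfl <;> ring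
  have := sq_nonneg (z 0 a); have := sq_nonneg (z 0 b); have := sq_nonneg (z 0 c); have := sq_nonneg (z 0 q)
  have h := u_options _ (mem ua (w := z 0 a) (by linarith)) _ (mem ub (w := z 0 b) (by linarith))
    _ (mem uc (w := z 0 c) (by linarith)) _ (mem uq (w := z 0 q) (by linarith)) (by linarith)
    (by rw [sq1 ua, sq1 ub, sq1 uc, sq1 uq]; linarith)
  have back : ∀ {s w k : ℤ}, (s = 1 ∨ s = -1) → s * w = k → w = k * s := fun h e => by
    rcases h with rfl | rfl <;> omega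
  rcases h with ⟨h1, h2, h3, h4⟩ | ⟨h1, h2, h3, h4⟩ | ⟨h1, h2, h3, h4⟩ | ⟨h1, h2, h3, h4⟩ | ⟨h1, h2, h3, h4⟩ <;>
    replace h1 := back ua h1 <;> replace h2 := back ub h2 <;> replace h3 := back uc h3 <;>
    replace h4 := back uq h4 <;> simp only [one_mul, zero_mul] at h1 h2 h3 h4
  · exact D.main F h1 h2 h3 h4 hg h168 hodd
  · exact (D.alt F h1 h2 h3 h4 hg).elim
  · exact (D.alt F.swap_ab h2 h1 h3 h4 hg).elim
  · exact (D.alt F.swap_cq h1 h2 h4 h3 hg).elim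
  · exact (D.alt F.swap_ab.swap_cq h2 h1 h4 h3 hg).elim

end Cfsg.Agent.Lead.JankoOne
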