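import Cfsg.Agent.Lib.Lead.JankoOne.Checks

/-!
# Finite checks for the amalgam of `C₂ × A₅` and `2³ : 7 : 3`
-/

set_option autoImplicit false
set_option maxRecDepth 20000

namespace Cfsg.Agent.Lead.JankoOne

def swap01 (i : ℕ) : ℕ := if i = 0 then 1 else if i = 1 then 0 else i

/-- conjugation by the transposition `(0 1)` on codes -/
def thc (x : ℕ) : ℕ := pack (x / 3125) fun i => swap01 (dg x (swap01 i))

theorem thc_check : (∀ x ∈ [194, 714, 1634, 2154, 3319, 3839, 4759, 5279], thc x ∈ [194, 714, 1634, 2154, 3319, 3839, 4759, 5279]) ∧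
    thc 3319 = 3319 ∧ thc 714 = 714 ∧ thc 894 = iv 894 ∧ thc 194 = 194 := by decide +kernel

theorem syl_normaliser : ∀ c ∈ codes, (∀ p ∈ [714, 1634, 3319], mc (mc c p) (iv c) ∈ [194, 714, 1634, 2154, 3319, 3839, 4759, 5279]) →
    c ∈ cAFour := by decide +kernel

theorem syl_fixed : ∀ p ∈ [194, 714, 1634, 2154, 3319, 3839, 4759, 5279], mc p 894 = mc 894 p → p = 194 ∨ p = 3319 := by
  decide +kernel

theorem amalgam_codes : mc (mc 894 714) (iv 894) = 2154 ∧ mc (mc 894 2154) (iv 894) = 1634 ∧ mc 714 2154 = 1634 ∧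
    mc (mc 238 894) (iv 238) = 1190 ∧ mc (mc 238 698) (iv 238) = 714 ∧ mc 2154 3319 = 5279 ∧
    mc 3319 714 = 3839 ∧ mc 714 3319 = 3839 ∧ mc 714 5279 = 4759 ∧ 238 ∈ codes ∧ 714 ∈ codes ∧ 1634 ∈ codes ∧
    2154 ∈ codes ∧ 1190 ∈ codes ∧ 482 ∈ codes ∧ 894 ∈ cAFour ∧ 2154 ∈ cAFour ∧ 714 ∈ cAFour := by decide +kernel

theorem five_near : ∀ c ∈ codes, c ≠ 194 → pw c 5 = 194 → mc (mc 5279 c) 5279 = iv c →
    ∃ i ∈ [1, 2, 3, 4], pw c i = 970 ∨ pw c i = 1202 := by decide +kernel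

theorem five_far : ∀ c ∈ codes, c ≠ 194 → pw c 5 = 194 → mc (mc 1634 c) 1634 = iv c →
    ∃ i ∈ [1, 2, 3, 4], pw c i = 1110 ∨ pw c i = 1138 := by decide +kernel

/-- one round of closing a list under right multiplication -/
def grow (l : List ℕ) : List ℕ :=
  (l ++ l.map (fun x => mc x 3319) ++ l.map (fun x => mc x 482) ++ l.map (fun x => mc x 894)).eraseDups

/-- closing a list -/
def growN : ℕ → List ℕ
  | 0 => [194]
  | n + 1 => grow (growN n)

theorem cg_generated : ∀ c ∈ codes, c ∈ growN 14 := by decide +kernel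

theorem involution_count : (codes.filter fun u => u != 194 && mc u u == 194).length = 31 := by decide +kernel

end Cfsg.Agent.Lead.JankoOne
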