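import Cfsg.Agent.Lib.Lead.JankoOne.Main
import Cfsg.Agent.Lib.Lead.JankoOne.ChecksAmalgam

/-!
# The amalgam inside a group of order 175560
-/

set_option autoImplicit false
set_option maxRecDepth 20000
set_option linter.style.haveILetI false

namespace Cfsg.Agent.Lead.JankoOne

open Cfsg Cfsg.Agent.Char
open Cfsg.Agent.Lead.GLTwoThree (orderOf_two_iff mem_cent_iff t_mem)

/-- conjugation of the alternating factor by `(0 1)` -/
noncomputable def theta01 : CG ≃* CG :=
  MulEquiv.prodCongr (MulEquiv.refl _) (MulAut.conjNormal (Equiv.swap (0 : Fin 5) 1))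

theorem cod_theta01 (g : CG) : cod (theta01 g) = thc (cod g) := by
  obtain ⟨a1, a2⟩ := cod_digits g
  obtain ⟨b1, b2⟩ := cod_digits (theta01 g)
  have hsw : ∀ i : Fin 5, (Equiv.swap (0 : Fin 5) 1 i).val = swap01 i.val := by decide
  have hval : ∀ i : Fin 5, ((theta01 g).2 : Equiv.Perm (Fin 5)) i =
      Equiv.swap (0 : Fin 5) 1 ((g.2 : Equiv.Perm (Fin 5)) (Equiv.swap (0 : Fin 5) 1 i)) := by
    intro i
    show ((MulAut.conjNormal (Equiv.swap (0 : Fin 5) 1) g.2 : alternatingGroup (Fin 5)) : Equiv.Perm (Fin 5)) i = _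
    rw [MulAut.conjNormal_apply, Equiv.swap_inv]
    rfl
  have key : ∀ i : Fin 5, ((g.2 : Equiv.Perm (Fin 5)) (Equiv.swap (0 : Fin 5) 1 i)).val = dg (cod g) (swap01 i.val) :=
    fun i => by rw [← hsw, a2]
  have k : ∀ i : Fin 5, (((theta01 g).2 : Equiv.Perm (Fin 5)) i).val = swap01 (dg (cod g) (swap01 i.val)) :=
    fun i => by rw [hval, hsw, key]
  have hfst : (theta01 g).1 = g.1 := rfl
  conv_lhs => rw [cod]
  simp only [thc, pack, a1, hfst]
  rw [k, k, k, k, k]
  rfl

universe u

variable {G : Type u} [Group G] {t : G}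
variable (e : ↥(Subgroup.centralizer ({t} : Set G)) ≃* CG)

/-- the element with a given code -/
noncomputable def lift (c : ℕ) : G :=
  if h : c ∈ codes then ((e.symm (ofCode c h) : ↥(Subgroup.centralizer ({t} : Set G))) : G) else 1

theorem lift_mem (c : ℕ) : lift e c ∈ Subgroup.centralizer ({t} : Set G) := by
  unfold lift
  split_ifs
  · exact SetLike.coe_mem _
  · exact one_mem _

theorem lift_eq {c : ℕ} {n : ↥(Subgroup.centralizer ({t} : Set G))} (h : cod (e n) = c) : lift e c = n := by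
  subst h
  rw [lift, dif_pos (cod_mem _)]
  refine congrArg Subtype.val (e.injective ?_)
  rw [e.apply_symm_apply]
  exact cod_injective (cod_ofCode _ _)

theorem lift_coe {c : ℕ} (h : c ∈ codes) :
    (⟨lift e c, lift_mem e c⟩ : ↥(Subgroup.centralizer ({t} : Set G))) = e.symm (ofCode c h) :=
  Subtype.ext (show lift e c = _ by rw [lift, dif_pos h])

theorem lift_mul {a b : ℕ} (ha : a ∈ codes) (hb : b ∈ codes) : lift e a * lift e b = lift e (mc a b) := by
  rw [lift_eq e (n := e.symm (ofCode a ha) * e.symm (ofCode b hb)) (c := mc a b)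
    (by rw [map_mul, cod_mul, cod_lift, cod_lift]), lift, dif_pos ha, lift, dif_pos hb, Subgroup.coe_mul]

theorem lift_one : lift e 194 = 1 := lift_eq e (n := 1) (by rw [map_one, cod_one])

theorem lift_inv {a : ℕ} (ha : a ∈ codes) : lift e (iv a) = (lift e a)⁻¹ := by
  rw [lift_eq e (n := (e.symm (ofCode a ha))⁻¹) (c := iv a) (by rw [map_inv, cod_inv, cod_lift]), lift, dif_pos ha,
    Subgroup.coe_inv]

theorem lift_pow {a : ℕ} (ha : a ∈ codes) (n : ℕ) : lift e a ^ n = lift e (pw a n) := by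
  rw [lift_eq e (n := (e.symm (ofCode a ha)) ^ n) (c := pw a n) (by rw [map_pow, cod_pow, cod_lift]), lift,
    dif_pos ha, Subgroup.coe_pow]

theorem lift_cod (n : ↥(Subgroup.centralizer ({t} : Set G))) : lift e (cod (e n)) = n := lift_eq e rfl

theorem lift_conj {w a : ℕ} (hw : w ∈ codes) (ha : a ∈ codes) (hwa : mc w a ∈ codes) :
    lift e w * lift e a * (lift e w)⁻¹ = lift e (mc (mc w a) (iv w)) := by
  have hi : iv w ∈ codes := by
    rw [← cod_ofCode w hw, ← cod_inv]; exact cod_mem _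
  rw [← lift_inv e hw, lift_mul e hw ha, lift_mul e hwa hi]

theorem mc_mem {a b : ℕ} (ha : a ∈ codes) (hb : b ∈ codes) : mc a b ∈ codes := by
  rw [← cod_ofCode a ha, ← cod_ofCode b hb, ← cod_mul]; exact cod_mem _

theorem xG_eq : xG e = lift e 894 := by rw [xG, lift, dif_pos three_base.1]

theorem sG_eq : sG e = lift e 698 := by rw [sG, lift, dif_pos three_base.2.1]

variable [Finite G]

include e in
/-- The normalising element of order seven. -/
theorem exists_seven [IsSimpleGroup G] (h2c : IsTwoCentralInvolution t) :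
    ∃ (e' : ↥(Subgroup.centralizer ({t} : Set G)) ≃* CG) (y : G), y ^ 7 = 1 ∧ y ∉ Subgroup.centralizer ({t} : Set G) ∧
      lift e' 894 * y * (lift e' 894)⁻¹ = y ^ 2 ∧ y * lift e' 714 * y⁻¹ = t := by
  have ht := h2c.1
  haveI : Fact (Nat.Prime 2) := ⟨Nat.prime_two⟩
  haveI : Fact (Nat.Prime 3) := ⟨by norm_num⟩
  haveI : Fact (Nat.Prime 7) := ⟨by norm_num⟩
  obtain ⟨hconj, -⟩ := one_class ht e h2c
  obtain ⟨⟨P, hP⟩, -, -⟩ := sylow_facts ht e h2c
  set S := sylG e with hS
  let N := Subgroup.normalizer (S : Set G)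
  classical
  haveI := Fintype.ofFinite G
  letI : MulAction N G := MulAction.compHom G (((ConjAct.toConjAct : G ≃* ConjAct G).toMonoidHom).comp N.subtype)
  have hsmul : ∀ (n : N) (z : G), n • z = (n : G) * z * (n : G)⁻¹ := fun n z => rfl
  have hsyl : ∀ c ∈ cSyl, lift e c ∈ S := fun c hc => (mem_sylG e).2 ⟨lift_mem e c, by
    have hc' := (syl_check.1 c hc).1
    rw [lift_coe e (c := c) hc', cod_lift]
    exact hc⟩
  have htS : t ∈ S := t_mem_sylG ht e
  obtain ⟨tt, t1⟩ := orderOf_two_iff.1 ht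
  have horb : MulAction.orbit N t = (S : Set G) \ {1} := by
    ext z
    constructor
    · rintro ⟨n, rfl⟩
      refine ⟨(Subgroup.mem_normalizer_iff.1 n.2 t).1 htS, fun h => t1 ?_⟩
      exact conj_eq_one_iff.1 h
    · rintro ⟨hz, hz1⟩
      obtain ⟨g, hg⟩ := isConj_iff.1 (hconj z (orderOf_two_iff.2 ⟨sq_sylG e hz, hz1⟩))
      have hcen : ∀ q ∈ S, q ∈ Subgroup.centralizer ((P : Subgroup G) : Set G) := fun q hq =>
        Subgroup.mem_centralizer_iff.2 fun w hw => comm_sylG e (hP.le hw) hq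
      obtain ⟨n, hn, he⟩ := Sylow.conj_eq_normalizer_conj_of_mem_centralizer P t g⁻¹ (hcen t htS)
        (by rw [inv_inv, hg]; exact hcen z hz)
      rw [inv_inv, hg] at he
      rw [show ((P : Set G)) = ((P : Subgroup G) : Set G) from rfl, hP] at hn
      exact ⟨⟨n⁻¹, Subgroup.inv_mem _ hn⟩, by rw [he]; show n⁻¹ * t * (n⁻¹)⁻¹ = _; rw [inv_inv]⟩
  have hcard := MulAction.card_orbit_mul_card_stabilizer_eq_card_group N t
  rw [← Nat.card_eq_fintype_card, ← Nat.card_eq_fintype_card, ← Nat.card_eq_fintype_card] at hcard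
  have h7 : Nat.card (MulAction.orbit N t) = 7 := by
    rw [horb, Nat.card_coe_set_eq, Set.ncard_sdiff (by simp [S.one_mem]), Set.ncard_singleton, ← Nat.card_coe_set_eq]
    show Nat.card S - 1 = 7
    rw [hS, card_sylG e]
  rw [h7] at hcard
  let K : Subgroup CG :=
    { carrier := {g | cod g ∈ cAFour}
      one_mem' := by show cod (1 : CG) ∈ cAFour; rw [cod_one]; exact aFour_sub.1.1
      mul_mem' := fun {a b} ha hb => by
        show cod (a * b) ∈ cAFour; rw [cod_mul]; exact (aFour_sub.2.2.2 _ ha _ hb).1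
      inv_mem' := fun {a} ha => by show cod a⁻¹ ∈ cAFour; rw [cod_inv]; exact (aFour_sub.2.2.1 _ ha).2 }
  have hK : Nat.card K = 24 := by
    have : cAFour.toFinset.card = 24 := by rw [List.toFinset_card_of_nodup aFour_sub.2.1]; rfl
    rw [← this, ← Nat.card_eq_finsetCard]
    refine Nat.card_congr (Equiv.ofBijective (fun g => ⟨cod g.1, List.mem_toFinset.2 g.2⟩) ⟨?_, ?_⟩)
    · exact fun a b h => Subtype.ext (cod_injective (congrArg Subtype.val h))
    · rintro ⟨x, hx⟩
      have hx' := List.mem_toFinset.1 hx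
      exact ⟨⟨ofCode x (aFour_sub.2.2.1 x hx').1, by show cod _ ∈ cAFour; rw [cod_ofCode]; exact hx'⟩,
        Subtype.ext (cod_ofCode x (aFour_sub.2.2.1 x hx').1)⟩
  have hstab : Nat.card (MulAction.stabilizer N t) ∣ 24 := by
    have hm : ∀ n : MulAction.stabilizer N t, ((n : N) : G) ∈ Subgroup.centralizer ({t} : Set G) := fun n =>
      mem_cent_iff.2 (mul_inv_eq_iff_eq_mul.1 ((hsmul n t).symm.trans n.2))
    let g : MulAction.stabilizer N t →* CG :=
      { toFun := fun n => e ⟨_, hm n⟩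
        map_one' := map_one e
        map_mul' := fun a b => map_mul e ⟨_, hm a⟩ ⟨_, hm b⟩ }
    have hg : Function.Injective g := fun a b h =>
      Subtype.ext (Subtype.ext (Subtype.mk.inj (e.injective h)))
    have hle : g.range ≤ K := by
      rintro _ ⟨n, rfl⟩
      show cod (e ⟨_, hm n⟩) ∈ cAFour
      refine syl_normaliser _ (cod_mem _) fun p hp => ?_
      have hpS : p ∈ cSyl := by revert p; decide
      have hpc := (syl_check.1 p hpS).1
      obtain ⟨h', hn⟩ := (mem_sylG e).1 ((Subgroup.mem_normalizer_iff.1 (n : N).2 _).1 (hsyl p hpS))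
      rw [← cod_ofCode p hpc, ← cod_mul, ← cod_inv, ← cod_mul]
      have : e ⟨_, hm n⟩ * ofCode p hpc * (e ⟨_, hm n⟩)⁻¹ = e ⟨_, h'⟩ := by
        rw [show ofCode p hpc = e ⟨lift e p, lift_mem e p⟩ by
          rw [lift_coe e (c := p) hpc, e.apply_symm_apply], ← map_mul, ← map_inv, ← map_mul]
        exact congrArg e (Subtype.ext rfl)
      rw [this]
      exact hn
    have := Subgroup.card_dvd_of_le hle
    rwa [hK, ← Nat.card_congr (MonoidHom.ofInjective hg).toEquiv] at this
  -- a Sylow seven-subgroup fixed by `b`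
  have h894 : (894 : ℕ) ∈ cAFour := amalgam_codes.2.2.2.2.2.2.2.2.2.2.2.2.2.2.2.1
  have h894' : (894 : ℕ) ∈ codes := three_base.1
  set b : G := lift e 894 with hb
  have hbn : ∀ q, q ∈ S → b * q * b⁻¹ ∈ S := fun q hq => by
    rw [hb, lift, dif_pos h894']
    exact conj_sylG e _ (by rw [cod_lift]; exact h894) q hq
  have hb3 : b ^ 3 = 1 := by rw [hb, lift_pow e h894', three_base.2.2.2.1, lift_one]
  have hb3' : b * b * b = 1 := by rw [← pow_two, ← pow_succ, hb3]
  have hbN : b ∈ N := by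
    refine Subgroup.mem_normalizer_iff.2 fun q => ⟨hbn q, fun h => ?_⟩
    have := hbn _ (hbn _ h)
    rwa [show b * (b * (b * q * b⁻¹) * b⁻¹) * b⁻¹ = (b * b * b) * q * (b * b * b)⁻¹ by group, hb3', one_mul,
      inv_one, mul_one] at this
  set b' : N := ⟨b, hbN⟩
  have hb' : IsPGroup 3 (Subgroup.zpowers b') := by
    have hd : Nat.card (Subgroup.zpowers b') ∣ 3 := by
      rw [Nat.card_zpowers]; exact orderOf_dvd_of_pow_eq_one (Subtype.ext hb3)
    rcases (Nat.dvd_prime (by norm_num : Nat.Prime 3)).1 hd with h | h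
    · exact IsPGroup.of_card (n := 0) (by rw [h, pow_zero])
    · exact IsPGroup.of_card (n := 1) (by rw [h, pow_one])
  have hn7 : ¬ 3 ∣ Nat.card (Sylow 7 N) := by
    intro h3
    have h1 := card_sylow_modEq_one 7 N
    obtain ⟨Q⟩ : Nonempty (Sylow 7 N) := inferInstance
    have hi := Q.card_dvd_index
    have hQ := (Q : Subgroup N).card_mul_index
    have hQ7 : Nat.card (Q : Subgroup N) = 7 := by
      rw [Q.card_eq_multiplicity, ← hcard, Nat.factorization_mul (by norm_num) (Nat.card_pos).ne', Finsupp.add_apply,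
        Nat.Prime.factorization_self (by norm_num), Nat.factorization_eq_zero_of_not_dvd (fun h =>
          absurd (h.trans hstab) (by norm_num))]
      norm_num
    rw [hQ7, ← hcard] at hQ
    rw [Nat.eq_of_mul_eq_mul_left (by norm_num) hQ] at hi
    have hm : Nat.card (Sylow 7 N) ∈ Nat.divisors 24 := Nat.mem_divisors.2 ⟨hi.trans hstab, by norm_num⟩
    rw [show Nat.divisors 24 = {1, 2, 3, 4, 6, 8, 12, 24} by decide] at hm
    simp only [Finset.mem_insert, Finset.mem_singleton] at hm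
    unfold Nat.ModEq at h1
    omega
  obtain ⟨Q, hQfix⟩ := hb'.nonempty_fixed_point_of_prime_not_dvd_card (Sylow 7 N) hn7
  obtain ⟨y0, hy0⟩ := exists_prime_orderOf_dvd_card' (G := (Q : Subgroup N)) 7 (by
    have h7N : 7 ∣ Nat.card N := ⟨_, hcard.symm⟩
    rw [Q.card_eq_multiplicity]
    exact dvd_pow_self _ ((Nat.Prime.factorization_pos_of_dvd (by norm_num) Nat.card_pos.ne' h7N).ne'))
  have hQ7 : Nat.card (Q : Subgroup N) = 7 := by
    rw [Q.card_eq_multiplicity, ← hcard, Nat.factorization_mul (by norm_num) (Nat.card_pos).ne', Finsupp.add_apply,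
      Nat.Prime.factorization_self (by norm_num), Nat.factorization_eq_zero_of_not_dvd (fun h =>
        absurd (h.trans hstab) (by norm_num))]
    norm_num
  set y : G := ((y0 : N) : G) with hy
  have hyord : orderOf y = 7 := by rw [hy, Subgroup.orderOf_coe, Subgroup.orderOf_coe, hy0]
  have hy7 : y ^ 7 = 1 := hyord ▸ pow_orderOf_eq_one y
  have hnot : ∀ z : G, orderOf z = 7 → z ∉ Subgroup.centralizer ({t} : Set G) := fun z hz hmem => by
    have h := Subgroup.orderOf_dvd_natCard _ hmem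
    rw [hz, card_centralizer ht e] at h
    norm_num at h
  obtain ⟨j, hj7, hj⟩ : ∃ j, j < 7 ∧ b * y * b⁻¹ = y ^ j := by
    have hfix : b' • Q = Q := hQfix ⟨b', Subgroup.mem_zpowers b'⟩
    have hmem : b' * (y0 : N) * b'⁻¹ ∈ (Q : Subgroup N) := by
      have h' : b' * (y0 : N) * b'⁻¹ ∈ ((b' • Q : Sylow 7 N) : Subgroup N) := by
        rw [Sylow.smul_def]; exact ⟨y0, y0.2, rfl⟩
      rwa [hfix] at h'
    have htop : Subgroup.zpowers y0 = ⊤ := Subgroup.eq_top_of_card_eq _ (by rw [Nat.card_zpowers, hy0, hQ7])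
    have hmem' : (⟨_, hmem⟩ : (Q : Subgroup N)) ∈ Subgroup.zpowers y0 := htop ▸ Subgroup.mem_top _
    obtain ⟨k, hk⟩ := (isOfFinOrder_of_finite y0).mem_powers_iff_mem_zpowers.2 hmem'
    refine ⟨k % 7, Nat.mod_lt _ (by norm_num), ?_⟩
    rw [← pow_eq_pow_mod k hy7, hy, ← Subgroup.coe_pow, ← Subgroup.coe_pow]
    exact (congrArg (fun q : (Q : Subgroup N) => ((q : N) : G)) hk).symm
  have hyS : ∀ q ∈ S, ∀ n : ℕ, (y ^ n)⁻¹ * q * y ^ n ∈ S := fun q hq n => by
    have hm : (y ^ n)⁻¹ ∈ N := N.inv_mem (N.pow_mem (y0 : N).2 n)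
    have := (Subgroup.mem_normalizer_iff.1 hm q).1 hq
    rwa [inv_inv] at this
  have hbt : b * t = t * b := mem_cent_iff.1 (lift_mem e 894)
  have hord : ∀ n, n % 7 ≠ 0 → orderOf (y ^ n) = 7 := fun n hn => by
    refine orderOf_eq_prime ?_ fun h => hn ?_
    · rw [← pow_mul, mul_comm, pow_mul, hy7, one_pow]
    · have := orderOf_dvd_of_pow_eq_one h
      rw [hyord] at this
      exact Nat.mod_eq_zero_of_dvd this
  have hj124 : j = 2 ∨ j = 4 := by
    have h3 : ∀ q, b * (y ^ q) * b⁻¹ = y ^ (j * q) := fun q => by rw [← conj_pow, hj, ← pow_mul]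
    have hjjj : y ^ (j * (j * j)) = y := by
      rw [← h3, ← h3, show b * (b * y ^ j * b⁻¹) * b⁻¹ = b * b * y ^ j * (b * b)⁻¹ by group, ← hj,
        show b * b * (b * y * b⁻¹) * (b * b)⁻¹ = (b * b * b) * y * (b * b * b)⁻¹ by group, hb3', one_mul, inv_one,
        mul_one]
    have hmod : j * (j * j) % 7 = 1 := by
      have h' : y ^ (j * (j * j)) = y ^ 1 := by rw [hjjj, pow_one]
      rw [pow_eq_pow_iff_modEq, hyord] at h'
      exact h'
    interval_cases j <;> (revert hmod; norm_num)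
    -- `j = 1`
    exfalso
    rw [pow_one] at hj
    have hbinv : b * y⁻¹ * b⁻¹ = y⁻¹ := by rw [← conj_inv, hj]
    have hq := hyS t htS 1
    rw [pow_one] at hq
    obtain ⟨h', hn⟩ := (mem_sylG e).1 hq
    have hcomm : b * (y⁻¹ * t * y) = y⁻¹ * t * y * b := by
      have hby : Commute b y := mul_inv_eq_iff_eq_mul.1 hj
      exact ((hby.inv_right.mul_right (show Commute b t from hbt)).mul_right hby).eq
    rcases syl_fixed _ hn (by
      have hh : (⟨y⁻¹ * t * y, h'⟩ : ↥(Subgroup.centralizer ({t} : Set G))) * e.symm (ofCode 894 h894') =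
          e.symm (ofCode 894 h894') * ⟨y⁻¹ * t * y, h'⟩ := Subtype.ext (by
        rw [Subgroup.coe_mul, Subgroup.coe_mul]
        rw [hb, lift, dif_pos h894'] at hcomm
        exact hcomm.symm)
      have := congrArg (fun n => cod (e n)) hh
      simpa only [map_mul, cod_mul, cod_lift] using this) with h | h
    · have h1 := lift_eq e h
      rw [lift_one] at h1
      exact t1 (by
        calc t = y * (y⁻¹ * t * y) * y⁻¹ := by group
          _ = 1 := by rw [show y⁻¹ * t * y = (1 : G) from h1.symm]; group)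
    · have h1 : t = y⁻¹ * t * y := by
        rw [← cod_t ht e] at h
        exact (congrArg Subtype.val (e.injective (cod_injective h))).symm
      refine hnot y hyord (mem_cent_iff.2 ?_)
      conv_lhs => rw [h1]
      group
  -- a power sending `A` to `t`
  have hA : lift e 714 ∈ S ∧ lift e 714 ≠ 1 ∧ lift e 714 ≠ t := by
    refine ⟨hsyl 714 (by decide), fun h => ?_, fun h => ?_⟩
    · have h' : cod (e (⟨lift e 714, lift_mem e 714⟩ : ↥(Subgroup.centralizer ({t} : Set G)))) = 194 := by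
        rw [show (⟨lift e 714, lift_mem e 714⟩ : ↥(Subgroup.centralizer ({t} : Set G))) = 1 from Subtype.ext h,
          map_one, cod_one]
      rw [lift_coe e (c := 714) (by decide), cod_lift] at h'
      omega
    · have h' : cod (e (⟨lift e 714, lift_mem e 714⟩ : ↥(Subgroup.centralizer ({t} : Set G)))) = 3319 := by
        rw [show (⟨lift e 714, lift_mem e 714⟩ : ↥(Subgroup.centralizer ({t} : Set G))) = ⟨t, t_mem⟩ from Subtype.ext h,
          cod_t ht e]
      rw [lift_coe e (c := 714) (by decide), cod_lift] at h'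
      omega
  obtain ⟨m, hm⟩ : ∃ m : ℕ, (y ^ m)⁻¹ * t * y ^ m = lift e 714 := by
    let f : Fin 7 → ↥((S : Set G) \ {1}) := fun i => ⟨(y ^ i.val)⁻¹ * t * y ^ i.val, hyS t htS _, fun h => t1 (by
      calc t = y ^ i.val * ((y ^ i.val)⁻¹ * t * y ^ i.val) * (y ^ i.val)⁻¹ := by group
        _ = 1 := by rw [Set.mem_singleton_iff.1 h]; group)⟩
    have hinj : ∀ i k : Fin 7, i.val ≤ k.val → f i = f k → i = k := fun i k hle h => by
      have h' : (y ^ i.val)⁻¹ * t * y ^ i.val = (y ^ k.val)⁻¹ * t * y ^ k.val := congrArg Subtype.val h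
      by_contra hne
      refine hnot (y ^ (k.val - i.val)) (hord _ (by have := Fin.val_ne_of_ne hne; omega)) (mem_cent_iff.2 ?_)
      have e1 : y ^ k.val = y ^ (k.val - i.val) * y ^ i.val := by rw [← pow_add]; congr 1; omega
      rw [e1] at h'
      calc y ^ (k.val - i.val) * t
          = y ^ (k.val - i.val) * y ^ i.val * ((y ^ i.val)⁻¹ * t * y ^ i.val) * (y ^ i.val)⁻¹ := by group
        _ = t * y ^ (k.val - i.val) := by rw [h']; group
    have hinj' : Function.Injective f := fun i k h => by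
      rcases le_total i.val k.val with hle | hle
      · exact hinj i k hle h
      · exact (hinj k i hle h.symm).symm
    have hbij := hinj'.bijective_of_nat_card_le (by
      rw [Nat.card_fin, ← h7, horb])
    obtain ⟨i, hi⟩ := hbij.2 ⟨lift e 714, hA.1, hA.2.1⟩
    exact ⟨i.val, congrArg Subtype.val hi⟩
  have hm0 : m % 7 ≠ 0 := fun h => hA.2.2 (by
    rw [← hm, pow_eq_pow_mod m hy7, h, pow_zero, inv_one, one_mul, mul_one])
  have hym : (y ^ m) ^ 7 = 1 := by rw [← pow_mul, mul_comm, pow_mul, hy7, one_pow]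
  have hyA : y ^ m * lift e 714 * (y ^ m)⁻¹ = t := by rw [← hm]; group
  have hbm : b * y ^ m * b⁻¹ = (y ^ m) ^ j := by rw [← conj_pow, hj, ← pow_mul, ← pow_mul, mul_comm]
  rcases hj124 with rfl | rfl
  · exact ⟨e, y ^ m, hym, hnot _ (hord m hm0), hbm, hyA⟩
  · let e' := e.trans theta01
    obtain ⟨-, -, th714, th894, -⟩ := thc_check
    have hl : ∀ c (hc : c ∈ codes), lift e' (thc c) = lift e c := fun c hc => by
      rw [lift_eq e' (n := e.symm (ofCode c hc)) (c := thc c) (by
        show cod (theta01 (e (e.symm (ofCode c hc)))) = _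
        rw [cod_theta01, cod_lift]), lift, dif_pos hc]
    have hA' : lift e' 714 = lift e 714 := by
      have := hl 714 amalgam_codes.2.2.2.2.2.2.2.2.2.2.1
      rwa [th714] at this
    have hb' : lift e' 894 = b⁻¹ := by
      have := hl 894 h894'
      rw [th894, lift_inv e' h894'] at this
      rw [hb, ← this, inv_inv]
    refine ⟨e', y ^ m, hym, hnot _ (hord m hm0), ?_, by rw [hA']; exact hyA⟩
    rw [hb', inv_inv]
    generalize y ^ m = w at *
    calc b⁻¹ * w * b = b⁻¹ * w ^ (4 * 2) * b := by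
          rw [show w ^ (4 * 2) = w by rw [show (4 * 2 : ℕ) = 7 + 1 from rfl, pow_succ, hym, one_mul]]
      _ = b⁻¹ * ((b * w * b⁻¹) ^ 2) * b := by rw [hbm, ← pow_mul]
      _ = w ^ 2 := by rw [conj_pow]; group

end Cfsg.Agent.Lead.JankoOne
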