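import Cfsg.Agent.Lib.Lead.JankoOne.Table

/-!
# Finite checks on the codes of `C₂ × A₅`
-/

set_option autoImplicit false
set_option maxRecDepth 20000

namespace Cfsg.Agent.Lead.JankoOne

def cCyc : List ℕ := [194, 970, 1726, 2382, 2538, 3319, 4095, 4851, 5507, 5663]

def cAFour : List ℕ :=
  [194, 334, 414, 714, 894, 1054, 1294, 1454, 1634, 1934, 2014, 2154,
   3319, 3459, 3539, 3839, 4019, 4179, 4419, 4579, 4759, 5059, 5139, 5279]

def tabLam : List (List ℕ) := [[120, 0, 0, 0, 0], [0, 0, 0, 0, 0], [0, 0, 0, 0, 0], [0, 10, 0, 0, 10],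
  [0, 0, 10, 10, 0], [120, 0, 0, 0, 0], [0, 0, 0, 0, 0], [0, 0, 0, 0, 0], [0, 10, 0, 0, 10], [0, 0, 10, 10, 0]]

def tabLamTwo : List (List ℕ) := [[120, 0, 0, 0, 0], [0, 0, 0, 0, 0], [0, 0, 0, 0, 0], [0, 0, 10, 10, 0],
  [0, 10, 0, 0, 10], [120, 0, 0, 0, 0], [0, 0, 0, 0, 0], [0, 0, 0, 0, 0], [0, 0, 10, 10, 0], [0, 10, 0, 0, 10]]

def tabCyc : List (List ℕ) := [[120], [0], [0], [20], [20], [120], [0], [0], [20], [20]]
def tabAFour : List (List ℕ) := [[120], [24], [48], [0], [0], [120], [24], [48], [0], [0]]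

/-- the class, as a natural number -/
def clsN (x : ℕ) : ℕ := x / 3125 * 5 + cls5 (x % 3125)

theorem cls_eq : ∀ x ∈ codes, (cls x).val = clsN x := by decide +kernel

theorem conj_check : (codes.all fun x => codes.all fun g =>
    Nat.beq (clsN (mc (mc x g) (iv x))) (clsN g)) = true := by decide +kernel

/-- the roots of the central involution -/
def isRoot (x : ℕ) : Bool := cls x ∈ ([5, 7, 8, 9] : List (Fin 10))

/-- products of two involutions equal to a given root -/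
def invPairs (x : ℕ) : ℕ :=
  (codes.filter fun u => u != 194 && mc u u == 194 && mc u x != 194 && mc (mc u x) (mc u x) == 194).length

theorem invPairs_eq : ∀ x ∈ codes, isRoot x = true →
    invPairs x = [0, 0, 0, 0, 0, 30, 0, 6, 10, 10].getD (cls x).val 0 := by decide +kernel

theorem cls_low : ∀ x ∈ codes, ((cls x).val < 5 ↔ x / 3125 = 0) := by decide +kernel

theorem lam_sub : (194 ∈ cCyc ∧ cCyc.idxOf 194 % 5 % 5 = 0) ∧ cCyc.Nodup ∧ (∀ x ∈ cCyc, x ∈ codes ∧ iv x ∈ cCyc) ∧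
    ∀ x ∈ cCyc, ∀ y ∈ cCyc, mc x y ∈ cCyc ∧
      cCyc.idxOf (mc x y) % 5 % 5 = (cCyc.idxOf x % 5 + cCyc.idxOf y % 5) % 5 := by decide +kernel

theorem lamTwo_sub : (194 ∈ cCyc ∧ 2 * (cCyc.idxOf 194 % 5) % 5 = 0) ∧ cCyc.Nodup ∧
    (∀ x ∈ cCyc, x ∈ codes ∧ iv x ∈ cCyc) ∧
    ∀ x ∈ cCyc, ∀ y ∈ cCyc, mc x y ∈ cCyc ∧
      2 * (cCyc.idxOf (mc x y) % 5) % 5 = (2 * (cCyc.idxOf x % 5) + 2 * (cCyc.idxOf y % 5)) % 5 := by decide +kernel

theorem cyc_sub : (194 ∈ cCyc ∧ 0 % 1 = 0) ∧ cCyc.Nodup ∧ (∀ x ∈ cCyc, x ∈ codes ∧ iv x ∈ cCyc) ∧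
    ∀ x ∈ cCyc, ∀ y ∈ cCyc, mc x y ∈ cCyc ∧ 0 % 1 = (0 + 0) % 1 := by decide +kernel

theorem aFour_sub : (194 ∈ cAFour ∧ 0 % 1 = 0) ∧ cAFour.Nodup ∧ (∀ x ∈ cAFour, x ∈ codes ∧ iv x ∈ cAFour) ∧
    ∀ x ∈ cAFour, ∀ y ∈ cAFour, mc x y ∈ cAFour ∧ 0 % 1 = (0 + 0) % 1 := by decide +kernel

theorem lam_tab : ∀ x ∈ codes, expoTab cCyc (fun x => cCyc.idxOf x % 5) 5 x = tabLam.getD (cls x).val [] := by
  decide +kernel

theorem lamTwo_tab : ∀ x ∈ codes,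
    expoTab cCyc (fun x => 2 * (cCyc.idxOf x % 5)) 5 x = tabLamTwo.getD (cls x).val [] := by decide +kernel

theorem cyc_tab : ∀ x ∈ codes, expoTab cCyc (fun _ => 0) 1 x = tabCyc.getD (cls x).val [] := by decide +kernel

theorem aFour_tab : ∀ x ∈ codes, expoTab cAFour (fun _ => 0) 1 x = tabAFour.getD (cls x).val [] := by decide +kernel

theorem cls_count : ∀ j : Fin 10, (codes.map cls).count j = [1, 15, 20, 12, 12, 1, 15, 20, 12, 12].getD j.val 0 := by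
  decide +kernel

theorem cls_z : ∀ x ∈ codes, (x = 3319 ↔ cls x = 5) := by decide +kernel

/-- powers on codes -/
def pw (x : ℕ) : ℕ → ℕ
  | 0 => 194
  | k + 1 => mc x (pw x k)

theorem cod_pow (g : CG) (k : ℕ) : cod (g ^ k) = pw (cod g) k := by
  induction k with
  | zero => rw [pow_zero, cod_one]; rfl
  | succ k ih => rw [pow_succ', cod_mul, ih]; rfl

theorem root_check : ∀ x ∈ codes, isRoot x = true →
    (pw x 30 = 194) ∧ pw x 15 = 3319 ∧
    (∀ k ∈ List.range 30, mc (pw x k) (pw x k) = 194 → pw x k ≠ 194 → pw x k = 3319) := by decide +kernel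

theorem root_seven : ∀ x ∈ codes, isRoot x = true →
    (cls (pw x 7)).val = [0, 1, 2, 3, 4, 5, 6, 7, 9, 8].getD (cls x).val 0 := by decide +kernel

theorem centre_check : ∀ x ∈ codes, (∀ y ∈ codes, mc x y = mc y x) → mc x x = 194 → x ≠ 194 → x = 3319 := by
  decide +kernel

end Cfsg.Agent.Lead.JankoOne
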