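import Cfsg.Agent.Lib.Lead.JankoOne.Checks

/-!
# Finite checks about elements of order three and five in `C₂ × A₅`
-/

set_option autoImplicit false
set_option maxRecDepth 20000

namespace Cfsg.Agent.Lead.JankoOne

theorem three_base : 894 ∈ codes ∧ 698 ∈ codes ∧ 3319 ∈ codes ∧ pw 894 3 = 194 ∧ mc 698 698 = 194 ∧
    mc 698 3319 = mc 3319 698 ∧ mc (mc 698 894) 698 = mc 894 894 ∧ mc 3319 894 = mc 894 3319 := by decide +kernel

theorem three_conj : ∀ y ∈ codes, y ≠ 194 → pw y 3 = 194 → ∃ w ∈ codes, mc (mc w y) (iv w) = 894 := by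
  decide +kernel

theorem three_cent : ∀ y ∈ codes, mc y 894 = mc 894 y →
    (mc y y = 194 → y = 194 ∨ y = 3319) ∧ (pw y 15 = 194 → y = 194 ∨ y = 894 ∨ y = mc 894 894) := by
  decide +kernel

theorem no_fifteen : ∀ a ∈ codes, a ≠ 194 → pw a 3 = 194 → ∀ b ∈ codes, b ≠ 194 → pw b 5 = 194 →
    ∃ j ∈ [1, 2, 3, 4], pw (mc a (pw b j)) 15 ≠ 194 := by decide +kernel

end Cfsg.Agent.Lead.JankoOne
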