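import Mathlib

/-!
# Small facts about subgroups of order nine and twenty-seven
-/

set_option autoImplicit false
set_option linter.style.haveILetI false

namespace Cfsg.Agent.Lead.JankoOne

variable {G : Type*} [Group G] [Finite G]

omit [Finite G] in
theorem mem_three {a b : G} (ha : a ^ 3 = 1) (hb : b ∈ Subgroup.zpowers a) : b = 1 ∨ b = a ∨ b = a * a := by
  obtain ⟨k, rfl⟩ := Subgroup.mem_zpowers_iff.1 hb
  have h : a ^ k = a ^ (k % 3).toNat := by
    conv_lhs => rw [← Int.mul_ediv_add_emod k 3]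
    rw [zpow_add, zpow_mul, show ((3 : ℤ)) = ((3 : ℕ) : ℤ) from rfl, zpow_natCast, ha, one_zpow, one_mul,
      ← zpow_natCast, Int.toNat_of_nonneg (Int.emod_nonneg _ (by norm_num))]
  have h3 : (k % 3).toNat < 3 := by omega
  interval_cases hk : (k % 3).toNat
  · exact Or.inl (h.trans (pow_zero a))
  · exact Or.inr (Or.inl (h.trans (pow_one a)))
  · exact Or.inr (Or.inr (h.trans (pow_two a)))

/-- Two commuting elements of order three spanning a subgroup of order nine. -/
theorem exists_nine {a b : G} (ha : a ^ 3 = 1) (ha1 : a ≠ 1) (hb : b ^ 3 = 1) (hab : a * b = b * a)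
    (hne : b ∉ Subgroup.zpowers a) :
    ∃ E : Subgroup G, Nat.card E = 9 ∧ a ∈ E ∧ b ∈ E ∧ (∀ H : Subgroup G, a ∈ H → b ∈ H → E ≤ H) ∧
      ∀ y ∈ E, y = 1 ∨ y = a ∨ y = a * a ∨ y = b ∨ y = b * b ∨ y = a * b ∨ y = a * a * b ∨ y = a * (b * b) ∨
        y = a * a * (b * b) := by
  haveI : Fact (Nat.Prime 3) := ⟨by norm_num⟩
  have hc : ∀ (m : Subgroup.zpowers a) (n : Subgroup.zpowers b), Commute (m : G) (n : G) := by
    rintro ⟨_, i, rfl⟩ ⟨_, j, rfl⟩
    exact (show Commute a b from hab).zpow_zpow i j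
  let f := MonoidHom.noncommCoprod (Subgroup.zpowers a).subtype (Subgroup.zpowers b).subtype hc
  have hf : ∀ m n, f (m, n) = (m : G) * (n : G) := fun m n => MonoidHom.noncommCoprod_apply _ _ _ _
  have hinj : Function.Injective f := by
    rw [injective_iff_map_eq_one]
    rintro ⟨⟨m, hm⟩, ⟨n, hn⟩⟩ h
    rw [hf] at h
    have hn' : n ∈ Subgroup.zpowers a := by
      rw [show n = m⁻¹ by exact eq_inv_of_mul_eq_one_right h]; exact Subgroup.inv_mem _ hm
    rcases mem_three hb hn with rfl | rfl | rfl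
    · simp only [mul_one] at h; subst h; rfl
    · exact absurd hn' hne
    · refine absurd ?_ hne
      have := Subgroup.mul_mem _ hn' hn'
      rwa [show b * b * (b * b) = b * b * b * b by simp only [mul_assoc], ← pow_two, ← pow_succ, hb, one_mul] at this
  have hb1 : b ≠ 1 := fun h => hne (h ▸ Subgroup.one_mem _)
  refine ⟨f.range, ?_, ⟨(⟨a, Subgroup.mem_zpowers a⟩, 1), by simp [hf]⟩,
    ⟨(1, ⟨b, Subgroup.mem_zpowers b⟩), by simp [hf]⟩, ?_, ?_⟩
  · rw [← Nat.card_congr (MonoidHom.ofInjective hinj).toEquiv, Nat.card_prod, Nat.card_zpowers, Nat.card_zpowers,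
      orderOf_eq_prime ha ha1, orderOf_eq_prime hb hb1]
  · rintro H haH hbH _ ⟨⟨⟨m, hm⟩, ⟨n, hn⟩⟩, rfl⟩
    rw [hf]
    exact H.mul_mem (Subgroup.zpowers_le.2 haH hm) (Subgroup.zpowers_le.2 hbH hn)
  · rintro _ ⟨⟨⟨m, hm⟩, ⟨n, hn⟩⟩, rfl⟩
    rw [hf]
    rcases mem_three ha hm with rfl | rfl | rfl <;> rcases mem_three hb hn with rfl | rfl | rfl <;> simp

/-- A subgroup of a group of order twenty-seven with more than nine elements is everything. -/
theorem eq_of_card_gt {H R : Subgroup G} (hR : Nat.card R = 27) (hle : H ≤ R) (h : 9 < Nat.card H) : H = R := by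
  refine Subgroup.eq_of_le_of_card_ge hle ?_
  have hd := Subgroup.card_dvd_of_le hle
  rw [hR] at hd ⊢
  have hmem : Nat.card H ∈ Nat.divisors 27 := Nat.mem_divisors.2 ⟨hd, by norm_num⟩
  rw [show Nat.divisors 27 = {1, 3, 9, 27} by decide] at hmem
  simp only [Finset.mem_insert, Finset.mem_singleton] at hmem
  omega

/-- Elements commuting with a subgroup of order nine and with one more element. -/
theorem nine_le {E R : Subgroup G} (hR : Nat.card R = 27) (hE : Nat.card E = 9) (hle : E ≤ R) {H : Subgroup G}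
    (hH : E ≤ H) {r : G} (hr : r ∈ R) (hrE : r ∉ E) (hrH : r ∈ H) : R ≤ H := by
  have : 9 < Nat.card (R ⊓ H : Subgroup G) := by
    rw [← hE]
    refine lt_of_le_of_ne (Subgroup.card_le_of_le (le_inf hle hH)) fun h => hrE ?_
    rw [Subgroup.eq_of_le_of_card_ge (le_inf hle hH) h.ge]
    exact ⟨hr, hrH⟩
  exact inf_eq_left.1 (eq_of_card_gt hR inf_le_left this)

theorem nine_normal {E R : Subgroup G} (hR : Nat.card R = 27) (hE : Nat.card E = 9) (hle : E ≤ R) {r y : G}
    (hr : r ∈ R) (hy : y ∈ E) : r * y * r⁻¹ ∈ E := by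
  have hn : (E.subgroupOf R).Normal := by
    refine Subgroup.normal_of_index_eq_minFac_card ?_
    rw [hR]
    have h := (E.subgroupOf R).card_mul_index
    rw [Nat.card_congr (Subgroup.subgroupOfEquivOfLe hle).toEquiv, hE, hR] at h
    have h3 : Nat.minFac 27 = 3 := by norm_num
    omega
  exact hn.conj_mem (⟨y, hle hy⟩ : R) hy ⟨r, hr⟩

omit [Finite G] in
/-- Conjugation by an element of odd order fixing a point after two steps fixes it. -/
theorem commute_of_sq {r y : G} (hodd : Odd (orderOf r)) (h : r * (r * y * r⁻¹) * r⁻¹ = y) : r * y * r⁻¹ = y := by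
  obtain ⟨m, hm⟩ := hodd
  have h2 : Commute (r ^ 2) y := by
    show r ^ 2 * y = y * r ^ 2
    calc r ^ 2 * y = (r * (r * y * r⁻¹) * r⁻¹) * r ^ 2 := by rw [pow_two]; group
      _ = y * r ^ 2 := by rw [h]
  have h3 : Commute ((r ^ 2) ^ (m + 1)) y := h2.pow_left _
  rw [← pow_mul, show 2 * (m + 1) = orderOf r + 1 by omega, pow_succ, pow_orderOf_eq_one, one_mul] at h3
  rw [h3.eq, mul_inv_cancel_right]

/-- A transvection inside a group of order twenty-seven. -/
theorem exists_shift {R : Subgroup G} (hR : Nat.card R = 27) {a b : G} (ha : a ^ 3 = 1) (ha1 : a ≠ 1)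
    (hb : b ^ 3 = 1) (hne : b ∉ Subgroup.zpowers a) (haR : a ∈ R) (hbR : b ∈ R)
    (hcen : ∀ r ∈ R, r * a = a * r) (hnc : ∃ r ∈ R, r * b ≠ b * r) : ∃ r ∈ R, r * b * r⁻¹ = b * a := by
  obtain ⟨r, hr, hrb⟩ := hnc
  have ha3 : a * a * a = 1 := by rw [← pow_two, ← pow_succ, ha]
  have hb3 : b * b * b = 1 := by rw [← pow_two, ← pow_succ, hb]
  have hab : a * b = b * a := (hcen b hbR).symm
  obtain ⟨E, hE, -, hbE, hmin, hlist⟩ := exists_nine ha ha1 hb hab hne
  have hmemE := nine_normal hR hE (hmin R haR hbR) hr hbE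
  have hfix : ∀ k, r * b * r⁻¹ = k → k ≠ b := fun k h e => hrb (mul_inv_eq_iff_eq_mul.1 (h.trans e))
  have hcon : ∀ k, k ∈ Subgroup.zpowers a → r * b * r⁻¹ ≠ k := fun k hk h => hne (by
    have hb' : b = r⁻¹ * k * r := by rw [← h]; group
    obtain ⟨i, rfl⟩ := Subgroup.mem_zpowers_iff.1 hk
    have hc : Commute r (a ^ i) := (show Commute r a from hcen r hr).zpow_right i
    rw [hb', mul_assoc, ← hc.eq, inv_mul_cancel_left]
    exact hk)
  have hodd : Odd (orderOf r) := Odd.of_dvd_nat (by rw [hR]; decide) (Subgroup.orderOf_dvd_natCard _ hr)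
  have hra : r * a * r⁻¹ = a := by rw [hcen r hr, mul_inv_cancel_right]
  have hsq : ∀ k, r * b * r⁻¹ = k → r * k * r⁻¹ = b → False := fun k h h' =>
    hrb (mul_inv_eq_iff_eq_mul.1 (commute_of_sq hodd (by rw [h, h'])))
  rcases hlist _ hmemE with h | h | h | h | h | h | h | h | h
  · exact absurd h (hcon _ (Subgroup.one_mem _))
  · exact absurd h (hcon _ (Subgroup.mem_zpowers a))
  · exact absurd h (hcon _ (Subgroup.mul_mem _ (Subgroup.mem_zpowers a) (Subgroup.mem_zpowers a)))
  · exact absurd rfl (hfix _ h)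
  · exfalso
    refine hsq _ h ?_
    rw [← conj_mul, h, show b * b * (b * b) = b * b * b * b by simp only [mul_assoc], hb3, one_mul]
  · exact ⟨r, hr, by rw [h, hab]⟩
  · refine ⟨r * r, R.mul_mem hr hr, ?_⟩
    calc r * r * b * (r * r)⁻¹ = r * (r * b * r⁻¹) * r⁻¹ := by group
      _ = (r * a * r⁻¹) * (r * a * r⁻¹) * (r * b * r⁻¹) := by rw [conj_mul, conj_mul, ← h]
      _ = (a * a * a) * (a * b) := by rw [hra, h]; simp only [mul_assoc]
      _ = b * a := by rw [ha3, one_mul, hab]
  · exfalso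
    refine hsq _ h ?_
    calc r * (a * (b * b)) * r⁻¹ = (r * a * r⁻¹) * ((r * b * r⁻¹) * (r * b * r⁻¹)) := by group
      _ = a * ((a * (b * b)) * (a * (b * b))) := by rw [hra, h]
      _ = b := by
        have hc : Commute (b * b) a := (show Commute b a from hab.symm).mul_left hab.symm
        rw [show a * (a * (b * b) * (a * (b * b))) = a * a * ((b * b) * a) * (b * b) by simp only [mul_assoc], hc.eq,
          show a * a * (a * (b * b)) * (b * b) = (a * a * a) * ((b * b * b) * b) by simp only [mul_assoc], ha3, hb3, one_mul, one_mul]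
  · exfalso
    refine hsq _ h ?_
    calc r * (a * a * (b * b)) * r⁻¹ = (r * a * r⁻¹) * (r * a * r⁻¹) * ((r * b * r⁻¹) * (r * b * r⁻¹)) := by group
      _ = a * a * ((a * a * (b * b)) * (a * a * (b * b))) := by rw [hra, h]
      _ = b := by
        have hc : Commute (b * b) (a * a) :=
          ((show Commute b a from hab.symm).mul_left hab.symm).mul_right ((show Commute b a from hab.symm).mul_left hab.symm)
        rw [show a * a * (a * a * (b * b) * (a * a * (b * b))) = a * a * a * a * ((b * b) * (a * a)) * (b * b) by simp only [mul_assoc],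
          hc.eq, show a * a * a * a * (a * a * (b * b)) * (b * b) = (a * a * a) * (a * a * a) * ((b * b * b) * b) by simp only [mul_assoc], ha3, hb3,
          one_mul, one_mul, one_mul]

end Cfsg.Agent.Lead.JankoOne
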