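import Cfsg.Agent.Lib.Lead.JankoOne.Sylow
import Cfsg.Agent.Lib.Lead.JankoOne.ChecksThree
import Cfsg.Agent.Lib.Lead.JankoOne.Local3
import Cfsg.Agent.Lib.Fusion.DihedralFours
import Cfsg.Agent.Lib.Solv.ExtremelyClosed

/-!
# No group of order 189000 has an involution centraliser `C₂ × A₅`
-/

set_option autoImplicit false
set_option maxRecDepth 20000
set_option linter.style.haveILetI false

namespace Cfsg.Agent.Lead.JankoOne

open Cfsg Cfsg.Agent.Char
open Cfsg.Agent.Lead.GLTwoThree (orderOf_two_iff mem_cent_iff t_mem)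

theorem card_odd_sub_cg (H : Subgroup CG) (hodd : Odd (Nat.card H)) :
    Nat.card H = 1 ∨ Nat.card H = 3 ∨ Nat.card H = 5 := by
  have hd := Subgroup.card_subgroup_dvd_card H
  rw [card_cg] at hd
  have h15 : Nat.card H ∣ 15 :=
    Nat.Coprime.dvd_of_dvd_mul_left (Nat.Coprime.pow_right 3 (Nat.coprime_two_right.2 hodd))
      (show Nat.card H ∣ 2 ^ 3 * 15 by norm_num; exact hd)
  have hm : Nat.card H ∈ Nat.divisors 15 := Nat.mem_divisors.2 ⟨h15, by norm_num⟩
  rw [show Nat.divisors 15 = {1, 3, 5, 15} by decide] at hm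
  simp only [Finset.mem_insert, Finset.mem_singleton] at hm
  rcases hm with h | h | h | h
  iterate 3 omega
  exfalso
  haveI : Fact (Nat.Prime 3) := ⟨by norm_num⟩
  haveI : Fact (Nat.Prime 5) := ⟨by norm_num⟩
  obtain ⟨a, ha⟩ := exists_prime_orderOf_dvd_card' (G := H) 3 (by rw [h]; norm_num)
  obtain ⟨b, hb⟩ := exists_prime_orderOf_dvd_card' (G := H) 5 (by rw [h]; norm_num)
  have key : ∀ (y : H) (q : ℕ), q.Prime → orderOf y = q → cod (y : CG) ≠ 194 ∧ pw (cod (y : CG)) q = 194 := by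
    intro y q hq hy
    refine ⟨fun h1 => ?_, ?_⟩
    · rw [← cod_one] at h1
      rw [show y = 1 from Subtype.ext (cod_injective h1), orderOf_one] at hy
      exact hq.one_lt.ne hy
    · rw [← cod_pow, ← cod_one, ← Subgroup.coe_pow, ← hy, pow_orderOf_eq_one, Subgroup.coe_one]
  obtain ⟨a1, a3⟩ := key a 3 (by norm_num) ha
  obtain ⟨b1, b5⟩ := key b 5 (by norm_num) hb
  obtain ⟨j, -, hj⟩ := no_fifteen _ (cod_mem _) a1 a3 _ (cod_mem _) b1 b5
  apply hj
  rw [← cod_pow, ← cod_mul, ← cod_pow, ← cod_one, ← Subgroup.coe_pow, ← Subgroup.coe_mul, ← Subgroup.coe_pow,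
    ← h, pow_card_eq_one', Subgroup.coe_one]

universe u

variable {G : Type u} [Group G] [Finite G] {t : G}
variable (ht : orderOf t = 2) (e : ↥(Subgroup.centralizer ({t} : Set G)) ≃* CG)

/-- an element of order three centralised by `t` -/
noncomputable def xG : G := ((e.symm (ofCode 894 three_base.1) : ↥(Subgroup.centralizer ({t} : Set G))) : G)

/-- an involution inverting it -/
noncomputable def sG : G := ((e.symm (ofCode 698 three_base.2.1) : ↥(Subgroup.centralizer ({t} : Set G))) : G)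

omit [Finite G] in
theorem cod_lift {c : ℕ} (hc : c ∈ codes) :
    cod (e (e.symm (ofCode c hc))) = c := by rw [e.apply_symm_apply, cod_ofCode]

omit [Finite G] in
theorem base_facts (ht : orderOf t = 2) :
    xG e ^ 3 = 1 ∧ xG e ≠ 1 ∧ t * xG e = xG e * t ∧ sG e * sG e = 1 ∧ t * sG e = sG e * t ∧
      sG e * xG e * sG e = xG e * xG e ∧ sG e ≠ 1 ∧ sG e ≠ t := by
  obtain ⟨h894, h698, h3319, p3, s2, st, sx, -⟩ := three_base
  have hcomm : ∀ n : ↥(Subgroup.centralizer ({t} : Set G)), t * (n : G) = (n : G) * t :=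
    fun n => (mem_cent_iff.1 n.2).symm
  refine ⟨?_, ?_, hcomm _, ?_, hcomm _, ?_, ?_, ?_⟩
  · rw [xG, ← Subgroup.coe_pow, ← map_pow, OneMemClass.coe_eq_one, MulEquiv.map_eq_one_iff]
    exact cod_injective (by rw [cod_pow, cod_ofCode, p3, cod_one])
  · rw [xG, ne_eq, OneMemClass.coe_eq_one, MulEquiv.map_eq_one_iff]
    exact fun h => absurd (congrArg cod h) (by rw [cod_ofCode, cod_one]; decide)
  · rw [sG, ← Subgroup.coe_mul, ← map_mul, OneMemClass.coe_eq_one, MulEquiv.map_eq_one_iff]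
    exact cod_injective (by rw [cod_mul, cod_ofCode, s2, cod_one])
  · rw [sG, xG, ← Subgroup.coe_mul, ← Subgroup.coe_mul, ← Subgroup.coe_mul, ← map_mul, ← map_mul, ← map_mul]
    exact congrArg (fun n => ((e.symm n : ↥(Subgroup.centralizer ({t} : Set G))) : G))
      (cod_injective (by rw [cod_mul, cod_mul, cod_mul, cod_ofCode, cod_ofCode, sx]))
  · rw [sG, ne_eq, OneMemClass.coe_eq_one, MulEquiv.map_eq_one_iff]
    exact fun h => absurd (congrArg cod h) (by rw [cod_ofCode, cod_one]; decide)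
  · intro h
    have h' : e.symm (ofCode 698 h698) = ⟨t, t_mem⟩ := Subtype.ext h
    rw [MulEquiv.symm_apply_eq] at h'
    exact absurd (congrArg cod h') (by rw [cod_ofCode, cod_t ht e]; decide)

omit [Finite G] in
theorem conj_equiv {u : G} (h : IsConj t u) :
    ∃ f : ↥(Subgroup.centralizer ({u} : Set G)) →* CG, Function.Injective f ∧
      ∃ c : G, ∀ n : ↥(Subgroup.centralizer ({u} : Set G)), ∃ hm : c⁻¹ * (n : G) * c ∈ Subgroup.centralizer ({t} : Set G),
        f n = e ⟨c⁻¹ * (n : G) * c, hm⟩ := by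
  obtain ⟨c, hc⟩ := isConj_iff.1 h
  have hmem : ∀ n : ↥(Subgroup.centralizer ({u} : Set G)), c⁻¹ * (n : G) * c ∈ Subgroup.centralizer ({t} : Set G) := by
    intro n
    rw [mem_cent_iff]
    have := mem_cent_iff.1 n.2
    subst hc
    calc c⁻¹ * (n : G) * c * t = c⁻¹ * ((n : G) * (c * t * c⁻¹)) * c := by group
      _ = t * (c⁻¹ * (n : G) * c) := by rw [this]; group
  let g : ↥(Subgroup.centralizer ({u} : Set G)) →* ↥(Subgroup.centralizer ({t} : Set G)) :=
    { toFun := fun n => ⟨c⁻¹ * (n : G) * c, hmem n⟩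
      map_one' := Subtype.ext (by simp)
      map_mul' := fun a b => Subtype.ext (by simp [mul_assoc]) }
  refine ⟨e.toMonoidHom.comp g, fun a b hab => ?_, c, fun n => ⟨hmem n, rfl⟩⟩
  have := congrArg Subtype.val (e.injective hab)
  exact Subtype.ext (mul_left_cancel (mul_right_cancel this))

include e in
theorem card_odd_sub {u : G} (hu : IsConj t u) (H : Subgroup G) (hle : H ≤ Subgroup.centralizer ({u} : Set G))
    (hodd : Odd (Nat.card H)) : Nat.card H = 1 ∨ Nat.card H = 3 ∨ Nat.card H = 5 := by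
  obtain ⟨f, hf, -⟩ := conj_equiv e hu
  have hinj : Function.Injective (f.comp (Subgroup.inclusion hle)) := hf.comp (Subgroup.inclusion_injective hle)
  rw [Nat.card_congr (MonoidHom.ofInjective hinj).toEquiv] at hodd ⊢
  exact card_odd_sub_cg _ hodd

omit [Finite G] in
/-- All elements of order three centralised by involutions are conjugate. -/
theorem three_isConj {u y : G} (hu : IsConj t u) (hy : y * u = u * y) (h3 : y ^ 3 = 1) (h1 : y ≠ 1) :
    IsConj y (xG e) := by
  obtain ⟨f, hf, c, hfc⟩ := conj_equiv e hu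
  obtain ⟨hm, hfe⟩ := hfc ⟨y, mem_cent_iff.2 hy⟩
  set n : ↥(Subgroup.centralizer ({t} : Set G)) := ⟨c⁻¹ * y * c, hm⟩ with hn
  have q1 : cod (e n) ≠ 194 := fun hh => h1 (by
    rw [← cod_one, ← map_one e] at hh
    have h2 : c⁻¹ * y * c = 1 := congrArg Subtype.val (e.injective (cod_injective hh))
    calc y = c * (c⁻¹ * y * c) * c⁻¹ := by group
      _ = 1 := by rw [h2]; group)
  have q3 : pw (cod (e n)) 3 = 194 := by
    rw [← cod_pow, ← map_pow, ← cod_one, ← map_one e]
    refine congrArg (fun m => cod (e m)) (Subtype.ext ?_)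
    show (c⁻¹ * y * c) ^ 3 = 1
    have := conj_pow (a := c⁻¹) (b := y) (i := 3)
    rw [inv_inv] at this
    rw [this, h3, mul_one, inv_mul_cancel]
  obtain ⟨w, hw, hwc⟩ := three_conj _ (cod_mem _) q1 q3
  set m : ↥(Subgroup.centralizer ({t} : Set G)) := e.symm (ofCode w hw) with hmdef
  have he : m * n * m⁻¹ = e.symm (ofCode 894 three_base.1) := by
    rw [MulEquiv.eq_symm_apply]
    refine cod_injective ?_
    rw [map_mul, map_mul, map_inv, cod_mul, cod_mul, cod_inv, hmdef, cod_lift, cod_ofCode]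
    exact hwc
  refine isConj_iff.2 ⟨(m : G) * c⁻¹, ?_⟩
  have h2 := congrArg Subtype.val he
  simp only [Subgroup.coe_mul, Subgroup.coe_inv, hn] at h2
  rw [xG, ← h2]
  group

include ht in
/-- Elements commuting with `x` inside the centraliser of `t`. -/
theorem cent_tx {y : G} (h1 : y * t = t * y) (h2 : y * xG e = xG e * y) :
    (y * y = 1 → y = 1 ∨ y = t) ∧ (Odd (orderOf y) → y = 1 ∨ y = xG e ∨ y = xG e * xG e) := by
  obtain ⟨c2, c15⟩ := three_cent (cod (e ⟨y, mem_cent_iff.2 h1⟩)) (cod_mem _) (by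
    have h := congrArg (fun n => cod (e n)) (show (⟨y, mem_cent_iff.2 h1⟩ : ↥(Subgroup.centralizer ({t} : Set G))) *
      e.symm (ofCode 894 three_base.1) = e.symm (ofCode 894 three_base.1) * ⟨y, mem_cent_iff.2 h1⟩ from Subtype.ext h2)
    simp only [map_mul, cod_mul, cod_lift] at h
    exact h)
  have back : ∀ {m : ↥(Subgroup.centralizer ({t} : Set G))},
      cod (e ⟨y, mem_cent_iff.2 h1⟩) = cod (e m) → y = m := fun h =>
    congrArg Subtype.val (e.injective (cod_injective h))
  refine ⟨fun hy => ?_, fun hy => ?_⟩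
  · rcases c2 (by
      rw [← cod_mul, ← map_mul, ← cod_one, ← map_one e]
      exact congrArg (fun m => cod (e m)) (Subtype.ext hy)) with h | h
    · exact Or.inl (back (m := 1) (by rw [h, map_one, cod_one]))
    · exact Or.inr (back (m := ⟨t, t_mem⟩) (by rw [h, cod_t ht e]))
  · have hd : orderOf (⟨y, mem_cent_iff.2 h1⟩ : ↥(Subgroup.centralizer ({t} : Set G))) ∣ 2 ^ 3 * 15 := by
      have h := orderOf_dvd_natCard (⟨y, mem_cent_iff.2 h1⟩ : ↥(Subgroup.centralizer ({t} : Set G)))
      rw [card_centralizer ht e] at h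
      norm_num at h ⊢
      exact h
    rw [← Subgroup.orderOf_coe] at hd
    have h15 := Nat.Coprime.dvd_of_dvd_mul_left (Nat.Coprime.pow_right 3 (Nat.coprime_two_right.2 hy)) hd
    rcases c15 (by
      rw [← cod_pow, ← map_pow, ← cod_one, ← map_one e]
      exact congrArg (fun m => cod (e m)) (Subtype.ext (orderOf_dvd_iff_pow_eq_one.1 h15))) with h | h | h
    · exact Or.inl (back (m := 1) (by rw [h, map_one, cod_one]))
    · exact Or.inr (Or.inl (back (m := e.symm (ofCode 894 three_base.1)) (by rw [h, cod_lift])))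
    · exact Or.inr (Or.inr (back (m := e.symm (ofCode 894 three_base.1) * e.symm (ofCode 894 three_base.1))
        (by rw [h, map_mul, cod_mul, cod_lift])))

end Cfsg.Agent.Lead.JankoOne
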