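import Cfsg.Agent.Lib.Lead.JankoOne.Exclude

/-!
# The Sylow three-subgroup in order 189000 leads to a contradiction
-/

set_option autoImplicit false
set_option maxRecDepth 20000
set_option linter.style.haveILetI false

namespace Cfsg.Agent.Lead.JankoOne

open Cfsg Cfsg.Agent.Char
open Cfsg.Agent.Lead.GLTwoThree (orderOf_two_iff mem_cent_iff t_mem)

universe u

variable {G : Type u} [Group G] [Finite G] {t : G}

/-- The configuration: commuting elements `x`, `w` of order three and involutions `t`, `s`. -/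
structure Config (t s x w : G) : Prop where
  tt : t * t = 1
  t1 : t ≠ 1
  ss : s * s = 1
  s1 : s ≠ 1
  ts : t * s = s * t
  st1 : s ≠ t
  tx : t * x = x * t
  sx : s * x * s = x * x
  sw : s * w = w * s
  tw : t * w * t = w * w
  x3 : x ^ 3 = 1
  x1 : x ≠ 1
  w3 : w ^ 3 = 1
  xw : x * w = w * x
  wne : w ∉ Subgroup.zpowers x
  conj : IsConj x w
  card : Nat.card G = 189000

omit [Finite G] in
theorem sq_inv {a : G} (h : a ^ 3 = 1) : a * a = a⁻¹ :=
  eq_inv_of_mul_eq_one_left (by rw [← pow_two, ← pow_succ, h])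

theorem card_cent_conj {a b : G} (h : IsConj a b) :
    Nat.card ↥(Subgroup.centralizer ({a} : Set G)) = Nat.card ↥(Subgroup.centralizer ({b} : Set G)) := by
  obtain ⟨c, hc⟩ := isConj_iff.1 h
  refine Nat.card_congr ((MulAut.conj c).toEquiv.subtypeEquiv fun n => ?_)
  show n ∈ _ ↔ MulAut.conj c n ∈ _
  rw [Subgroup.mem_centralizer_singleton_iff, Subgroup.mem_centralizer_singleton_iff, ← hc,
    show c * a * c⁻¹ = MulAut.conj c a from rfl, ← map_mul, ← map_mul, (MulAut.conj c).injective.eq_iff]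

omit [Finite G] in
theorem cent_inv (a : G) : Subgroup.centralizer ({a⁻¹} : Set G) = Subgroup.centralizer ({a} : Set G) := by
  ext n
  rw [Subgroup.mem_centralizer_singleton_iff, Subgroup.mem_centralizer_singleton_iff]
  exact Commute.inv_right_iff

namespace Config

variable {s x w : G}

theorem inv_w (C : Config t s x w) : Config t s x w⁻¹ :=
  { C with
    sw := (show Commute s w from C.sw).inv_right
    tw := by
      rw [sq_inv (show w⁻¹ ^ 3 = 1 by rw [inv_pow, C.w3, inv_one]), inv_inv]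
      calc t * w⁻¹ * t = (t⁻¹ * w * t⁻¹)⁻¹ := by group
        _ = w := by rw [inv_eq_of_mul_eq_one_left C.tt, C.tw, sq_inv C.w3, inv_inv]
    w3 := by rw [inv_pow, C.w3, inv_one]
    xw := (show Commute x w from C.xw).inv_right
    wne := fun h => C.wne (by simpa using Subgroup.inv_mem _ h)
    conj := by
      obtain ⟨c, hc⟩ := isConj_iff.1 C.conj
      refine isConj_iff.2 ⟨c * s, ?_⟩
      calc c * s * x * (c * s)⁻¹ = c * (s * x * s⁻¹) * c⁻¹ := by group
        _ = c * x⁻¹ * c⁻¹ := by rw [inv_eq_of_mul_eq_one_left C.ss, C.sx, sq_inv C.x3]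
        _ = w⁻¹ := by rw [← hc]; group }

theorem cent_dvd (C : Config t s x w) : 9 ∣ Nat.card ↥(Subgroup.centralizer ({x} : Set G)) := by
  obtain ⟨E, hE, hxE, -, hmin, -⟩ := exists_nine C.x3 C.x1 C.w3 C.xw C.wne
  rw [← hE]
  exact Subgroup.card_dvd_of_le (hmin _ (Subgroup.mem_centralizer_singleton_iff.2 rfl)
    (Subgroup.mem_centralizer_singleton_iff.2 C.xw.symm))

/-- If `x w` is central in a Sylow three-subgroup, the centraliser of `x` has a subgroup of order 27. -/
theorem not_central_diag (C : Config t s x w) {R : Subgroup G} (hR : Nat.card R = 27) (hxR : x ∈ R) (hwR : w ∈ R)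
    (hz : ∀ r ∈ R, r * (x * w) = x * w * r) : 27 ∣ Nat.card ↥(Subgroup.centralizer ({x} : Set G)) := by
  by_contra hx27
  obtain ⟨E, hE, hxE, hwE, hmin, hlist⟩ := exists_nine C.x3 C.x1 C.w3 C.xw C.wne
  have hle : E ≤ R := hmin R hxR hwR
  obtain ⟨r, hr, hrE⟩ : ∃ r, r ∈ R ∧ r ∉ E := by
    by_contra hc
    push Not at hc
    have := Subgroup.card_le_of_le (H := R) (K := E) hc
    omega
  have hodd : Odd (orderOf r) := Odd.of_dvd_nat (by rw [hR]; decide) (Subgroup.orderOf_dvd_natCard _ hr)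
  have hnr : r * x * r⁻¹ ≠ x := fun h => hx27 (by
    have : R ≤ Subgroup.centralizer ({x} : Set G) :=
      nine_le hR hE hle (hmin _ (Subgroup.mem_centralizer_singleton_iff.2 rfl)
        (Subgroup.mem_centralizer_singleton_iff.2 C.xw.symm)) hr hrE
        (Subgroup.mem_centralizer_singleton_iff.2 (mul_inv_eq_iff_eq_mul.1 h))
    exact hR ▸ Subgroup.card_dvd_of_le this)
  have nx : ∀ y, IsConj x y → ¬ 27 ∣ Nat.card ↥(Subgroup.centralizer ({y} : Set G)) :=
    fun y hy => by rw [← card_cent_conj hy]; exact hx27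
  have dxw : 27 ∣ Nat.card ↥(Subgroup.centralizer ({x * w} : Set G)) := by
    rw [← hR]; exact Subgroup.card_dvd_of_le fun q hq => Subgroup.mem_centralizer_singleton_iff.2 (hz q hq)
  have dxw2 : 27 ∣ Nat.card ↥(Subgroup.centralizer ({x * (w * w)} : Set G)) := by
    rw [← card_cent_conj (a := x * w) (isConj_iff.2 ⟨t, ?_⟩)]
    · exact dxw
    · rw [inv_eq_of_mul_eq_one_left C.tt]
      calc t * (x * w) * t = (t * x * t) * (t * w * t) := by
            rw [show t * x * t * (t * w * t) = t * x * (t * t) * w * t by group, C.tt]; group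
        _ = x * (w * w) := by rw [C.tw, C.tx, mul_assoc x t t, C.tt, mul_one]
  have hinv : ∀ y, 27 ∣ Nat.card ↥(Subgroup.centralizer ({y} : Set G)) →
      27 ∣ Nat.card ↥(Subgroup.centralizer ({y⁻¹} : Set G)) := fun y hy => by rwa [cent_inv]
  have hw2 := sq_inv C.w3
  have hx2 := sq_inv C.x3
  have e1 : (x * (w * w))⁻¹ = x * x * w := by
    rw [hw2, hx2, mul_inv_rev, inv_inv]
    exact ((show Commute x w from C.xw).inv_left).eq.symm
  have e2 : (x * w)⁻¹ = x * x * (w * w) := by
    rw [hw2, hx2, mul_inv_rev]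
    exact ((show Commute x w from C.xw).inv_left.inv_right).eq.symm
  have hconjr : ∀ y, IsConj x y → IsConj x (r * y * r⁻¹) := fun y hy => hy.trans (isConj_iff.2 ⟨r, rfl⟩)
  have hsq : r * (r * x * r⁻¹) * r⁻¹ = x → False := fun h => hnr (commute_of_sq hodd h)
  have hrxw : r * (x * w) * r⁻¹ = x * w := by rw [hz r hr, mul_inv_cancel_right]
  rcases hlist _ (nine_normal hR hE hle hr hxE) with h | h | h | h | h | h | h | h | h
  · exact C.x1 (conj_eq_one_iff.1 h)
  · exact hnr h
  · refine hsq ?_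
    rw [h, ← conj_mul, h, hx2, ← mul_inv_rev, hx2, inv_inv]
  · -- `x ↦ w ↦ x`
    refine hsq ?_
    rw [h]
    calc r * w * r⁻¹ = (r * x * r⁻¹)⁻¹ * (r * (x * w) * r⁻¹) := by group
      _ = x := by rw [h, hrxw, C.xw, inv_mul_cancel_left]
  · -- `x ↦ w⁻¹`, so `w ↦ x w²`, a diagonal element
    refine nx _ (hconjr w C.conj) ?_
    rw [show r * w * r⁻¹ = x * (w * w) by
      calc r * w * r⁻¹ = (r * x * r⁻¹)⁻¹ * (r * (x * w) * r⁻¹) := by group
        _ = x * (w * w) := by
          rw [h, hrxw, hw2, inv_inv, ← mul_assoc, ← C.xw, mul_assoc, ← hw2]]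
    exact dxw2
  · exact nx _ (hconjr x (IsConj.refl x)) (h ▸ dxw)
  · exact nx _ (hconjr x (IsConj.refl x)) (by rw [h, ← e1]; exact hinv _ dxw2)
  · exact nx _ (hconjr x (IsConj.refl x)) (h ▸ dxw2)
  · exact nx _ (hconjr x (IsConj.refl x)) (by rw [h, ← e2]; exact hinv _ dxw)

theorem cent_27 (C : Config t s x w) : 27 ∣ Nat.card ↥(Subgroup.centralizer ({x} : Set G)) := by
  by_contra hx27
  haveI : Fact (Nat.Prime 3) := ⟨by norm_num⟩
  obtain ⟨E, hE, hxE, hwE, hmin, hlist⟩ := exists_nine C.x3 C.x1 C.w3 C.xw C.wne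
  obtain ⟨R, hle⟩ := (IsPGroup.of_card (p := 3) (n := 2) (G := E) (by rw [hE]; norm_num)).exists_le_sylow
  have hR : Nat.card (R : Subgroup G) = 27 := by
    rw [R.card_eq_multiplicity, C.card]
    rw [show (189000 : ℕ) = 3 ^ 3 * 7000 by norm_num, Nat.factorization_mul (by norm_num) (by norm_num),
      Finsupp.add_apply, Nat.Prime.factorization_pow (by norm_num), Finsupp.single_eq_same,
      Nat.factorization_eq_zero_of_not_dvd (by norm_num)]
    norm_num
  haveI : Nontrivial (R : Subgroup G) := by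
    rw [← Finite.one_lt_card_iff_nontrivial, hR]; norm_num
  haveI := R.isPGroup'.center_nontrivial
  have hd : 3 ∣ Nat.card (Subgroup.center (R : Subgroup G)) := by
    obtain ⟨n, hn⟩ := IsPGroup.iff_card.1 (R.isPGroup'.to_subgroup (Subgroup.center (R : Subgroup G)))
    have := Finite.one_lt_card (α := Subgroup.center (R : Subgroup G))
    rw [hn] at this ⊢
    rcases n with - | n
    · simp at this
    · exact dvd_pow_self 3 (by omega)
  obtain ⟨z, hz⟩ := exists_prime_orderOf_dvd_card' 3 hd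
  set z' : G := ((z : (R : Subgroup G)) : G) with hz'
  have hzc : ∀ r ∈ (R : Subgroup G), r * z' = z' * r := fun r hr =>
    congrArg Subtype.val (Subgroup.mem_center_iff.1 z.2 ⟨r, hr⟩)
  have hord : orderOf z' = 3 := by rw [hz', Subgroup.orderOf_coe, Subgroup.orderOf_coe, hz]
  have hzE : z' ∈ E := by
    by_contra hne
    refine hx27 ?_
    have := nine_le hR hE hle (H := Subgroup.centralizer ({x} : Set G))
      (hmin _ (Subgroup.mem_centralizer_singleton_iff.2 rfl) (Subgroup.mem_centralizer_singleton_iff.2 C.xw.symm))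
      (SetLike.coe_mem z.1) hne (Subgroup.mem_centralizer_singleton_iff.2 (hzc x (hle hxE)).symm)
    exact hR ▸ Subgroup.card_dvd_of_le this
  have hzd : 27 ∣ Nat.card ↥(Subgroup.centralizer ({z'} : Set G)) := by
    rw [← hR]; exact Subgroup.card_dvd_of_le fun q hq => Subgroup.mem_centralizer_singleton_iff.2 (hzc q hq)
  have hw2 := sq_inv C.w3
  have hx2 := sq_inv C.x3
  have key : ∀ {w'}, Config t s x w' → w' ∈ E → (z' = x * w' ∨ z' = x * x * (w' * w')) → False := by
    intro w' C' hw' hzw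
    refine hx27 (C'.not_central_diag hR (hle hxE) (hle hw') ?_)
    intro r hr
    rcases hzw with h | h
    · rw [← h]; exact hzc r hr
    · have hh : x * w' = z'⁻¹ := by
        rw [h, hx2, sq_inv C'.w3, mul_inv_rev, inv_inv, inv_inv]; exact C'.xw
      rw [hh]
      exact (show Commute r z' from hzc r hr).inv_right
  have hwi : w⁻¹ ∈ E := E.inv_mem hwE
  have ei : w⁻¹ * w⁻¹ = w := by rw [← mul_inv_rev, hw2, inv_inv]
  rcases hlist _ hzE with h | h | h | h | h | h | h | h | h
  · rw [h, orderOf_one] at hord; omega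
  · exact hx27 (h ▸ hzd)
  · rw [h, hx2, cent_inv] at hzd; exact hx27 hzd
  · rw [h, ← card_cent_conj C.conj] at hzd; exact hx27 hzd
  · rw [h, hw2, cent_inv, ← card_cent_conj C.conj] at hzd; exact hx27 hzd
  · exact key C hwE (Or.inl h)
  · exact key C.inv_w hwi (Or.inr (by rw [ei]; exact h))
  · exact key C.inv_w hwi (Or.inl (by rw [← hw2]; exact h))
  · exact key C hwE (Or.inr h)

end Config

/-- The conjugation by `g` has order four on `x`, `w`. -/
theorem four_dvd_orderOf {g x w : G} (hx : g * x * g⁻¹ = w⁻¹) (hw : g * w * g⁻¹ = x) (h1 : x ≠ w)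
    (h2 : x ≠ w⁻¹) (h3 : x ≠ x⁻¹) : 4 ∣ orderOf g := by
  let φ := MulAut.conj g
  have e1 : φ x = w⁻¹ := hx
  have e2 : φ w = x := hw
  have e4 : (φ ^ 4) x = x := by
    rw [pow_succ, pow_succ, pow_succ, pow_one]
    simp only [MulAut.mul_apply, e1, e2, map_inv, inv_inv]
  have hfix : ∀ k, (φ ^ (4 * k)) x = x := by
    intro k
    induction k with
    | zero => simp
    | succ k ih => rw [Nat.mul_succ, pow_add, MulAut.mul_apply, e4, ih]
  have hn : (φ ^ orderOf g) x = x := by
    rw [show φ = MulAut.conj g from rfl, ← map_pow, pow_orderOf_eq_one, map_one, MulAut.one_apply]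
  conv at hn => lhs; rw [← Nat.div_add_mod (orderOf g) 4, add_comm, pow_add, MulAut.mul_apply, hfix]
  have hlt := Nat.mod_lt (orderOf g) (show 4 > 0 by norm_num)
  rw [Nat.dvd_iff_mod_eq_zero]
  interval_cases hm : orderOf g % 4
  · rfl
  · rw [pow_one, e1] at hn; exact absurd hn.symm h2
  · rw [pow_two, MulAut.mul_apply, e1, map_inv, e2] at hn; exact absurd hn.symm h3
  · rw [pow_succ, pow_two, MulAut.mul_apply, MulAut.mul_apply, e1, map_inv, e2, map_inv, e1, inv_inv] at hn
    exact absurd hn.symm h1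

theorem odd_kernel_inv {O : Subgroup G} {x : G} {a : G} (hO : O ≤ Subgroup.centralizer ({x} : Set G))
    (hodd : Odd (Nat.card O)) (hmem : ∀ m ∈ Subgroup.centralizer ({x} : Set G), Odd (orderOf m) → m ∈ O)
    (ha : a * a = 1) (hax : a * x * a ∈ Subgroup.zpowers x) : ∀ o ∈ O, a * o * a ∈ O := by
  intro o ho
  have hai : a⁻¹ = a := inv_eq_of_mul_eq_one_left ha
  have hc : Commute o (a * x * a) := by
    obtain ⟨k, hk⟩ := Subgroup.mem_zpowers_iff.1 hax
    rw [← hk]
    exact (show Commute o x from Subgroup.mem_centralizer_singleton_iff.1 (hO ho)).zpow_right k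
  refine hmem _ (Subgroup.mem_centralizer_singleton_iff.2 ?_) ?_
  · calc a * o * a * x = a * o * (a * x * a) * a := by
          rw [show a * o * (a * x * a) * a = a * o * a * x * (a * a) by group, ha, mul_one]
      _ = a * (a * x * a) * o * a := by rw [mul_assoc a o, hc.eq]; group
      _ = x * (a * o * a) := by rw [show a * (a * x * a) * o * a = (a * a) * x * (a * o * a) by group, ha, one_mul]
  · have : a * o * a = MulAut.conj a o := by rw [MulAut.conj_apply, hai]
    rw [this, MulEquiv.orderOf_eq]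
    exact Odd.of_dvd_nat hodd (Subgroup.orderOf_dvd_natCard _ ho)

namespace Config

variable {s x w : G}

/-- The configuration is impossible. -/
theorem absurd_of (C : Config t s x w) {O : Subgroup G} (hO : O ≤ Subgroup.centralizer ({x} : Set G))
    (hcard : Nat.card ↥(Subgroup.centralizer ({x} : Set G)) = 2 * Nat.card O) (hodd : Odd (Nat.card O))
    (hmem : ∀ m ∈ Subgroup.centralizer ({x} : Set G), Odd (orderOf m) → m ∈ O)
    (hbound : Nat.card O ≤ 45) (hexp : ∀ y : G, y ^ 4 = 1 → y * y = 1) : False := by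
  haveI : Fact (Nat.Prime 3) := ⟨by norm_num⟩
  have hO27 : Nat.card O = 27 := by
    have h := C.cent_27
    rw [hcard] at h
    have h' := Nat.Coprime.dvd_of_dvd_mul_left (by norm_num : Nat.Coprime 27 2) h
    obtain ⟨q, hq⟩ := h'
    have hpos : 0 < Nat.card O := Nat.card_pos
    rcases q with - | - | q <;> omega
  have o3 : ∀ {y : G}, y ^ 3 = 1 → Odd (orderOf y) := fun h =>
    Odd.of_dvd_nat (by decide) (orderOf_dvd_of_pow_eq_one h)
  have hxO : x ∈ O := hmem _ (Subgroup.mem_centralizer_singleton_iff.2 rfl) (o3 C.x3)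
  have hwO : w ∈ O := hmem _ (Subgroup.mem_centralizer_singleton_iff.2 C.xw.symm) (o3 C.w3)
  have hcen : ∀ r ∈ O, r * x = x * r := fun r hr => Subgroup.mem_centralizer_singleton_iff.1 (hO hr)
  have hw1 : w ≠ 1 := fun h => C.wne (h ▸ Subgroup.one_mem _)
  have hxw : x ∉ Subgroup.zpowers w := fun h => C.wne (by
    rcases mem_three C.w3 h with e | e | e
    · exact absurd e C.x1
    · exact e ▸ Subgroup.mem_zpowers x
    · rw [sq_inv C.w3] at e
      have hw' : w = x⁻¹ := by rw [e, inv_inv]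
      rw [hw']
      exact Subgroup.inv_mem _ (Subgroup.mem_zpowers x))
  by_cases hwc : ∀ r ∈ O, r * w = w * r
  swap
  · push Not at hwc
    obtain ⟨r, hr, hrw⟩ := exists_shift hO27 C.x3 C.x1 C.w3 C.wne hxO hwO hcen hwc
    -- a conjugate of `O` centralising `w`
    obtain ⟨c, hc⟩ := isConj_iff.1 C.conj
    set O' := O.map (MulAut.conj c).toMonoidHom with hO'
    have hO'27 : Nat.card O' = 27 := by
      rw [hO', Subgroup.card_map_of_injective (MulAut.conj c).injective, hO27]
    have hcen' : ∀ y ∈ O', y * w = w * y := by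
      rintro _ ⟨y, hy, rfl⟩
      show MulAut.conj c y * w = w * MulAut.conj c y
      rw [← hc, show c * x * c⁻¹ = MulAut.conj c x from rfl, ← map_mul, ← map_mul, hcen y hy]
    have hodd' : ∀ m, m * w = w * m → Odd (orderOf m) → m ∈ O' := by
      intro m hm ho
      refine ⟨(MulAut.conj c).symm m, hmem _ ?_ (by rw [MulEquiv.orderOf_eq]; exact ho), MulEquiv.apply_symm_apply _ m⟩
      rw [Subgroup.mem_centralizer_singleton_iff]
      apply (MulAut.conj c).injective
      rw [map_mul, map_mul, MulEquiv.apply_symm_apply, show MulAut.conj c x = w from hc, hm]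
    have hxO' : x ∈ O' := hodd' x C.xw (o3 C.x3)
    have hwO' : w ∈ O' := hodd' w rfl (o3 C.w3)
    have hnc : ∃ y ∈ O', y * x ≠ x * y := by
      by_contra hall
      push Not at hall
      have heq : O' = O := Subgroup.eq_of_le_of_card_ge (fun y hy =>
        hmem y (Subgroup.mem_centralizer_singleton_iff.2 (hall y hy))
          (Odd.of_dvd_nat (by rw [hO'27]; decide) (Subgroup.orderOf_dvd_natCard _ hy))) (by rw [hO27, hO'27])
      obtain ⟨y, hy, hyw⟩ := hwc
      exact hyw (hcen' y (heq ▸ hy))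
    obtain ⟨q, hq, hqx⟩ := exists_shift hO'27 C.w3 hw1 C.x3 hxw hwO' hxO' hcen' hnc
    have rx : r * x * r⁻¹ = x := by rw [hcen r hr, mul_inv_cancel_right]
    have qw : q * w * q⁻¹ = w := by rw [hcen' q hq, mul_inv_cancel_right]
    have qw' : q⁻¹ * w * q = w := by
      calc q⁻¹ * w * q = q⁻¹ * (q * w * q⁻¹) * q := by rw [qw]
        _ = w := by group
    have qx' : q⁻¹ * x * q = x * w⁻¹ := by
      calc q⁻¹ * x * q = q⁻¹ * ((q * x * q⁻¹) * w⁻¹) * q := by rw [hqx]; group
        _ = x * (q⁻¹ * w * q)⁻¹ := by group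
        _ = x * w⁻¹ := by rw [qw']
    have h4 : 4 ∣ orderOf (r * q⁻¹ * r) := by
      refine four_dvd_orderOf (x := x) (w := w) ?_ ?_ (fun h => hxw (h ▸ Subgroup.mem_zpowers w))
        (fun h => hxw (h ▸ Subgroup.inv_mem _ (Subgroup.mem_zpowers w))) ?_
      · calc r * q⁻¹ * r * x * (r * q⁻¹ * r)⁻¹ = r * (q⁻¹ * (r * x * r⁻¹) * q) * r⁻¹ := by group
          _ = r * (x * w⁻¹) * r⁻¹ := by rw [rx, qx']
          _ = (r * x * r⁻¹) * (r * w * r⁻¹)⁻¹ := by group
          _ = w⁻¹ := by rw [rx, hrw, mul_inv_rev, mul_inv_cancel_left]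
      · calc r * q⁻¹ * r * w * (r * q⁻¹ * r)⁻¹ = r * (q⁻¹ * (r * w * r⁻¹) * q) * r⁻¹ := by group
          _ = r * ((q⁻¹ * w * q) * (q⁻¹ * x * q)) * r⁻¹ := by rw [hrw]; group
          _ = r * x * r⁻¹ := by rw [qw', qx', ← mul_assoc w, ← C.xw, mul_inv_cancel_right]
          _ = x := rx
      · intro h
        apply C.x1
        have := C.x3
        rw [pow_succ, pow_two] at this
        rwa [show x * x = 1 by nth_rw 2 [h]; exact mul_inv_cancel x, one_mul] at this
    obtain ⟨m, hm⟩ := h4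
    set g := r * q⁻¹ * r
    have hpos : 0 < orderOf g := orderOf_pos g
    have hy := hexp (g ^ m) (by rw [← pow_mul, mul_comm, ← hm, pow_orderOf_eq_one])
    rw [← pow_add] at hy
    have := Nat.le_of_dvd (by omega) (orderOf_dvd_of_pow_eq_one hy)
    omega
  -- `O` is abelian
  obtain ⟨E, hE, hxE, hwE, hmin, -⟩ := exists_nine C.x3 C.x1 C.w3 C.xw C.wne
  have hEle : E ≤ O := hmin O hxO hwO
  have hcomm : ∀ a ∈ O, ∀ b ∈ O, a * b = b * a := by
    have hEc : ∀ a ∈ O, ∀ b ∈ E, a * b = b * a := fun a ha b hb => by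
      have := hmin (Subgroup.centralizer ({a} : Set G)) (Subgroup.mem_centralizer_singleton_iff.2 (hcen a ha).symm)
        (Subgroup.mem_centralizer_singleton_iff.2 (hwc a ha).symm) hb
      exact (Subgroup.mem_centralizer_singleton_iff.1 this).symm
    intro a ha b hb
    by_cases haE : a ∈ E
    · exact (hEc b hb a haE).symm
    have := nine_le hO27 hE hEle (H := Subgroup.centralizer ({a} : Set G))
      (fun y hy => Subgroup.mem_centralizer_singleton_iff.2 (hEc a ha y hy).symm) ha haE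
      (Subgroup.mem_centralizer_singleton_iff.2 rfl)
    exact (Subgroup.mem_centralizer_singleton_iff.1 (this hb)).symm
  -- `O` is a self-centralising Sylow subgroup
  have hai : t⁻¹ = t := inv_eq_of_mul_eq_one_left C.tt
  have hxpow : ∀ a : G, (a * x * a = x ∨ a * x * a = x * x) → a * x * a ∈ Subgroup.zpowers x := fun a h => by
    rcases h with h | h <;> rw [h]
    · exact Subgroup.mem_zpowers x
    · exact Subgroup.mul_mem _ (Subgroup.mem_zpowers x) (Subgroup.mem_zpowers x)
  have htx' : t * x * t = x := by rw [C.tx, mul_assoc, C.tt, mul_one]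
  have hinvt := odd_kernel_inv hO hodd hmem C.tt (hxpow t (Or.inl htx'))
  have hinvs := odd_kernel_inv hO hodd hmem C.ss (hxpow s (Or.inr C.sx))
  have htO : t ∉ O := fun h => by
    have h2 := Subgroup.orderOf_dvd_natCard _ h
    rw [orderOf_two_iff.2 ⟨C.tt, C.t1⟩, hO27] at h2
    norm_num at h2
  have hself : ∀ y, (∀ o ∈ O, y * o = o * y) → y ∈ O := by
    intro y hy
    have hyM : y ∈ Subgroup.centralizer ({x} : Set G) := Subgroup.mem_centralizer_singleton_iff.2 (hy x hxO)
    by_contra hne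
    have htM : t ∈ Subgroup.centralizer ({x} : Set G) := Subgroup.mem_centralizer_singleton_iff.2 C.tx
    have hidx : (O.subgroupOf (Subgroup.centralizer ({x} : Set G))).index = 2 := by
      have h := (O.subgroupOf (Subgroup.centralizer ({x} : Set G))).card_mul_index
      rw [Nat.card_congr (Subgroup.subgroupOfEquivOfLe hO).toEquiv, hcard, hO27] at h
      omega
    have hty : t * y ∈ O := by
      have := (Subgroup.mul_mem_iff_of_index_two hidx (a := ⟨t, htM⟩) (b := ⟨y, hyM⟩))
      simp only [Subgroup.mem_subgroupOf] at this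
      exact this.2 ⟨fun h => absurd h htO, fun h => absurd h hne⟩
    apply hw1
    have h1 : t * w * t = w := by
      have hw' : Commute (t * y) w := hwc _ hty
      have hy' : Commute y w := hy w hwO
      have : Commute t w := by
        have := hw'.mul_left hy'.inv_left
        rwa [mul_inv_cancel_right] at this
      rw [this.eq, mul_assoc, C.tt, mul_one]
    rw [C.tw] at h1
    exact mul_left_cancel (h1.trans (mul_one w).symm)
  have hpg : IsPGroup 3 O := IsPGroup.of_card (n := 3) (by rw [hO27]; norm_num)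
  have hO3 : Nat.card O = 3 ^ (Nat.card G).factorization 3 := by
    rw [hO27, C.card, show (189000 : ℕ) = 3 ^ 3 * 7000 by norm_num, Nat.factorization_mul (by norm_num) (by norm_num),
      Finsupp.add_apply, Nat.Prime.factorization_pow (by norm_num), Finsupp.single_eq_same,
      Nat.factorization_eq_zero_of_not_dvd (by norm_num)]
    norm_num
  let R : Sylow 3 G := Sylow.ofCard O hO3
  have hR : (R : Subgroup G) = O := Sylow.coe_ofCard _ _
  set N := Subgroup.normalizer (O : Set G) with hN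
  have hON : O ≤ N := Subgroup.le_normalizer
  have hnorm : ∀ a : G, a * a = 1 → (∀ o ∈ O, a * o * a ∈ O) → a ∈ N := fun a ha h => by
    refine Subgroup.mem_normalizer_iff.2 fun y => ?_
    rw [inv_eq_of_mul_eq_one_left ha]
    refine ⟨h y, fun hy => ?_⟩
    have := h _ hy
    rwa [show a * (a * y * a) * a = (a * a) * y * (a * a) by group, ha, one_mul, mul_one] at this
  have htN : t ∈ N := hnorm t C.tt hinvt
  have hsN : s ∈ N := hnorm s C.ss hinvs
  -- the four group
  have hcV : ∀ (m : Subgroup.zpowers t) (n : Subgroup.zpowers s), Commute (m : G) (n : G) := by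
    rintro ⟨_, i, rfl⟩ ⟨_, j, rfl⟩
    exact (show Commute t s from C.ts).zpow_zpow i j
  let f := MonoidHom.noncommCoprod (Subgroup.zpowers t).subtype (Subgroup.zpowers s).subtype hcV
  have fapply : ∀ m n, f (m, n) = (m : G) * (n : G) := fun m n => MonoidHom.noncommCoprod_apply _ _ _ _
  have mem2 : ∀ {a b : G}, a * a = 1 → b ∈ Subgroup.zpowers a → b = 1 ∨ b = a := by
    intro a b ha hb
    obtain ⟨k, rfl⟩ := Subgroup.mem_zpowers_iff.1 hb
    rcases Int.even_or_odd' k with ⟨i, rfl | rfl⟩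
    · left; rw [zpow_mul, show a ^ (2 : ℤ) = 1 by rw [zpow_two, ha], one_zpow]
    · right; rw [zpow_add, zpow_mul, show a ^ (2 : ℤ) = 1 by rw [zpow_two, ha], one_zpow, one_mul, zpow_one]
  have hf : Function.Injective f := by
    rw [injective_iff_map_eq_one]
    rintro ⟨⟨m, hm⟩, ⟨n, hn⟩⟩ h
    rw [fapply] at h
    change m * n = 1 at h
    rcases mem2 C.tt hm with rfl | rfl <;> rcases mem2 C.ss hn with rfl | rfl
    · rfl
    · exact absurd (by simpa using h) C.s1
    · exact absurd (by simpa using h) C.t1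
    · exact absurd (mul_left_cancel (h.trans C.tt.symm)) C.st1
  have hV4 : Nat.card f.range = 4 := by
    rw [← Nat.card_congr (MonoidHom.ofInjective hf).toEquiv, Nat.card_prod, Nat.card_zpowers, Nat.card_zpowers,
      orderOf_two_iff.2 ⟨C.tt, C.t1⟩, orderOf_two_iff.2 ⟨C.ss, C.s1⟩]
  have hVN : f.range ≤ N := by
    rintro _ ⟨⟨⟨m, hm⟩, ⟨n, hn⟩⟩, rfl⟩
    rw [fapply]
    exact N.mul_mem (Subgroup.zpowers_le.2 htN hm) (Subgroup.zpowers_le.2 hsN hn)
  -- the order of the normaliser
  have d27 := Subgroup.card_dvd_of_le hON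
  rw [hO27] at d27
  have d4 := Subgroup.card_dvd_of_le hVN
  rw [hV4] at d4
  have dG := Subgroup.card_subgroup_dvd_card N
  rw [C.card] at dG
  have hn3 : N.index ≡ 1 [MOD 3] := by
    have h := card_sylow_modEq_one 3 G
    rw [Sylow.card_eq_index_normalizer R] at h
    rwa [show ((R : Set G)) = ((R : Subgroup G) : Set G) from rfl, hR] at h
  have hidxmul := N.card_mul_index
  rw [C.card] at hidxmul
  have no_prime : ∀ p : ℕ, (p = 5 ∨ p = 7) → ¬ p ∣ Nat.card N := by
    intro p hp hd
    haveI : Fact p.Prime := ⟨by rcases hp with rfl | rfl <;> norm_num⟩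
    obtain ⟨y, hy⟩ := exists_prime_orderOf_dvd_card' (G := N) p hd
    rw [← Subgroup.orderOf_coe] at hy
    letI act : MulAction (Subgroup.zpowers (y : G)) O :=
      { smul := fun a o => ⟨(a : G) * o * (a : G)⁻¹,
          (Subgroup.mem_normalizer_iff.1 (Subgroup.zpowers_le.2 y.2 a.2 : (a : G) ∈ N) (o : G)).1 o.2⟩
        one_smul := fun o => Subtype.ext (by show ((1 : G)) * o * (1 : G)⁻¹ = o; simp)
        mul_smul := fun a b o => Subtype.ext (by
          show ((a : G) * b) * o * ((a : G) * b)⁻¹ = a * (b * o * (b : G)⁻¹) * (a : G)⁻¹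
          group) }
    have hpy : IsPGroup p (Subgroup.zpowers (y : G)) := IsPGroup.of_card (n := 1) (by rw [Nat.card_zpowers, hy, pow_one])
    have hmod := hpy.card_modEq_card_fixedPoints O
    set F := O ⊓ Subgroup.centralizer ({(y : G)} : Set G) with hF
    have hcF : Nat.card (MulAction.fixedPoints (Subgroup.zpowers (y : G)) O) = Nat.card F := by
      refine Nat.card_congr
        { toFun := fun o => ⟨o.1.1, o.1.2, Subgroup.mem_centralizer_singleton_iff.2 ?_⟩
          invFun := fun o => ⟨⟨o.1, o.2.1⟩, fun a => Subtype.ext ?_⟩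
          left_inv := fun o => rfl
          right_inv := fun o => rfl }
      · have h : (y : G) * o.1.1 * (y : G)⁻¹ = o.1.1 :=
          congrArg Subtype.val (o.2 ⟨(y : G), Subgroup.mem_zpowers _⟩)
        exact (mul_inv_eq_iff_eq_mul.1 h).symm
      · show (a : G) * o.1 * (a : G)⁻¹ = o.1
        obtain ⟨k, hk⟩ := Subgroup.mem_zpowers_iff.1 a.2
        have hc : Commute (o.1 : G) (y : G) := Subgroup.mem_centralizer_singleton_iff.1 o.2.2
        rw [← hk, ← (hc.zpow_right k).eq, mul_inv_cancel_right]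
    rw [hO27, hcF] at hmod
    have hFd : Nat.card F ∣ 27 := hO27 ▸ Subgroup.card_dvd_of_le inf_le_left
    have hFne : Nat.card F ≠ 27 := fun h => by
      have heq : F = O := Subgroup.eq_of_le_of_card_ge inf_le_left (by rw [hO27, h])
      have hyO : (y : G) ∈ O := hself _ fun o ho => by
        have : o ∈ F := heq.symm ▸ ho
        exact (Subgroup.mem_centralizer_singleton_iff.1 this.2).symm
      have := Subgroup.orderOf_dvd_natCard _ hyO
      rw [hy, hO27] at this
      rcases hp with rfl | rfl <;> norm_num at this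
    have hmemF : Nat.card F ∈ Nat.divisors 27 := Nat.mem_divisors.2 ⟨hFd, by norm_num⟩
    rw [show Nat.divisors 27 = {1, 3, 9, 27} by decide] at hmemF
    simp only [Finset.mem_insert, Finset.mem_singleton] at hmemF
    unfold Nat.ModEq at hmod
    rcases hp with rfl | rfl <;> rcases hmemF with h | h | h | h <;> rw [h] at hmod <;> omega
  have hN108 : Nat.card N = 108 := by
    have h108 : 108 ∣ Nat.card N := (Nat.Coprime.mul_dvd_of_dvd_of_dvd (by norm_num : Nat.Coprime 27 4) d27 d4)
    have c5 : Nat.Coprime (Nat.card N) (5 ^ 3 * 7) :=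
      Nat.Coprime.mul_right ((Nat.Coprime.pow_right 3 ((Nat.Prime.coprime_iff_not_dvd (by norm_num)).2
        (no_prime 5 (Or.inl rfl))).symm)) ((Nat.Prime.coprime_iff_not_dvd (by norm_num)).2 (no_prime 7 (Or.inr rfl))).symm
    have h216 : Nat.card N ∣ 216 := Nat.Coprime.dvd_of_dvd_mul_left c5 (by norm_num; exact dG)
    obtain ⟨k, hk⟩ := h108
    rw [hk, show (216 : ℕ) = 108 * 2 by norm_num] at h216
    have h2 := (Nat.dvd_prime Nat.prime_two).1 (Nat.dvd_of_mul_dvd_mul_left (by norm_num) h216)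
    rcases h2 with rfl | rfl
    · simpa using hk
    · rw [hk] at hidxmul
      unfold Nat.ModEq at hn3
      omega
  -- every element of the normaliser fixes or inverts `x`
  let φ : O × f.range → N := fun p => ⟨(p.1 : G) * (p.2 : G), N.mul_mem (hON p.1.2) (hVN p.2.2)⟩
  have hinj : Function.Injective φ := by
    rintro ⟨a, b⟩ ⟨a', b'⟩ h
    have h' : (a : G) * b = a' * b' := congrArg Subtype.val h
    have hdisj : (a' : G)⁻¹ * a = b' * (b : G)⁻¹ := by
      calc (a' : G)⁻¹ * a = (a' : G)⁻¹ * ((a : G) * b) * (b : G)⁻¹ := by group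
        _ = b' * (b : G)⁻¹ := by rw [h']; group
    have hbot : O ⊓ f.range = ⊥ := Subgroup.inf_eq_bot_of_coprime (by rw [hO27, hV4]; norm_num)
    have h1 : (a' : G)⁻¹ * a = 1 := by
      rw [← Subgroup.mem_bot, ← hbot]
      exact ⟨O.mul_mem (O.inv_mem a'.2) a.2, hdisj ▸ Subgroup.mul_mem _ b'.2 (Subgroup.inv_mem _ b.2)⟩
    have ha : (a' : G) = a := inv_mul_eq_one.1 h1
    rw [ha] at h'
    exact Prod.ext (Subtype.ext ha.symm) (Subtype.ext (mul_left_cancel h'))
  have hbij : Function.Bijective φ :=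
    hinj.bijective_of_nat_card_le (by rw [Nat.card_prod, hO27, hV4, hN108])
  obtain ⟨c, hc⟩ := isConj_iff.1 C.conj
  have hcen' : ∀ a ∈ O, a ∈ Subgroup.centralizer ((R : Subgroup G) : Set G) := fun a ha =>
    Subgroup.mem_centralizer_iff.2 fun b hb => hcomm b (hR ▸ hb) a ha
  obtain ⟨n, hn, he⟩ := Sylow.conj_eq_normalizer_conj_of_mem_centralizer R x c⁻¹ (hcen' x hxO)
    (by rw [inv_inv, hc]; exact hcen' w hwO)
  rw [inv_inv, hc] at he
  rw [show ((R : Set G)) = ((R : Subgroup G) : Set G) from rfl, hR] at hn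
  obtain ⟨⟨o, v⟩, hov⟩ := hbij.2 ⟨n⁻¹, N.inv_mem hn⟩
  have hn' : n⁻¹ = (o : G) * (v : G) := (congrArg Subtype.val hov).symm
  apply C.wne
  obtain ⟨⟨⟨m, hm⟩, ⟨k, hk⟩⟩, hv⟩ := v.2
  rw [fapply] at hv
  change m * k = (v : G) at hv
  have hz : ∀ {a y : G}, a * a = 1 → y ∈ Subgroup.zpowers x → (a * x * a ∈ Subgroup.zpowers x) →
      a * y * a⁻¹ ∈ Subgroup.zpowers x := fun {a y} ha hy hax => by
    obtain ⟨i, rfl⟩ := Subgroup.mem_zpowers_iff.1 hy
    rw [← conj_zpow, inv_eq_of_mul_eq_one_left ha]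
    exact Subgroup.zpow_mem _ hax i
  have hk' : k * x * k⁻¹ ∈ Subgroup.zpowers x := by
    rcases mem2 C.ss hk with rfl | rfl
    · simp
    · exact hz C.ss (Subgroup.mem_zpowers x) (hxpow _ (Or.inr C.sx))
  have hm' : m * (k * x * k⁻¹) * m⁻¹ ∈ Subgroup.zpowers x := by
    rcases mem2 C.tt hm with rfl | rfl
    · simpa using hk'
    · exact hz C.tt hk' (hxpow _ (Or.inl htx'))
  obtain ⟨i, hi⟩ := Subgroup.mem_zpowers_iff.1 hm'
  refine Subgroup.mem_zpowers_iff.2 ⟨i, ?_⟩
  rw [he, hi, show n⁻¹ * x * n = n⁻¹ * x * (n⁻¹)⁻¹ by rw [inv_inv], hn', ← hv]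
  rw [show (o : G) * (m * k) * x * ((o : G) * (m * k))⁻¹ = (o : G) * (m * (k * x * k⁻¹) * m⁻¹) * (o : G)⁻¹ by group]
  have : Commute (o : G) (m * (k * x * k⁻¹) * m⁻¹) := by
    rw [← hi]; exact (show Commute (o : G) x from hcen _ o.2).zpow_right i
  rw [this.eq, mul_inv_cancel_right]

end Config

end Cfsg.Agent.Lead.JankoOne
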