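import Cfsg.Agent.Lib.Lead.JankoOne.Amalgam

/-!
# An element of order five centralising an element of order three
-/

set_option autoImplicit false
set_option maxRecDepth 20000
set_option linter.style.haveILetI false

namespace Cfsg.Agent.Lead.JankoOne

open Cfsg Cfsg.Agent.Char
open Cfsg.Agent.Lead.GLTwoThree (orderOf_two_iff mem_cent_iff t_mem)

universe u

variable {G : Type u} [Group G] [Finite G] {t : G}
variable (e : ↥(Subgroup.centralizer ({t} : Set G)) ≃* CG)

/-- Some inverting involution centralises an element of order five in the centraliser of `x`. -/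
theorem exists_five [IsSimpleGroup G] (h2c : IsTwoCentralInvolution t) (hcard : Nat.card G = 175560) :
    ∃ s z : G, (s = sG e ∨ s = t * sG e) ∧ z ^ 5 = 1 ∧ z ≠ 1 ∧ z * xG e = xG e * z ∧ z * s = s * z ∧
      t * z * t = z⁻¹ := by
  have ht := h2c.1
  haveI : Fact (Nat.Prime 3) := ⟨by norm_num⟩
  obtain ⟨hconj, -⟩ := one_class ht e h2c
  obtain ⟨x3, x1, tx, ss, ts, sx, s1, st1⟩ := base_facts e ht
  obtain ⟨O, hO, hMO, hodd, hmem⟩ := exists_kernel ht e h2c
  obtain ⟨tt, t1⟩ := orderOf_two_iff.1 ht
  set x := xG e with hx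
  set s := sG e with hs
  set r := t * s with hr
  have rr : r * r = 1 := by
    rw [hr, show t * s * (t * s) = t * (s * t) * s by group, ← ts, show t * (t * s) * s = (t * t) * (s * s) by group,
      tt, ss, one_mul]
  have r1 : r ≠ 1 := fun h => st1 (mul_left_cancel (h.trans tt.symm))
  have tr : t * r = r * t := by rw [hr, mul_assoc t s, ← ts]
  have rx : r * x * r = x * x := by
    calc r * x * r = t * (s * x * s) * t := by
          conv_lhs => arg 2; rw [ts]
          rw [hr]
          group
      _ = x * x := by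
        rw [sx, ← mul_assoc, tx, mul_assoc x t x, tx, ← mul_assoc, mul_assoc (x * x) t t, tt, mul_one]
  have hxpow : ∀ a : G, (a * x * a = x ∨ a * x * a = x * x) → a * x * a ∈ Subgroup.zpowers x := fun a h => by
    rcases h with h | h <;> rw [h]
    · exact Subgroup.mem_zpowers x
    · exact Subgroup.mul_mem _ (Subgroup.mem_zpowers x) (Subgroup.mem_zpowers x)
  have invt := odd_kernel_inv hO hodd hmem tt (hxpow t (Or.inl (by rw [tx, mul_assoc, tt, mul_one])))
  have invs := odd_kernel_inv hO hodd hmem ss (hxpow s (Or.inr sx))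
  set B : G → Subgroup G := fun a => O ⊓ Subgroup.centralizer ({a} : Set G) with hB
  have hA : ∀ y ∈ B t, y = 1 ∨ y = x ∨ y = x * x := fun y hy =>
    (cent_tx ht e (Subgroup.mem_centralizer_singleton_iff.1 hy.2) (Subgroup.mem_centralizer_singleton_iff.1 (hO hy.1))).2
      (Odd.of_dvd_nat hodd (Subgroup.orderOf_dvd_natCard _ hy.1))
  -- a part cannot have order three
  have cB : ∀ a, a * a = 1 → a ≠ 1 → t * a = a * t → a * x * a = x * x →
      Nat.card (B a) = 1 ∨ Nat.card (B a) = 5 := by
    intro a aa a1 ta ax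
    rcases card_odd_sub e (hconj a (orderOf_two_iff.2 ⟨aa, a1⟩)) (B a) inf_le_right
      (Odd.of_dvd_nat hodd (Subgroup.card_dvd_of_le inf_le_left)) with h | h | h
    · exact Or.inl h
    · exfalso
      haveI : Nontrivial (B a) := by rw [← Finite.one_lt_card_iff_nontrivial, h]; norm_num
      obtain ⟨⟨w, hwB⟩, hw1⟩ := exists_ne (1 : B a)
      have w3 : w ^ 3 = 1 := orderOf_dvd_iff_pow_eq_one.1 (h ▸ Subgroup.orderOf_dvd_natCard _ hwB)
      have hwx : w * x = x * w := Subgroup.mem_centralizer_singleton_iff.1 (hO hwB.1)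
      have hne : w ∉ Subgroup.zpowers x := fun hm => by
        have hwa : Commute w a := Subgroup.mem_centralizer_singleton_iff.1 hwB.2
        have hfix : a * w * a = w := by rw [← hwa.eq, mul_assoc, aa, mul_one]
        rcases mem_three x3 hm with rfl | rfl | rfl
        · exact hw1 rfl
        · rw [ax] at hfix
          exact x1 (mul_left_cancel (hfix.trans (mul_one _).symm))
        · have h' : a * (x * x) * a = (a * x * a) * (a * x * a) := by
            rw [show a * x * a * (a * x * a) = a * x * (a * a) * x * a by group, aa, mul_one]; group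
          rw [h', ax, show x * x * (x * x) = x ^ 3 * x by simp [pow_succ, mul_assoc], x3, one_mul] at hfix
          exact x1 (mul_left_cancel (hfix.symm.trans (mul_one _).symm))
      obtain ⟨E, hE, -⟩ := exists_nine x3 x1 w3 hwx.symm hne
      have := Subgroup.card_subgroup_dvd_card E
      rw [hE, hcard] at this
      norm_num at this
    · exact Or.inr h
  -- some part has order five
  obtain ⟨a, aa, a1, ta, hcase, h5⟩ : ∃ a, a * a = 1 ∧ a ≠ 1 ∧ t * a = a * t ∧ (a = s ∨ a = r) ∧ Nat.card (B a) = 5 := by
    rcases cB s ss s1 ts sx with hb | hb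
    swap
    · exact ⟨s, ss, s1, ts, Or.inl rfl, hb⟩
    rcases cB r rr r1 tr rx with hc | hc
    swap
    · exact ⟨r, rr, r1, tr, Or.inr rfl, hc⟩
    exfalso
    -- otherwise `⟨x⟩` would be a Sylow subgroup with normaliser of order twelve
    have hOle : O ≤ Subgroup.zpowers x := fun k hk => by
      obtain ⟨u1, hu1, u2, hu2, u3, hu3, c1, c2, c3, he⟩ := Solv.ExtClosed.decomp tt ss ts hodd invt invs hk
      have e1 : ∀ {q : G} {a : G}, Nat.card (B a) = 1 → q ∈ O → Commute a q → q = 1 := fun {q a} h hq hc => by
        have hb : B a = ⊥ := Subgroup.card_eq_one.1 h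
        have hm : q ∈ B a := ⟨hq, Subgroup.mem_centralizer_singleton_iff.2 hc.eq.symm⟩
        rw [hb] at hm
        exact Subgroup.mem_bot.1 hm
      rw [he, e1 hc hu2 c2, e1 hb hu3 c3, mul_one, mul_one]
      rcases hA u1 ⟨hu1, Subgroup.mem_centralizer_singleton_iff.2 c1.eq.symm⟩ with h | h | h <;> rw [h]
      · exact one_mem _
      · exact Subgroup.mem_zpowers x
      · exact Subgroup.mul_mem _ (Subgroup.mem_zpowers x) (Subgroup.mem_zpowers x)
    have hxO : x ∈ O := hmem _ (Subgroup.mem_centralizer_singleton_iff.2 rfl)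
      (Odd.of_dvd_nat (by decide) (orderOf_dvd_of_pow_eq_one x3))
    have hOeq : O = Subgroup.zpowers x := le_antisymm hOle (Subgroup.zpowers_le.2 hxO)
    have hx3 : Nat.card (Subgroup.zpowers x) = 3 := by rw [Nat.card_zpowers, orderOf_eq_prime x3 x1]
    rw [hOeq, hx3] at hMO
    have hS3 : Nat.card (Subgroup.zpowers x) = 3 ^ (Nat.card G).factorization 3 := by
      rw [hx3, hcard, show (175560 : ℕ) = 3 * 58520 by norm_num, Nat.factorization_mul (by norm_num) (by norm_num),
        Finsupp.add_apply, Nat.Prime.factorization_self (by norm_num),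
        Nat.factorization_eq_zero_of_not_dvd (by norm_num)]
      norm_num
    let R : Sylow 3 G := Sylow.ofCard _ hS3
    set M := Subgroup.centralizer ({x} : Set G) with hM
    set N := Subgroup.normalizer ((Subgroup.zpowers x : Subgroup G) : Set G) with hN
    have hsi : s⁻¹ = s := inv_eq_of_mul_eq_one_left ss
    have x2 : x * x = x⁻¹ := sq_inv x3
    have hMN : M ≤ N := fun g hg => Subgroup.mem_normalizer_iff.2 fun q => by
      have hgx : Commute g x := Subgroup.mem_centralizer_singleton_iff.1 hg
      constructor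
      · intro hq
        obtain ⟨k, rfl⟩ := Subgroup.mem_zpowers_iff.1 hq
        rw [(hgx.zpow_right k).eq, mul_inv_cancel_right]
        exact Subgroup.mem_zpowers_iff.2 ⟨k, rfl⟩
      · intro hq
        obtain ⟨k, hk⟩ := Subgroup.mem_zpowers_iff.1 hq
        have hq' : q = g⁻¹ * x ^ k * g := by rw [hk]; group
        rw [hq', mul_assoc, ← (hgx.zpow_right k).eq, inv_mul_cancel_left]
        exact Subgroup.mem_zpowers_iff.2 ⟨k, rfl⟩
    have hsN : s ∈ N := Subgroup.mem_normalizer_iff.2 fun q => by
      have key : ∀ q ∈ Subgroup.zpowers x, s * q * s⁻¹ ∈ Subgroup.zpowers x := fun q hq => by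
        obtain ⟨k, rfl⟩ := Subgroup.mem_zpowers_iff.1 hq
        rw [← conj_zpow, hsi]
        exact Subgroup.zpow_mem _ (hxpow s (Or.inr sx)) k
      refine ⟨key q, fun h => ?_⟩
      have := key _ h
      rw [show s * (s * q * s⁻¹) * s⁻¹ = (s * s) * q * (s * s)⁻¹ by group, ss, one_mul, inv_one, mul_one] at this
      exact this
    have hsM : s ∉ M := fun h => x1 (by
      have hh : s * x * s = x := by
        rw [show s * x = x * s from (Subgroup.mem_centralizer_singleton_iff.1 h), mul_assoc, ss, mul_one]
      rw [sx] at hh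
      exact mul_left_cancel (hh.trans (mul_one x).symm))
    have hMcard : Nat.card M = 6 := by rw [hMO]
    have hd1 := Subgroup.card_dvd_of_le hMN
    have hle12 : Nat.card N ≤ 12 := by
      classical
      have hsub : ∀ n : N, ∃ m : M, (n : G) = m ∨ (n : G) = s * m := by
        intro n
        have hnx := (Subgroup.mem_normalizer_iff.1 n.2 x).1 (Subgroup.mem_zpowers x)
        rcases mem_three x3 hnx with h | h | h
        · exact absurd (conj_eq_one_iff.1 h) x1
        · exact ⟨⟨n, Subgroup.mem_centralizer_singleton_iff.2 (mul_inv_eq_iff_eq_mul.1 h)⟩, Or.inl rfl⟩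
        · refine ⟨⟨s * n, Subgroup.mem_centralizer_singleton_iff.2 ?_⟩, Or.inr ?_⟩
          · rw [x2] at h sx
            calc s * n * x = s * ((n : G) * x * (n : G)⁻¹) * s * (s * n) := by
                  rw [show s * ((n : G) * x * (n : G)⁻¹) * s * (s * n) =
                    s * ((n : G) * x * (n : G)⁻¹) * (s * s) * n by group, ss, mul_one]
                  group
              _ = (s * x * s⁻¹)⁻¹ * (s * n) := by rw [h, hsi]; congr 1; rw [mul_inv_rev, mul_inv_rev, hsi]; group
              _ = x * (s * n) := by rw [hsi, sx, inv_inv]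
          · show (n : G) = s * (s * n)
            rw [← mul_assoc, ss, one_mul]
      choose f hf using hsub
      have hle : Nat.card N ≤ Nat.card (M ⊕ M) := by
        refine Nat.card_le_card_of_injective
          (fun n : N => if (n : G) = (f n : G) then Sum.inl (f n) else Sum.inr (f n)) fun a b h => ?_
        by_cases ha : (a : G) = (f a : G) <;> by_cases hb : (b : G) = (f b : G) <;>
          simp only [ha, hb, if_true, if_false, Sum.inl.injEq, Sum.inr.injEq, reduceCtorEq] at h
        · exact Subtype.ext (ha.trans ((congrArg Subtype.val h).trans hb.symm))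
        · exact Subtype.ext (((hf a).resolve_left ha).trans ((congrArg (fun q : M => s * (q : G)) h).trans
            ((hf b).resolve_left hb).symm))
      rw [Nat.card_sum, hMcard] at hle
      omega
    have hne6 : Nat.card N ≠ 6 := fun h => hsM (by
      rw [Subgroup.eq_of_le_of_card_ge hMN (by rw [h, hMcard])]
      exact hsN)
    rw [hMcard] at hd1
    have hN12 : Nat.card N = 12 := by
      obtain ⟨k, hk⟩ := hd1
      have : 0 < Nat.card N := Nat.card_pos
      rw [hk] at hle12 hne6 this ⊢
      omega
    have hn3 : N.index ≡ 1 [MOD 3] := by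
      have h := card_sylow_modEq_one 3 G
      rw [Sylow.card_eq_index_normalizer R] at h
      rwa [show ((R : Set G)) = ((R : Subgroup G) : Set G) from rfl, Sylow.coe_ofCard] at h
    have hidx := N.card_mul_index
    rw [hcard, hN12] at hidx
    unfold Nat.ModEq at hn3
    omega
  -- the element
  haveI : Nontrivial (B a) := by rw [← Finite.one_lt_card_iff_nontrivial, h5]; norm_num
  obtain ⟨⟨z, hzB⟩, hz1⟩ := exists_ne (1 : B a)
  haveI : Fact (Nat.Prime 5) := ⟨by norm_num⟩
  have z5 : z ^ 5 = 1 := orderOf_dvd_iff_pow_eq_one.1 (h5 ▸ Subgroup.orderOf_dvd_natCard _ hzB)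
  have hz1' : z ≠ 1 := fun h => hz1 (Subtype.ext h)
  have hza : Commute z a := Subgroup.mem_centralizer_singleton_iff.1 hzB.2
  have htz : t * z * t ∈ Subgroup.zpowers z := by
    have hzz : Subgroup.zpowers z = B a := Subgroup.eq_of_le_of_card_ge (Subgroup.zpowers_le.2 hzB) (by
      rw [h5, Nat.card_zpowers, orderOf_eq_prime z5 hz1'])
    rw [hzz]
    exact ⟨invt z hzB.1, Subgroup.mem_centralizer_singleton_iff.2
      ((((show Commute t a from ta).mul_left hza).mul_left (show Commute t a from ta)).eq)⟩
  refine ⟨a, z, hcase, z5, hz1', Subgroup.mem_centralizer_singleton_iff.1 (hO hzB.1), hza.eq, ?_⟩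
  obtain ⟨k, hk⟩ := (isOfFinOrder_of_finite z).mem_powers_iff_mem_zpowers.2 htz
  dsimp only at hk
  have hkk : z ^ (k * k) = z := by
    have hti : t⁻¹ = t := inv_eq_of_mul_eq_one_left tt
    calc z ^ (k * k) = (t * z * t⁻¹) ^ k := by rw [hti, ← hk, ← pow_mul]
      _ = t * z ^ k * t⁻¹ := conj_pow
      _ = (t * t) * z * (t * t) := by rw [hk, hti]; group
      _ = z := by rw [tt, one_mul, mul_one]
  have hk5 : k * k % 5 = 1 := by
    have h' : z ^ (k * k) = z ^ 1 := by rw [hkk, pow_one]
    rw [pow_eq_pow_iff_modEq, orderOf_eq_prime z5 hz1'] at h'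
    exact h'
  rw [← hk, pow_eq_pow_mod k z5]
  have hlt := Nat.mod_lt k (show 5 > 0 by norm_num)
  rw [Nat.mul_mod] at hk5
  interval_cases hv : k % 5 <;> norm_num at hk5
  · -- fixed by `t`
    exfalso
    have h1 : z = t * z * t := by rw [← hk, pow_eq_pow_mod k z5, hv, pow_one]
    have hzt : z * t = t * z := by
      calc z * t = (t * z * t) * t := by rw [← h1]
        _ = t * z := by rw [mul_assoc (t * z), tt, mul_one]
    have h3 : z ^ 3 = 1 := by
      rcases hA z ⟨hzB.1, Subgroup.mem_centralizer_singleton_iff.2 hzt⟩ with h | h | h <;> rw [h]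
      · simp
      · exact x3
      · rw [← pow_two, ← pow_mul, mul_comm, pow_mul, x3, one_pow]
    have := Nat.dvd_gcd (orderOf_dvd_of_pow_eq_one h3) (orderOf_dvd_of_pow_eq_one z5)
    norm_num at this
    exact hz1' this
  · exact eq_inv_of_mul_eq_one_left (by rw [← pow_succ, z5])

end Cfsg.Agent.Lead.JankoOne
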