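import Cfsg.Agent.Lib.Lead.JankoOne.Five
import Cfsg.Agent.Lib.Lead.JankoOne.Coset.CheckA
import Cfsg.Agent.Lib.Lead.JankoOne.Coset.CheckB
import Cfsg.Agent.Lib.Lead.JankoOne.Coset.CheckC
import Cfsg.Agent.Lib.Lead.JankoOne.Coset.CheckD

/-!
# The relations of the amalgam hold in a group of order 175560
-/

set_option autoImplicit false
set_option maxRecDepth 20000
set_option linter.style.haveILetI false

namespace Cfsg.Agent.Lead.JankoOne

open Cfsg Cfsg.Agent.Char
open Cfsg.Agent.Lead.GLTwoThree (orderOf_two_iff mem_cent_iff t_mem)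

/-- the code of a letter -/
def letterCode (zc l : ℕ) : ℕ :=
  [3319, 482, 894, 1294, 194, 194, 714, 1634, 1190, 2566, zc, iv zc].getD l 194

/-- a word in the letters of the centraliser -/
def cProd (zc : ℕ) : List ℕ → ℕ
  | [] => 194
  | l :: w => mc (letterCode zc l) (cProd zc w)

/-- the special relator of a near case -/
def relNear : List ℕ := [8, 5, 10, 4, 9, 5, 11, 4]

/-- the special relator of a far case -/
def relFar : List ℕ := [8, 5, 5, 5, 10, 4, 4, 4, 9, 5, 5, 5, 11, 4, 4, 4]

/-- the relators involving `y`: `y⁷`, the action of `b` and on the three generators of the Sylow subgroup -/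
def special : List (List ℕ) :=
  [[4, 4, 4, 4, 4, 4, 4], [2, 4, 3, 5, 5], [4, 0, 5, 7, 6, 0], [4, 6, 5, 0], [4, 7, 5, 6, 0], [4, 5], [5, 4]]

/-- a relator is either one of the centraliser or a rotation of a special one -/
def relOK (zc : ℕ) (rel : List ℕ) (r : List ℕ) : Bool :=
  (r.all (fun l => Nat.blt l 4 || (Nat.blt 5 l && Nat.blt l 12)) && Nat.beq (cProd zc r) 194) ||
    (rel :: special).any fun s => (List.range (s.length + 1)).any fun n => Coset.eqWord r (Coset.rot s n)

theorem rels_ok : (Coset.relsA.all (relOK 970 relNear) && Coset.relsB.all (relOK 1202 relNear) &&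
    Coset.relsC.all (relOK 1110 relFar) && Coset.relsD.all (relOK 1138 relFar)) = true ∧
    (∀ r ∈ Coset.relsA ++ Coset.relsB ++ Coset.relsC ++ Coset.relsD, ∀ g ∈ r, g < 13) := by
  constructor <;> decide +kernel

theorem letter_check : ∀ zc ∈ [970, 1202, 1110, 1138], (∀ l ∈ List.range 13, letterCode zc l ∈ codes) ∧
    ∀ l ∈ List.range 12, l ≠ 4 → l ≠ 5 → letterCode zc (Coset.bar l) = iv (letterCode zc l) := by decide +kernel

universe u

variable {G : Type u} [Group G] [Finite G] {t : G}
variable (e : ↥(Subgroup.centralizer ({t} : Set G)) ≃* CG) (y : G)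

/-- the value of a letter -/
noncomputable def letterVal (zc l : ℕ) : G :=
  if l = 4 then y else if l = 5 then y⁻¹ else lift e (letterCode zc l)

/-- the value of a word -/
noncomputable def wordVal (zc : ℕ) (w : List ℕ) : G := (w.map (letterVal e y zc)).prod

/-- the action on cosets of the centraliser -/
noncomputable def cosetAct (zc : ℕ) (a : G ⧸ Subgroup.centralizer ({t} : Set G)) (l : ℕ) :
    G ⧸ Subgroup.centralizer ({t} : Set G) := (letterVal e y zc l)⁻¹ • a

omit [Finite G] in
theorem fold_cosetAct (zc : ℕ) : ∀ (w : List ℕ) (a : G ⧸ Subgroup.centralizer ({t} : Set G)),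
    w.foldl (cosetAct e y zc) a = (wordVal e y zc w)⁻¹ • a
  | [], a => by simp [wordVal]
  | l :: w, a => by
    rw [List.foldl_cons, fold_cosetAct zc w, cosetAct, smul_smul, wordVal, wordVal, List.map_cons, List.prod_cons,
      mul_inv_rev]

omit [Finite G] in
theorem wordVal_cprod {zc : ℕ} (hz : zc ∈ [970, 1202, 1110, 1138]) :
    ∀ w : List ℕ, (∀ l ∈ w, l < 4 ∨ 5 < l ∧ l < 12) → cProd zc w ∈ codes ∧ wordVal e y zc w = lift e (cProd zc w)
  | [], _ => ⟨show (194 : ℕ) ∈ codes by decide, by simp [wordVal, cProd, lift_one]⟩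
  | l :: w, hw => by
    obtain ⟨h1, h2⟩ := wordVal_cprod hz w (fun x hx => hw x (List.mem_cons_of_mem _ hx))
    have hl := hw l List.mem_cons_self
    have hc : letterCode zc l ∈ codes := (letter_check zc hz).1 l (List.mem_range.2 (by omega))
    refine ⟨mc_mem hc h1, ?_⟩
    rw [show wordVal e y zc (l :: w) = letterVal e y zc l * wordVal e y zc w by simp [wordVal], h2, cProd,
      ← lift_mul e hc h1, letterVal, if_neg (by omega), if_neg (by omega)]

omit [Finite G] in
theorem wordVal_rot (zc : ℕ) (s : List ℕ) (n : ℕ) (h : wordVal e y zc s = 1) :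
    wordVal e y zc (Coset.rot s n) = 1 := by
  have hs : wordVal e y zc (s.take n) * wordVal e y zc (s.drop n) = 1 := by
    rw [wordVal, wordVal, ← List.prod_append, ← List.map_append, List.take_append_drop]; exact h
  rw [Coset.rot, wordVal, List.map_append, List.prod_append]
  exact mul_eq_one_comm.1 hs

omit [Finite G] in
theorem t_mul_lift (h : lift e 3319 = t) {a : ℕ} (ha : a ∈ codes) :
    t * lift e a = lift e (mc 3319 a) ∧ lift e a * t = lift e (mc a 3319) := by
  rw [← lift_mul e three_base.2.2.1 ha, ← lift_mul e ha three_base.2.2.1]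
  constructor <;> rw [h]

/-- The amalgam with one more relation. -/
structure Amalg (zc : ℕ) (rel : List ℕ) : Prop where
  y7 : y ^ 7 = 1
  ync : y ∉ Subgroup.centralizer ({t} : Set G)
  by' : lift e 894 * y * (lift e 894)⁻¹ = y ^ 2
  yA : y * lift e 714 * y⁻¹ = t
  yT : y * t * y⁻¹ = lift e 5279
  yB : y * lift e 1634 * y⁻¹ = lift e 3839
  tT : lift e 3319 = t
  rel1 : wordVal e y zc rel = 1

omit [Finite G] in
theorem Amalg.special_one {zc : ℕ} {rel : List ℕ} (hz : zc ∈ [970, 1202, 1110, 1138]) (A : Amalg e y zc rel) :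
    ∀ s ∈ rel :: special, wordVal e y zc s = 1 := by
  intro s hs
  have hi894 : lift e 1294 = (lift e 894)⁻¹ := by
    rw [← lift_inv e three_base.1]; congr 1
  simp only [special, List.mem_cons, List.not_mem_nil, or_false] at hs
  rcases hs with rfl | rfl | rfl | rfl | rfl | rfl | rfl | rfl
  · exact A.rel1
  · simp only [wordVal, List.map_cons, List.map_nil, List.prod_cons, List.prod_nil, letterVal, if_true, mul_one]
    rw [← A.y7]; simp [pow_succ, mul_assoc]
  · simp only [wordVal, List.map_cons, List.map_nil, List.prod_cons, List.prod_nil, letterVal, letterCode,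
      List.getD_cons_succ, List.getD_cons_zero, Nat.reduceEqDiff, if_false, if_true, mul_one]
    rw [hi894, show lift e 894 * (y * ((lift e 894)⁻¹ * (y⁻¹ * y⁻¹))) = (lift e 894 * y * (lift e 894)⁻¹) * (y⁻¹ * y⁻¹)
      by group, A.by', pow_two]
    group
  · simp only [wordVal, List.map_cons, List.map_nil, List.prod_cons, List.prod_nil, letterVal, letterCode,
      List.getD_cons_succ, List.getD_cons_zero, Nat.reduceEqDiff, if_false, if_true, mul_one]
    rw [lift_mul e (by decide) (by decide), lift_mul e (by decide) (by decide),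
      show y * (lift e 3319 * (y⁻¹ * lift e (mc 1634 (mc 714 3319)))) =
        (y * lift e 3319 * y⁻¹) * lift e (mc 1634 (mc 714 3319)) by group, A.tT, A.yT, lift_mul e (by decide) (by decide),
      show mc 5279 (mc 1634 (mc 714 3319)) = 194 by decide, lift_one]
  · simp only [wordVal, List.map_cons, List.map_nil, List.prod_cons, List.prod_nil, letterVal, letterCode,
      List.getD_cons_succ, List.getD_cons_zero, Nat.reduceEqDiff, if_false, if_true, mul_one]
    rw [show y * (lift e 714 * (y⁻¹ * lift e 3319)) = (y * lift e 714 * y⁻¹) * lift e 3319 by group, A.yA,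
      (t_mul_lift e A.tT three_base.2.2.1).1, show mc 3319 3319 = 194 by decide, lift_one]
  · simp only [wordVal, List.map_cons, List.map_nil, List.prod_cons, List.prod_nil, letterVal, letterCode,
      List.getD_cons_succ, List.getD_cons_zero, Nat.reduceEqDiff, if_false, if_true, mul_one]
    rw [lift_mul e (by decide) (by decide), show y * (lift e 1634 * (y⁻¹ * lift e (mc 714 3319))) =
        (y * lift e 1634 * y⁻¹) * lift e (mc 714 3319) by group, A.yB, lift_mul e (by decide) (by decide),
      show mc 3839 (mc 714 3319) = 194 by decide, lift_one]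
  · simp [wordVal, letterVal]
  · simp [wordVal, letterVal]

/-- The action defined by an amalgam. -/
noncomputable def Amalg.sys {zc : ℕ} {rel : List ℕ} (A : Amalg e y zc rel) (hz : zc ∈ [970, 1202, 1110, 1138])
    (L : Coset.Log) (hrels : L.rels.all (relOK zc rel) = true) (hlet : ∀ r ∈ L.rels, ∀ g ∈ r, g < 13)
    (hsub : L.sub = [0, 1, 2, 6, 7, 8, 10]) : Coset.Sys L (G ⧸ Subgroup.centralizer ({t} : Set G)) where
  base := ((1 : G) : G ⧸ Subgroup.centralizer ({t} : Set G))
  act := cosetAct e y zc
  ident a := by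
    simp [cosetAct, letterVal, letterCode, lift_one]
  cancel a g hg := by
    simp only [cosetAct, smul_smul]
    have hinv : letterVal e y zc (Coset.bar g) = (letterVal e y zc g)⁻¹ := by
      by_cases h4 : g = 4
      · subst h4; simp [letterVal, Coset.bar]
      by_cases h5 : g = 5
      · subst h5; simp [letterVal, Coset.bar]
      by_cases h12 : g = 12
      · subst h12; simp [letterVal, Coset.bar, letterCode, lift_one]
      have hb : Coset.bar g ≠ 4 ∧ Coset.bar g ≠ 5 := by interval_cases g <;> simp_all [Coset.bar]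
      obtain ⟨hc, hbar⟩ := letter_check zc hz
      rw [letterVal, if_neg hb.1, if_neg hb.2, hbar g (List.mem_range.2 (by omega)) h4 h5,
        lift_inv e (hc g (List.mem_range.2 hg)), letterVal, if_neg h4, if_neg h5]
    rw [hinv, inv_inv, mul_inv_cancel, one_smul]
  relator r hr a := by
    have h := List.all_eq_true.1 hrels r hr
    rw [fold_cosetAct]
    suffices wordVal e y zc r = 1 by rw [this, inv_one, one_smul]
    simp only [relOK, Bool.or_eq_true, Bool.and_eq_true, List.all_eq_true, List.any_eq_true, Nat.blt_eq,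
      Nat.beq_eq] at h
    rcases h with ⟨h1, h2⟩ | ⟨s, hs, n, -, hn⟩
    · rw [(wordVal_cprod e y hz r h1).2, h2, lift_one]
    · rw [Coset.eqWord_eq hn]
      exact wordVal_rot e y zc s n (A.special_one e y hz s hs)
  letters := hlet
  fixed g hg := by
    rw [cosetAct, MulAction.Quotient.smul_coe, smul_eq_mul, mul_one, QuotientGroup.eq]
    rw [hsub] at hg
    rw [inv_inv, mul_one]
    have : g ≠ 4 ∧ g ≠ 5 := by
      simp only [List.mem_cons, List.not_mem_nil, or_false] at hg
      omega
    rw [letterVal, if_neg this.1, if_neg this.2]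
    exact lift_mem e _

theorem collapse {zc : ℕ} {rel : List ℕ} (A : Amalg e y zc rel) (hz : zc ∈ [970, 1202, 1110, 1138])
    (L : Coset.Log) (hrels : L.rels.all (relOK zc rel) = true) (hlet : ∀ r ∈ L.rels, ∀ g ∈ r, g < 13)
    (hsub : L.sub = [0, 1, 2, 6, 7, 8, 10]) (hok : L.ok = true) {r : ℕ} (hr : L.ends r = (0, 4, 0))
    (hlt : r / 2 < L.size) : False := by
  let S := A.sys e y hz L hrels hlet hsub
  obtain ⟨hf, hg⟩ := S.holds hok (r / 2) hlt
  have h : S.act (S.val 0) 4 = S.val 0 := by
    have h1 := hr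
    unfold Coset.Log.ends at h1
    cases hpar : (r % 2 == 0)
    · simp only [hpar, cond_false, Prod.mk.injEq] at h1
      rw [h1.1, h1.2.2] at hf
      rw [← h1.2.1]
      conv_lhs => rw [← hf]
      exact S.cancel _ _ hg
    · simp only [hpar, cond_true, Prod.mk.injEq] at h1
      rw [h1.1, h1.2.1, h1.2.2] at hf
      exact hf
  rw [S.val_zero] at h
  change cosetAct e y zc ((1 : G) : G ⧸ Subgroup.centralizer ({t} : Set G)) 4 = ((1 : G) : _) at h
  rw [cosetAct, MulAction.Quotient.smul_coe, smul_eq_mul, mul_one, QuotientGroup.eq, inv_inv, mul_one,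
    letterVal, if_pos rfl] at h
  exact A.ync h

set_option maxHeartbeats 1000000 in
include e in
/-- In a group of order 175560 the amalgam satisfies the relations of the good case. -/
theorem exists_amalg [IsSimpleGroup G] (h2c : IsTwoCentralInvolution t) (hcard : Nat.card G = 175560) :
    ∃ (e' : ↥(Subgroup.centralizer ({t} : Set G)) ≃* CG) (y : G), Amalg e' y 1202 relNear := by
  obtain ⟨e, y, y7, ync, hby, hyA⟩ := exists_seven e h2c
  have ht := h2c.1
  have c := amalgam_codes
  obtain ⟨c1, c2, c3, c4, c5, c6, c7, c8, c9, h238, h714, h1634, h2154, h1190, h482, -, -, -⟩ := c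
  have h894 := three_base.1
  have h698 := three_base.2.1
  have h3319 := three_base.2.2.1
  have tT : lift e 3319 = t := lift_eq e (n := ⟨t, t_mem⟩) (cod_t ht e)
  have hbt : Commute (lift e 894) t := mem_cent_iff.1 (lift_mem e 894)
  have h5279 : (5279 : ℕ) ∈ codes := (syl_check.1 5279 (by decide)).1
  have h3839 : (3839 : ℕ) ∈ codes := (syl_check.1 3839 (by decide)).1
  set b := lift e 894 with hb
  -- `C₁ = b A b⁻¹ = y⁻¹ A y`
  have hC1 : lift e 2154 = y⁻¹ * lift e 714 * y := by
    have hbA : b * lift e 714 * b⁻¹ = lift e 2154 := by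
      rw [hb, lift_conj e h894 h714 (mc_mem h894 h714), c1]
    have hA : lift e 714 = y⁻¹ * t * y := by
      calc lift e 714 = y⁻¹ * (y * lift e 714 * y⁻¹) * y := by group
        _ = y⁻¹ * t * y := by rw [hyA]
    calc lift e 2154 = b * (y⁻¹ * t * y) * b⁻¹ := by rw [← hbA, hA]
      _ = (b * y * b⁻¹)⁻¹ * (b * t * b⁻¹) * (b * y * b⁻¹) := by group
      _ = y⁻¹ * (y⁻¹ * t * y) * y := by rw [hby, hbt.eq, mul_inv_cancel_right, pow_two]; group
      _ = y⁻¹ * lift e 714 * y := by rw [← hA]
  -- `B = b C₁ b⁻¹`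
  have hB : lift e 1634 = y⁻¹ * (y⁻¹ * lift e 2154 * y) * y := by
    have hbC : b * lift e 2154 * b⁻¹ = lift e 1634 := by
      rw [hb, lift_conj e h894 h2154 (mc_mem h894 h2154), c2]
    calc lift e 1634 = b * (y⁻¹ * lift e 714 * y) * b⁻¹ := by rw [← hbC, hC1]
      _ = (b * y * b⁻¹)⁻¹ * (b * lift e 714 * b⁻¹) * (b * y * b⁻¹) := by group
      _ = y⁻¹ * (y⁻¹ * lift e 2154 * y) * y := by
        rw [hby, hb, lift_conj e h894 h714 (mc_mem h894 h714), c1, pow_two]; group
  have hAC : lift e 714 * lift e 2154 = lift e 1634 := by rw [lift_mul e h714 h2154, c3]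
  have hyC1 : y * lift e 2154 * y⁻¹ = lift e 714 := by rw [hC1]; group
  have hyT : y * t * y⁻¹ = lift e 5279 := by
    have h1 : y * (y * (lift e 714 * lift e 2154) * y⁻¹) * y⁻¹ = lift e 2154 := by
      rw [hAC, hB]; group
    have h2 : y * (y * (lift e 714 * lift e 2154) * y⁻¹) * y⁻¹ = (y * t * y⁻¹) * t := by
      rw [show y * (y * (lift e 714 * lift e 2154) * y⁻¹) * y⁻¹ =
        (y * (y * lift e 714 * y⁻¹) * y⁻¹) * (y * (y * lift e 2154 * y⁻¹) * y⁻¹) by group, hyA, hyC1, hyA]
    have htt : t * t = 1 := (orderOf_two_iff.1 ht).1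
    calc y * t * y⁻¹ = (y * t * y⁻¹) * t * t := by rw [mul_assoc (y * t * y⁻¹), htt, mul_one]
      _ = lift e 2154 * lift e 3319 := by rw [← h2, h1, tT]
      _ = lift e 5279 := by rw [lift_mul e h2154 h3319, c6]
  have hyB : y * lift e 1634 * y⁻¹ = lift e 3839 := by
    rw [← hAC, show y * (lift e 714 * lift e 2154) * y⁻¹ = (y * lift e 714 * y⁻¹) * (y * lift e 2154 * y⁻¹) by group,
      hyA, hyC1, (t_mul_lift e tT h714).1, c7]
  have hA3 : y * (y * (y * t * y⁻¹) * y⁻¹) * y⁻¹ = lift e 1634 := by
    have h1 : y * lift e 5279 * y⁻¹ = lift e 4759 := by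
      rw [← c6, ← lift_mul e h2154 h3319, tT, show y * (lift e 2154 * t) * y⁻¹ =
        (y * lift e 2154 * y⁻¹) * (y * t * y⁻¹) by group, hyC1, hyT, lift_mul e h714 h5279, c9]
    rw [hyT, h1, ← c9, ← lift_mul e h714 h5279, show y * (lift e 714 * lift e 5279) * y⁻¹ =
      (y * lift e 714 * y⁻¹) * (y * lift e 5279 * y⁻¹) by group, hyA, h1,
      (t_mul_lift e tT (syl_check.1 4759 (by decide)).1).1, show mc 3319 4759 = 1634 by decide]
  -- the element of order five, moved to the pair `x' = 1190`, `s'`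
  obtain ⟨s, z, hs, z5, z1, zx, zs, tz⟩ := exists_five e h2c hcard
  set q := lift e 238 with hq
  have hqt : Commute q t := mem_cent_iff.1 (lift_mem e 238)
  have hqx : q * xG e * q⁻¹ = lift e 1190 := by
    rw [xG_eq, hq, lift_conj e h238 h894 (mc_mem h238 h894), c4]
  have hqs : q * sG e * q⁻¹ = lift e 714 := by
    rw [sG_eq, hq, lift_conj e h238 h698 (mc_mem h238 h698), c5]
  set z' := q * z * q⁻¹ with hz'
  have z'5 : z' ^ 5 = 1 := by rw [hz', conj_pow, z5, mul_one, mul_inv_cancel]
  have z'1 : z' ≠ 1 := fun h => z1 (conj_eq_one_iff.1 h)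
  have z'x : Commute z' (lift e 1190) := by
    rw [← hqx, hz']; exact (show Commute z (xG e) from zx).map (MulAut.conj q).toMonoidHom
  have tz' : t * z' * t = z'⁻¹ := by
    rw [hz', show t * (q * z * q⁻¹) * t = (t * q) * z * (q⁻¹ * t) by group, ← hqt.eq, (hqt.inv_left).eq,
      show q * t * z * (t * q⁻¹) = q * (t * z * t) * q⁻¹ by group, tz]
    group
  -- pulling into the centraliser
  have key : ∀ (k : ℕ) (s' : G) (p : ℕ) (cands : List ℕ), Commute z' s' → y ^ k * s' * (y ^ k)⁻¹ = t →
      p ∈ codes → y ^ k * t * (y ^ k)⁻¹ = lift e p →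
      (∀ c ∈ codes, c ≠ 194 → pw c 5 = 194 → mc (mc p c) p = iv c → ∃ i ∈ [1, 2, 3, 4], pw c i ∈ cands) →
      ∃ c ∈ cands, Commute (lift e 1190) ((y ^ k)⁻¹ * lift e c * y ^ k) := by
    intro k s' p cands hzs hks hp hkp hdec
    set w := y ^ k with hw
    have hm : w * z' * w⁻¹ ∈ Subgroup.centralizer ({t} : Set G) := by
      rw [mem_cent_iff, ← hks]
      exact (hzs.map (MulAut.conj w).toMonoidHom).eq
    set n : ↥(Subgroup.centralizer ({t} : Set G)) := ⟨w * z' * w⁻¹, hm⟩
    set c := cod (e n) with hc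
    have hcl : lift e c = w * z' * w⁻¹ := lift_eq e hc.symm
    have hcc : c ∈ codes := cod_mem _
    have back : ∀ a b, a ∈ codes → b ∈ codes → lift e a = lift e b → a = b := fun a b ha hb h => by
      rw [lift, dif_pos ha, lift, dif_pos hb] at h
      have := congrArg cod (e.symm.injective (Subtype.ext h))
      rwa [cod_ofCode, cod_ofCode] at this
    have hone : (194 : ℕ) ∈ codes := by decide
    have hpw : ∀ i, pw c i ∈ codes := fun i => by rw [hc, ← cod_pow]; exact cod_mem _
    obtain ⟨i, -, hi⟩ := hdec c hcc (fun h => z'1 (by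
        have h1 : w * z' * w⁻¹ = 1 := by rw [← hcl, h, lift_one]
        exact conj_eq_one_iff.1 h1))
      (back _ _ (hpw 5) hone (by rw [← lift_pow e hcc, hcl, conj_pow, z'5, lift_one]; group))
      (back _ _ (mc_mem (mc_mem hp hcc) hp) (by rw [hc, ← cod_inv]; exact cod_mem _) (by
        rw [← lift_mul e (mc_mem hp hcc) hp, ← lift_mul e hp hcc, lift_inv e hcc, hcl, ← hkp,
          show w * t * w⁻¹ * (w * z' * w⁻¹) * (w * t * w⁻¹) = w * (t * z' * t) * w⁻¹ by group, tz']
        group))
    refine ⟨_, hi, ?_⟩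
    rw [← lift_pow e hcc, hcl, conj_pow, show w⁻¹ * (w * z' ^ i * w⁻¹) * w = z' ^ i by group]
    exact z'x.symm.pow_right i
  obtain ⟨hA, hB', hC, hD⟩ : Coset.relsA.all (relOK 970 relNear) = true ∧
      Coset.relsB.all (relOK 1202 relNear) = true ∧ Coset.relsC.all (relOK 1110 relFar) = true ∧
      Coset.relsD.all (relOK 1138 relFar) = true := by
    have h := rels_ok.1
    simp only [Bool.and_eq_true] at h
    exact ⟨h.1.1.1, h.1.1.2, h.1.2, h.2⟩
  have hlet := rels_ok.2
  have hrel : ∀ (zc : ℕ) (k : ℕ), zc ∈ [970, 1202, 1110, 1138] →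
      Commute (lift e 1190) ((y ^ k)⁻¹ * lift e zc * y ^ k) →
      lift e 1190 * ((y ^ k)⁻¹ * lift e zc * y ^ k) * lift e 2566 * ((y ^ k)⁻¹ * lift e (iv zc) * y ^ k) = 1 := by
    intro zc k hz hc
    have hzc : zc ∈ codes := (letter_check zc hz).1 10 (by simp)
    rw [hc.eq, show lift e 2566 = (lift e 1190)⁻¹ by rw [← lift_inv e h1190]; congr 1, lift_inv e hzc,
      mul_inv_cancel_right]
    group
  rcases hs with hs | hs
  · obtain ⟨c, hc, hcomm⟩ := key 1 (lift e 714) 5279 [970, 1202]
      (by rw [← hqs, hz', ← hs]; exact (show Commute z s from zs).map (MulAut.conj q).toMonoidHom)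
      (by rw [pow_one]; exact hyA) h5279 (by rw [pow_one]; exact hyT)
      (fun c h1 h2 h3 h4 => by
        obtain ⟨i, hi, h⟩ := five_near c h1 h2 h3 h4
        exact ⟨i, hi, by rcases h with h | h <;> simp [h]⟩)
    have hz : c ∈ [970, 1202, 1110, 1138] := by simp at hc ⊢; tauto
    have hr := hrel c 1 hz hcomm
    rw [pow_one] at hr
    have A : Amalg e y c relNear := ⟨y7, ync, hby, hyA, hyT, hyB, tT, by
      simp only [wordVal, relNear, List.map_cons, List.map_nil, List.prod_cons, List.prod_nil, letterVal, letterCode,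
        List.getD_cons_succ, List.getD_cons_zero, Nat.reduceEqDiff, if_false, if_true, mul_one]
      rw [← hr]; group⟩
    simp only [List.mem_cons, List.not_mem_nil, or_false] at hc
    rcases hc with rfl | rfl
    · exact (collapse e y A hz Coset.logA hA (fun r hr => hlet r (by simp [show Coset.logA.rels = Coset.relsA from rfl] at hr ⊢; tauto)) rfl
        Coset.okA Coset.goalA_ok.1 Coset.goalA_ok.2).elim
    · exact ⟨e, y, A⟩
  · exfalso
    obtain ⟨c, hc, hcomm⟩ := key 3 (lift e 3839) 1634 [1110, 1138]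
      (by
        have hts : t * sG e = s := hs.symm
        have : q * s * q⁻¹ = lift e 3839 := by
          rw [← hts, show q * (t * sG e) * q⁻¹ = (q * t * q⁻¹) * (q * sG e * q⁻¹) by group, hqs, hqt.eq,
            mul_inv_cancel_right, (t_mul_lift e tT h714).1, c7]
        rw [← this, hz']; exact (show Commute z s from zs).map (MulAut.conj q).toMonoidHom)
      (by
        rw [show y ^ 3 * lift e 3839 * (y ^ 3)⁻¹ = y * (y * (y * lift e 3839 * y⁻¹) * y⁻¹) * y⁻¹ by
            simp only [pow_succ, pow_zero, one_mul, mul_inv_rev, mul_assoc],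
          ← c7, ← lift_mul e h3319 h714, tT, show y * (t * lift e 714) * y⁻¹ = (y * t * y⁻¹) * (y * lift e 714 * y⁻¹)
            by group, hyT, hyA, (t_mul_lift e tT h5279).2, show mc 5279 3319 = 2154 by decide, hyC1, hyA])
      h1634 (by
        rw [show y ^ 3 * t * (y ^ 3)⁻¹ = y * (y * (y * t * y⁻¹) * y⁻¹) * y⁻¹ by
            simp only [pow_succ, pow_zero, one_mul, mul_inv_rev, mul_assoc], hA3])
      (fun c h1 h2 h3 h4 => by
        obtain ⟨i, hi, h⟩ := five_far c h1 h2 h3 h4
        exact ⟨i, hi, by rcases h with h | h <;> simp [h]⟩)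
    have hz : c ∈ [970, 1202, 1110, 1138] := by simp at hc ⊢; tauto
    have hr := hrel c 3 hz hcomm
    have A : Amalg e y c relFar := ⟨y7, ync, hby, hyA, hyT, hyB, tT, by
      simp only [wordVal, relFar, List.map_cons, List.map_nil, List.prod_cons, List.prod_nil, letterVal, letterCode,
        List.getD_cons_succ, List.getD_cons_zero, Nat.reduceEqDiff, if_false, if_true, mul_one]
      rw [← hr]; simp only [pow_succ, pow_zero, one_mul, mul_inv_rev, mul_assoc]⟩
    simp only [List.mem_cons, List.not_mem_nil, or_false] at hc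
    rcases hc with rfl | rfl
    · exact collapse e y A hz Coset.logC hC (fun r hr => hlet r (by simp [show Coset.logC.rels = Coset.relsC from rfl] at hr ⊢; tauto)) rfl
        Coset.okC Coset.goalC_ok.1 Coset.goalC_ok.2
    · exact collapse e y A hz Coset.logD hD (fun r hr => hlet r (by simp [show Coset.logD.rels = Coset.relsD from rfl] at hr ⊢; tauto)) rfl
        Coset.okD Coset.goalD_ok.1 Coset.goalD_ok.2

end Cfsg.Agent.Lead.JankoOne
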