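import Cfsg.Agent.Lib.Lead.JankoOne.Checks

/-!
# Four generalised characters of `C₂ × A₅` living on the roots of the central involution
-/

set_option autoImplicit false
set_option maxRecDepth 20000
set_option maxHeartbeats 1000000

namespace Cfsg.Agent.Lead.JankoOne

open Cfsg Module Cfsg.Agent.Char
open scoped ComplexConjugate

/-- a primitive fifth root of unity -/
noncomputable def zz : ℂ := Complex.exp (2 * Real.pi * Complex.I / (5 : ℕ))

theorem zz_prim : IsPrimitiveRoot zz 5 := Complex.isPrimitiveRoot_exp 5 (by norm_num)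

theorem zz_five : zz ^ 5 = 1 := zz_prim.pow_eq_one

theorem zz_sum : 1 + zz + zz ^ 2 + zz ^ 3 + zz ^ 4 = 0 := by
  have := zz_prim.geom_sum_eq_zero (by norm_num)
  simpa [Finset.sum_range_succ] using this

theorem conj_zz : conj zz = zz ^ 4 := by
  have h1 : ‖zz‖ = 1 := Complex.norm_eq_one_of_pow_eq_one zz_five (by norm_num)
  rw [← Complex.inv_eq_conj h1]
  refine inv_eq_of_mul_eq_one_right ?_
  rw [← pow_succ', zz_five]

/-- the golden ratio, or its conjugate -/
noncomputable def ff : ℂ := 1 + zz + zz ^ 4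

theorem ff_sq : ff * ff = ff + 1 := by
  rw [ff]; linear_combination (2 + zz ^ 3) * zz_five + zz_sum

theorem conj_ff : conj ff = ff := by
  simp only [ff, map_add, map_one, map_pow, conj_zz]
  linear_combination (zz ^ 11 + zz ^ 6 + zz) * zz_five

theorem ff_two : zz ^ 2 + zz ^ 3 = -ff := by
  rw [ff]; linear_combination zz_sum

theorem char_of_tab {Hl : List ℕ} {k : ℕ → ℕ} {n : ℕ} (hn : 0 < n) {ζ : ℂ} (hζ : ζ ^ n = 1)
    (h1 : (194 ∈ Hl ∧ k 194 % n = 0) ∧ Hl.Nodup ∧ (∀ x ∈ Hl, x ∈ codes ∧ iv x ∈ Hl) ∧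
      ∀ x ∈ Hl, ∀ y ∈ Hl, mc x y ∈ Hl ∧ k (mc x y) % n = (k x + k y) % n)
    (T : List (List ℕ)) (hT : ∀ x ∈ codes, expoTab Hl k n x = T.getD (cls x).val [])
    (v : Fin 10 → ℂ) (hv : ∀ j : Fin 10, (Hl.length : ℂ)⁻¹ *
      ∑ m ∈ Finset.range n, ((((T.getD j.val []).getD m 0 : ℕ)) : ℂ) * ζ ^ m = v j) :
    IsCharacter CG (fun g => v (cls (cod g))) := by
  have := ind_char Hl k n hn hζ h1
  refine (congrArg (IsCharacter CG) (funext fun g => ?_)).mp this
  rw [hT _ (cod_mem g), hv]

theorem char_lam : IsCharacter CG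
    (fun g => (![12, 0, 0, ff - 1, -ff, 12, 0, 0, ff - 1, -ff] : Fin 10 → ℂ) (cls (cod g))) := by
  refine char_of_tab (Hl := cCyc) (k := fun x => cCyc.idxOf x % 5) (n := 5) (by norm_num) zz_five
    lam_sub tabLam lam_tab _ fun j => ?_
  fin_cases j <;> simp [tabLam, cCyc, Finset.sum_range_succ, ff] <;> ring_nf <;> linear_combination zz_sum

theorem char_lamTwo : IsCharacter CG
    (fun g => (![12, 0, 0, -ff, ff - 1, 12, 0, 0, -ff, ff - 1] : Fin 10 → ℂ) (cls (cod g))) := by
  refine char_of_tab (Hl := cCyc) (k := fun x => 2 * (cCyc.idxOf x % 5)) (n := 5) (by norm_num) zz_five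
    lamTwo_sub tabLamTwo lamTwo_tab _ fun j => ?_
  fin_cases j <;> simp [tabLamTwo, cCyc, Finset.sum_range_succ, ff] <;> ring_nf <;> linear_combination zz_sum

theorem char_cyc : IsCharacter CG
    (fun g => (![12, 0, 0, 2, 2, 12, 0, 0, 2, 2] : Fin 10 → ℂ) (cls (cod g))) := by
  refine char_of_tab (Hl := cCyc) (k := fun _ => 0) (n := 1) (by norm_num) (one_pow 1)
    cyc_sub tabCyc cyc_tab _ fun j => ?_
  fin_cases j <;> simp [tabCyc, cCyc] <;> norm_num

theorem char_aFour : IsCharacter CG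
    (fun g => (![5, 1, 2, 0, 0, 5, 1, 2, 0, 0] : Fin 10 → ℂ) (cls (cod g))) := by
  refine char_of_tab (Hl := cAFour) (k := fun _ => 0) (n := 1) (by norm_num) (one_pow 1)
    aFour_sub tabAFour aFour_tab _ fun j => ?_
  fin_cases j <;> simp [tabAFour, cAFour] <;> norm_num

/-- the sign of the factor of order two -/
def epsHom : CG →* ℂˣ where
  toFun g := if g.1 = 1 then 1 else -1
  map_one' := rfl
  map_mul' g h := by
    have key : ∀ a b : Multiplicative (ZMod 2), (a * b = 1) ↔ (a = 1 ↔ b = 1) := by decide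
    by_cases h1 : g.1 = 1 <;> by_cases h2 : h.1 = 1 <;> simp [Prod.fst_mul, key, h1, h2]

theorem char_eps : IsCharacter CG
    (fun g => (![1, 1, 1, 1, 1, -1, -1, -1, -1, -1] : Fin 10 → ℂ) (cls (cod g))) := by
  have := isCharacter_comp (Subgroup.topEquiv (G := CG)).symm.toMonoidHom
    (isCharacter_hom (⊤ : Subgroup CG) (epsHom.comp (Subgroup.topEquiv (G := CG)).toMonoidHom))
  refine (congrArg (IsCharacter CG) (funext fun g => ?_)).mp this
  show (((if g.1 = 1 then 1 else -1 : ℂˣ)) : ℂ) = _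
  have hd : g.1 = 1 ↔ (cls (cod g)).val < 5 := by
    rw [cls_low _ (cod_mem g), (cod_digits g).1, ZMod.val_eq_zero, toAdd_eq_zero]
  simp only [hd]
  generalize cls (cod g) = j
  fin_cases j <;> simp

/-- the values -/
noncomputable def V : Fin 4 → Fin 10 → ℂ :=
  ![![0, 0, 0, 0, 0, 24, 0, 0, 4, 4], ![0, 0, 0, 0, 0, 16, 0, -2, 2 * ff, 2 * (1 - ff)],
    ![0, 0, 0, 0, 0, 16, 0, -2, 2 * (1 - ff), 2 * ff], ![0, 0, 0, 0, 0, 8, 0, 2, -2, -2]]

noncomputable def fi (i : Fin 4) (g : CG) : ℂ := V i (cls (cod g))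

theorem gen_fi (i : Fin 4) : IsGeneralizedCharacter CG (fi i) := by
  have h1 : IsCharacter CG (fun _ => (1 : ℂ)) := isCharacter_one
  fin_cases i
  · refine ⟨_, _, char_cyc, isCharacter_mul char_eps char_cyc, funext fun g => ?_⟩
    simp only [fi, Pi.sub_apply, Pi.mul_apply]; generalize cls (cod g) = j
    fin_cases j <;> simp [V] <;> ring
  · refine ⟨_, _, isCharacter_add (isCharacter_add char_lam h1) (isCharacter_mul char_eps char_aFour),
      isCharacter_add (isCharacter_add char_aFour (isCharacter_mul char_eps char_lam)) char_eps,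
      funext fun g => ?_⟩
    simp only [fi, Pi.sub_apply, Pi.add_apply, Pi.mul_apply]; generalize cls (cod g) = j
    fin_cases j <;> simp [V] <;> ring
  · refine ⟨_, _, isCharacter_add (isCharacter_add char_lamTwo h1) (isCharacter_mul char_eps char_aFour),
      isCharacter_add (isCharacter_add char_aFour (isCharacter_mul char_eps char_lamTwo)) char_eps,
      funext fun g => ?_⟩
    simp only [fi, Pi.sub_apply, Pi.add_apply, Pi.mul_apply]; generalize cls (cod g) = j
    fin_cases j <;> simp [V] <;> ring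
  · refine ⟨_, _, isCharacter_add char_aFour char_eps, isCharacter_add h1 (isCharacter_mul char_eps char_aFour),
      funext fun g => ?_⟩
    simp only [fi, Pi.sub_apply, Pi.add_apply, Pi.mul_apply]; generalize cls (cod g) = j
    fin_cases j <;> simp [V] <;> ring

theorem cls_conj {x g : CG} : cls (cod (x * g * x⁻¹)) = cls (cod g) := by
  apply Fin.ext
  rw [cls_eq _ (cod_mem _), cls_eq _ (cod_mem _), cod_mul, cod_mul, cod_inv]
  exact Nat.eq_of_beq_eq_true (List.all_eq_true.1 (List.all_eq_true.1 conj_check _ (cod_mem x)) _ (cod_mem g))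

theorem classFun_fi (i : Fin 4) : IsClassFunction CG (fi i) := fun g h => by
  simp only [fi]
  rw [cls_conj]

theorem fi_eq_zero (i : Fin 4) {g : CG} (h : isRoot (cod g) = false) : fi i g = 0 := by
  revert h
  simp only [fi, isRoot]
  generalize cls (cod g) = j
  fin_cases j <;> fin_cases i <;> simp [V]

theorem sum_grouped [Fintype CG] (F : Fin 10 → ℂ) :
    ∑ g : CG, F (cls (cod g)) =
      F 0 + 15 * F 1 + 20 * F 2 + 12 * F 3 + 12 * F 4 +
        (F 5 + 15 * F 6 + 20 * F 7 + 12 * F 8 + 12 * F 9) := by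
  have key : ∀ l : List (Fin 10), (l.map F).sum = ∑ j, ((l.count j : ℕ) : ℂ) * F j := by
    intro l
    induction l with
    | nil => simp
    | cons a l ih => simp [ih, List.count_cons, add_mul, Finset.sum_add_distrib, add_comm]
  have hc := cls_count
  rw [sum_cod (fun x => F (cls x)), show (fun x => F (cls x)) = F ∘ cls from rfl, ← List.map_map, key]
  simp only [Fin.sum_univ_succ, Fin.sum_univ_zero, hc]
  simp
  ring

/-- the Gram matrix -/
def gram : Fin 4 → Fin 4 → ℤ :=
  ![![8, 4, 4, 0], ![4, 4, 2, 0], ![4, 2, 4, 0], ![0, 0, 0, 2]]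

theorem inner_fi [Fintype CG] (i j : Fin 4) : classInner (fi i) (fi j) = (gram i j : ℂ) := by
  rw [classInner, card_cg]
  simp only [fi]
  rw [sum_grouped (fun k => V i k * conj (V j k))]
  have h2 : ff ^ 2 = ff + 1 := by rw [pow_two, ff_sq]
  fin_cases i <;> fin_cases j <;> simp [V, gram, conj_ff, Complex.conj_ofNat] <;> ring_nf <;>
    norm_num [h2] <;> ring_nf

theorem inner_fi_one [Fintype CG] (i : Fin 4) :
    classInner (fi i) (fun _ => 1) = ((![1, 0, 0, 0] : Fin 4 → ℤ) i : ℂ) := by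
  rw [classInner, card_cg]
  simp only [fi, map_one, mul_one]
  rw [sum_grouped (fun k => V i k)]
  fin_cases i <;> simp [V] <;> ring

theorem indicator_z (g : CG) :
    fi 0 g + 2 * fi 1 g + 2 * fi 2 g + 4 * fi 3 g = if cod g = 3319 then 120 else 0 := by
  have hz := cls_z
  simp only [fi, hz _ (cod_mem g)]
  generalize cls (cod g) = j
  fin_cases j <;> simp [V] <;> ring

theorem weighted_sum [Fintype CG] (i : Fin 4) :
    ∑ g : CG, fi i g * (invPairs (cod g) : ℂ) = ((![1680, 480, 480, 0] : Fin 4 → ℤ) i : ℂ) := by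
  have e : ∀ g : CG, fi i g * (invPairs (cod g) : ℂ) =
      V i (cls (cod g)) * (([0, 0, 0, 0, 0, 30, 0, 6, 10, 10] : List ℕ).getD (cls (cod g)).val 0 : ℂ) := by
    intro g
    by_cases h : isRoot (cod g) = true
    · rw [invPairs_eq _ (cod_mem g) h]; rfl
    · have h0 := fi_eq_zero i (Bool.eq_false_iff.2 h)
      rw [h0, zero_mul]
      simp only [fi] at h0
      rw [h0, zero_mul]
  rw [Finset.sum_congr rfl fun g _ => e g,
    sum_grouped (fun k => V i k * (([0, 0, 0, 0, 0, 30, 0, 6, 10, 10] : List ℕ).getD k.val 0 : ℂ))]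
  fin_cases i <;> simp [V] <;> ring

end Cfsg.Agent.Lead.JankoOne
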