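import Cfsg.Agent.Lib.Lead.GLTwoThree.Order
import Cfsg.Agent.Lib.Lead.JankoOne.Vals
import Cfsg.Agent.Lib.Lead.JankoOne.Decomp
import Cfsg.Agent.Lib.Char.Exceptional
import Cfsg.Agent.Lib.Char.DihedralOrder
import Cfsg.Agent.Lib.Char.GaloisConj
import Cfsg.Agent.Lib.Char.Central

/-!
# The order of a group with one class of involutions and involution centraliser `C₂ × A₅`
-/

set_option autoImplicit false
set_option maxRecDepth 20000
set_option maxHeartbeats 1000000
set_option linter.style.haveILetI false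

namespace Cfsg.Agent.Lead.JankoOne

open Cfsg Module Cfsg.Agent.Char
open Cfsg.Agent.Lead.GLTwoThree (classInner_equiv orderOf_two_iff mem_cent_iff t_mem pairCount pairCount_class
  sum_map_boole)
open scoped ComplexConjugate

/-- the exchange of the classes of elements of order five -/
def sw : Fin 10 → Fin 10 := ![0, 1, 2, 4, 3, 5, 6, 7, 9, 8]

theorem all_seven : ∀ x ∈ codes, pw x 30 = 194 ∧ cls (pw x 7) = sw (cls x) := by decide +kernel

theorem invol_cod {g : CG} : (g * g = 1 ∧ g ≠ 1) ↔ (mc (cod g) (cod g) = 194 ∧ cod g ≠ 194) := by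
  rw [← cod_mul, ← cod_one]
  exact and_congr cod_injective.eq_iff.symm cod_injective.ne_iff.symm

universe u

variable {G : Type u} [Group G] {t : G}

variable (ht : orderOf t = 2) (e : ↥(Subgroup.centralizer ({t} : Set G)) ≃* CG)

include ht in
theorem cod_t : cod (e ⟨t, t_mem⟩) = 3319 := by
  obtain ⟨h2, h1⟩ := orderOf_two_iff.1 ht
  obtain ⟨a, b⟩ := invol_cod.1 (show e ⟨t, t_mem⟩ * e ⟨t, t_mem⟩ = 1 ∧ e ⟨t, t_mem⟩ ≠ 1 from
    ⟨by rw [← map_mul, ← map_one e]; exact congrArg e (Subtype.ext h2),
      fun h => h1 (congrArg Subtype.val (e.injective (h.trans (map_one e).symm)))⟩)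
  refine centre_check _ (cod_mem _) (fun y hy => ?_) a b
  obtain ⟨n, hn⟩ := e.surjective (ofCode y hy)
  rw [← cod_ofCode y hy, ← cod_mul, ← cod_mul, ← hn, ← map_mul, ← map_mul]
  exact congrArg (fun m => cod (e m)) (Subtype.ext (mem_cent_iff.1 n.2).symm)

include ht in
theorem root_power {n : ↥(Subgroup.centralizer ({t} : Set G))} (hr : isRoot (cod (e n)) = true) :
    (∃ k, (n : G) ^ k = t) ∧ ∀ k, orderOf ((n : G) ^ k) = 2 → (n : G) ^ k = t := by
  obtain ⟨h30, hk', hall⟩ := root_check _ (cod_mem (e n)) hr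
  have key : ∀ j, pw (cod (e n)) j = 3319 → (n : G) ^ j = t := fun j hj => by
    rw [← cod_pow, ← cod_t ht e, ← map_pow] at hj
    exact congrArg Subtype.val (e.injective (cod_injective hj))
  refine ⟨⟨15, key 15 hk'⟩, fun j hj => ?_⟩
  have h1 : n ^ 30 = 1 := by
    apply e.injective; apply cod_injective
    rw [map_pow, cod_pow, h30, map_one, cod_one]
  have hj' : (n : G) ^ j = (n : G) ^ (j % 30) := by
    rw [← Subgroup.coe_pow, ← Subgroup.coe_pow, pow_eq_pow_mod j h1]
  rw [hj'] at hj ⊢
  refine key _ ?_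
  obtain ⟨h2, hne⟩ := orderOf_two_iff.1 hj
  obtain ⟨a, b⟩ := invol_cod.1 (show e (n ^ (j % 30)) * e (n ^ (j % 30)) = 1 ∧ e (n ^ (j % 30)) ≠ 1 from
    ⟨by rw [← map_mul, ← map_one e]; exact congrArg e (Subtype.ext (by simpa using h2)),
      fun h => hne (by simpa using congrArg Subtype.val (e.injective (h.trans (map_one e).symm)))⟩)
  rw [map_pow, cod_pow] at a b
  exact hall _ (List.mem_range.2 (Nat.mod_lt _ (by norm_num))) a b

/-- The local virtual characters. -/
noncomputable def psi (i : Fin 4) (n : ↥(Subgroup.centralizer ({t} : Set G))) : ℂ := fi i (e n)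

theorem psi_class (i : Fin 4) : IsClassFunction _ (psi e i) := fun g h => by
  simp only [psi, map_mul, map_inv]; exact classFun_fi i _ _

section Induced

variable [Fintype G]

/-- The induced virtual characters. -/
noncomputable def theta (i : Fin 4) : G → ℂ := indFun (Subgroup.centralizer ({t} : Set G)) (psi e i)

theorem gen_theta (i : Fin 4) : IsGeneralizedCharacter G (theta e i) := by
  obtain ⟨a, b, ha, hb, hab⟩ := gen_fi i
  refine ⟨_, _, isCharacter_indFun _ (isCharacter_comp e.toMonoidHom ha),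
    isCharacter_indFun _ (isCharacter_comp e.toMonoidHom hb), ?_⟩
  rw [← indFun_sub]
  unfold theta
  congr 1
  funext n
  exact congrFun hab (e n)

include ht in
theorem theta_root (i : Fin 4) {n : ↥(Subgroup.centralizer ({t} : Set G))} (hr : isRoot (cod (e n)) = true) :
    theta e i n = psi e i n := by
  classical
  have hterm : ∀ x : G, extendByZero (Subgroup.centralizer ({t} : Set G)) (psi e i) (x⁻¹ * (n : G) * x) = if x ∈ (Subgroup.centralizer ({t} : Set G)) then psi e i n else 0 := by
    intro x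
    split_ifs with hx
    · have hm : x⁻¹ * (n : G) * x ∈ (Subgroup.centralizer ({t} : Set G)) := (Subgroup.centralizer ({t} : Set G)).mul_mem ((Subgroup.centralizer ({t} : Set G)).mul_mem ((Subgroup.centralizer ({t} : Set G)).inv_mem hx) n.2) hx
      rw [extendByZero_mem (Subgroup.centralizer ({t} : Set G)) _ hm]
      have := psi_class e i n ⟨x⁻¹, (Subgroup.centralizer ({t} : Set G)).inv_mem hx⟩
      rw [← this]
      congr 1
      ext
      simp
    · by_cases hm : x⁻¹ * (n : G) * x ∈ (Subgroup.centralizer ({t} : Set G))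
      · rw [extendByZero_mem (Subgroup.centralizer ({t} : Set G)) _ hm]
        refine fi_eq_zero i ?_
        by_contra hne
        rw [Bool.not_eq_false] at hne
        obtain ⟨⟨k, hk⟩, -⟩ := root_power ht e hr
        obtain ⟨-, huniq⟩ := root_power ht e hne
        have hc : (x⁻¹ * (n : G) * x) ^ k = x⁻¹ * t * x := by
          have := conj_pow (a := x⁻¹) (b := (n : G)) (i := k)
          rw [inv_inv] at this
          rw [this, hk]
        have := huniq k (by
          show orderOf ((x⁻¹ * (n : G) * x) ^ k) = 2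
          rw [hc, ← ht]
          rw [show x⁻¹ * t * x = MulAut.conj x⁻¹ t by rw [MulAut.conj_apply, inv_inv]]
          exact MulEquiv.orderOf_eq _ t)
        apply hx
        rw [mem_cent_iff]
        have e' : x⁻¹ * t * x = t := by rw [← hc]; exact this
        calc x * t = x * (x⁻¹ * t * x) := by rw [e']
          _ = t * x := by group
      · exact extendByZero_not_mem (Subgroup.centralizer ({t} : Set G)) _ hm
  simp only [theta, indFun, hterm, Finset.sum_ite, Finset.sum_const_zero, add_zero, Finset.sum_const, nsmul_eq_mul]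
  rw [← Fintype.card_subtype, ← Nat.card_eq_fintype_card, ← mul_assoc, inv_mul_cancel₀, one_mul]
  exact Nat.cast_ne_zero.mpr Nat.card_pos.ne'

theorem theta_one (i : Fin 4) : theta e i 1 = 0 := by
  rw [theta, indFun_one, psi, map_one, fi, cod_one, show cls 194 = 0 from rfl]
  fin_cases i <;> simp [V]

include ht in
theorem inner_theta (i j : Fin 4) : classInner (theta e i) (theta e j) = (gram i j : ℂ) := by
  classical
  haveI := Fintype.ofFinite ↥(Subgroup.centralizer ({t} : Set G))
  haveI := Fintype.ofFinite CG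
  rw [← inner_fi, ← classInner_equiv e]
  simp only [theta]
  rw [Cfsg.Agent.Char.frobenius _ _ (isClassFunction_indFun _ _), classInner, classInner]
  congr 1
  refine Finset.sum_congr rfl fun n _ => ?_
  show psi e i n * _ = fi i (e n) * conj (fi j (e n))
  by_cases hr : isRoot (cod (e n)) = true
  · rw [show indFun _ (psi e j) (n : G) = psi e j n from theta_root ht e j hr]; rfl
  · rw [Bool.not_eq_true] at hr
    simp [psi, fi_eq_zero i hr]

theorem inner_theta_one (i : Fin 4) :
    classInner (theta e i) (fun _ => 1) = ((![1, 0, 0, 0] : Fin 4 → ℤ) i : ℂ) := by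
  classical
  haveI := Fintype.ofFinite ↥(Subgroup.centralizer ({t} : Set G))
  haveI := Fintype.ofFinite CG
  rw [← inner_fi_one, ← classInner_equiv e, theta,
    Cfsg.Agent.Char.frobenius _ _ (show IsClassFunction G (fun _ => (1 : ℂ)) from fun _ _ => rfl)]
  rfl

include ht in
/-- The values at the involution are read off the coordinates. -/
theorem value_t {χ : G → ℂ} (hχ : IsClassFunction G χ) :
    classInner (theta e 0) χ + 2 * classInner (theta e 1) χ + 2 * classInner (theta e 2) χ +
      4 * classInner (theta e 3) χ = conj (χ t) := by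
  classical
  haveI := Fintype.ofFinite ↥(Subgroup.centralizer ({t} : Set G))
  simp only [theta, Cfsg.Agent.Char.frobenius _ _ hχ]
  simp only [classInner, psi]
  have hc : (Nat.card ↥(Subgroup.centralizer ({t} : Set G)) : ℂ) = 120 := by
    rw [Nat.card_congr e.toEquiv, card_cg]; norm_num
  rw [hc]
  have : ∀ n : ↥(Subgroup.centralizer ({t} : Set G)),
      fi 0 (e n) * conj (χ n) + 2 * (fi 1 (e n) * conj (χ n)) + 2 * (fi 2 (e n) * conj (χ n)) +
        4 * (fi 3 (e n) * conj (χ n)) =
      if n = ⟨t, t_mem⟩ then 120 * conj (χ n) else 0 := by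
    intro n
    have h := indicator_z (e n)
    have hiff : cod (e n) = 3319 ↔ n = ⟨t, t_mem⟩ := by
      rw [← cod_t ht e, cod_injective.eq_iff, e.injective.eq_iff]
    simp only [hiff] at h
    split_ifs with hn
    · rw [if_pos hn] at h; linear_combination conj (χ (n : G)) * h
    · rw [if_neg hn] at h; linear_combination conj (χ (n : G)) * h
  calc _ = (120 : ℂ)⁻¹ * ∑ n : ↥(Subgroup.centralizer ({t} : Set G)),
        (fi 0 (e n) * conj (χ n) + 2 * (fi 1 (e n) * conj (χ n)) + 2 * (fi 2 (e n) * conj (χ n)) +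
          4 * (fi 3 (e n) * conj (χ n))) := by
        simp only [Finset.sum_sub_distrib, Finset.sum_add_distrib, ← Finset.mul_sum]; ring
    _ = _ := by
        rw [Finset.sum_congr rfl fun n _ => this n]
        simp

end Induced


section Count

variable [Fintype G]

omit [Fintype G] in
include ht in
theorem pairCount_root {n : ↥(Subgroup.centralizer ({t} : Set G))} (hr : isRoot (cod (e n)) = true) :
    pairCount (n : G) = invPairs (cod (e n)) := by
  classical
  haveI := Fintype.ofFinite CG
  obtain ⟨⟨k, hk⟩, -⟩ := root_power ht e hr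
  have hu : ∀ u : G, orderOf u = 2 ∧ orderOf (u * (n : G)) = 2 → u ∈ Subgroup.centralizer ({t} : Set G) := by
    rintro u ⟨h1, h2⟩
    obtain ⟨a, -⟩ := orderOf_two_iff.1 h1
    obtain ⟨b, -⟩ := orderOf_two_iff.1 h2
    obtain ⟨c, -⟩ := orderOf_two_iff.1 ht
    have hi : u⁻¹ = u := inv_eq_of_mul_eq_one_left a
    have hinv : u * (n : G) * u⁻¹ = (n : G)⁻¹ := by
      rw [hi]; exact eq_inv_of_mul_eq_one_left (by rw [mul_assoc]; exact b)
    have := congrArg (fun z => z ^ k) hinv
    simp only [conj_pow, inv_pow, hk, inv_eq_of_mul_eq_one_left c] at this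
    rw [mem_cent_iff]
    calc u * t = (u * t * u⁻¹) * u := by group
      _ = t * u := by rw [this]
  let P : CG → Prop := fun g => (g * g = 1 ∧ g ≠ 1) ∧ (g * e n * (g * e n) = 1 ∧ g * e n ≠ 1)
  have hP : ∀ u : ↥(Subgroup.centralizer ({t} : Set G)),
      (orderOf (u : G) = 2 ∧ orderOf ((u : G) * n) = 2) ↔ P (e u) := by
    intro u
    rw [← Subgroup.coe_mul, Subgroup.orderOf_coe, Subgroup.orderOf_coe, ← MulEquiv.orderOf_eq e,
      ← MulEquiv.orderOf_eq e (u * n), map_mul, orderOf_two_iff, orderOf_two_iff]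
  have e1 : pairCount (n : G) = Nat.card {g : CG // P g} :=
    Nat.card_congr
      { toFun := fun u => ⟨e ⟨u.1, hu _ u.2⟩, (hP ⟨u.1, hu _ u.2⟩).1 u.2⟩
        invFun := fun g => ⟨(e.symm g.1 : G), (hP _).2 (by rw [e.apply_symm_apply]; exact g.2)⟩
        left_inv := fun u => by simp
        right_inv := fun g => by simp }
  rw [e1, Nat.card_eq_fintype_card, Fintype.card_subtype, Finset.card_filter]
  let Q : ℕ → Prop := fun x => (mc x x = 194 ∧ x ≠ 194) ∧
    (mc (mc x (cod (e n))) (mc x (cod (e n))) = 194 ∧ mc x (cod (e n)) ≠ 194)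
  have hQ : ∀ g : CG, P g ↔ Q (cod g) := fun g => by
    simp only [P, Q, invol_cod, cod_mul]
  rw [Finset.sum_congr rfl fun g _ => if_congr (hQ g) rfl rfl, sum_cod (fun x => if Q x then 1 else 0), invPairs,
    ← List.countP_eq_length_filter]
  rw [← sum_map_boole]
  refine congrArg List.sum (List.map_congr_left fun x _ => if_congr ?_ rfl rfl)
  simp only [Q, Bool.and_eq_true, bne_iff_ne, beq_iff_eq, ne_eq, decide_eq_true_eq]
  tauto

include ht in
theorem pair_equation (hconj : ∀ u : G, orderOf u = 2 → IsConj t u) (i : Fin 4) :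
    ∑ a : G, ∑ b : G, theta e i (a * t * a⁻¹ * (b * t * b⁻¹)) =
      (Nat.card G : ℂ) * 120 * ((![1680, 480, 480, 0] : Fin 4 → ℤ) i : ℂ) := by
  classical
  haveI := Fintype.ofFinite ↥(Subgroup.centralizer ({t} : Set G))
  haveI := Fintype.ofFinite CG
  have hN : (Nat.card (Subgroup.centralizer ({t} : Set G)) : ℂ) = 120 := by rw [Nat.card_congr e.toEquiv, card_cg]; norm_num
  have hswap : ∀ f : G → ℂ, ∑ a : G, f (a * t * a⁻¹) = 120 * ∑ y : G with orderOf y = 2, f y := by
    intro f
    rw [← hN, show Finset.univ.filter (fun y : G => orderOf y = 2) = Finset.univ.filter (fun y : G => IsConj t y) from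
      Finset.filter_congr fun y _ => ⟨hconj y, fun h => by
        obtain ⟨c, hc⟩ := isConj_iff.1 h
        rw [← hc, show c * t * c⁻¹ = MulAut.conj c t from rfl, MulEquiv.orderOf_eq, ht]⟩, ← sum_conj_eq t f]
    exact Fintype.sum_equiv (Equiv.inv G) _ _ fun a => by simp
  rw [hswap (fun u => ∑ b : G, theta e i (u * (b * t * b⁻¹)))]
  rw [Finset.sum_congr rfl fun u _ => hswap (fun v => theta e i (u * v)), ← Finset.mul_sum]
  have hre : ∀ u : G, orderOf u = 2 → (∑ v : G with orderOf v = 2, theta e i (u * v)) =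
      ∑ g : G, if orderOf (u * g) = 2 then theta e i g else 0 := by
    intro u hu
    obtain ⟨a, -⟩ := orderOf_two_iff.1 hu
    rw [Finset.sum_filter]
    exact Fintype.sum_equiv (Equiv.mulLeft u) _ _ fun v => by
      simp [← mul_assoc, a]
  rw [Finset.sum_congr rfl fun u hu => hre u (Finset.mem_filter.1 hu).2, Finset.sum_comm]
  have hcnt : ∀ g : G, (∑ u : G with orderOf u = 2, if orderOf (u * g) = 2 then theta e i g else 0) =
      theta e i g * conj ((pairCount g : ℕ) : ℂ) := by
    intro g
    rw [map_natCast, ← Finset.sum_filter, Finset.sum_const, nsmul_eq_mul, mul_comm, pairCount,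
      Nat.card_eq_fintype_card, Fintype.card_subtype, Finset.filter_filter]
  rw [Finset.sum_congr rfl fun g _ => hcnt g]
  have hG0 : (Nat.card G : ℂ) ≠ 0 := Nat.cast_ne_zero.2 Nat.card_pos.ne'
  have hfr := Cfsg.Agent.Char.frobenius (Subgroup.centralizer ({t} : Set G)) (psi e i) (χ := fun g => ((pairCount g : ℕ) : ℂ))
    (fun g h => by simp only [pairCount_class])
  have hloc : ∑ n : (Subgroup.centralizer ({t} : Set G)), psi e i n * conj ((pairCount (n : G) : ℕ) : ℂ) =
      ((![1680, 480, 480, 0] : Fin 4 → ℤ) i : ℂ) := by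
    rw [← weighted_sum]
    refine Fintype.sum_equiv e.toEquiv _ _ fun n => ?_
    show fi i (e n) * _ = fi i (e n) * _
    by_cases hr : isRoot (cod (e n)) = true
    · rw [map_natCast, pairCount_root ht e hr]; rfl
    · rw [Bool.not_eq_true] at hr; rw [fi_eq_zero i hr, zero_mul, zero_mul]
  simp only [classInner, hloc, hN] at hfr
  change (Nat.card G : ℂ)⁻¹ * ∑ g : G, theta e i g * conj ((pairCount g : ℕ) : ℂ) = _ at hfr
  rw [inv_mul_eq_iff_eq_mul₀ hG0] at hfr
  rw [hfr]
  ring

end Count

/-- An exponent prime to the group order that is `7` modulo `30`. -/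
theorem exists_exponent (g : ℕ) (hg : g ≠ 0) : ∃ k : ℕ, k.Coprime g ∧ k % 30 = 7 := by
  refine ⟨7 + 30 * ∏ q ∈ g.primeFactors.erase 7, q, Nat.coprime_of_dvd fun r hr h1 h2 => ?_, by omega⟩
  by_cases h7 : r = 7
  · subst h7
    have h30 : 7 ∣ 30 * ∏ q ∈ g.primeFactors.erase 7, q := (Nat.dvd_add_right (dvd_refl 7)).1 h1
    rcases hr.dvd_mul.1 h30 with h | h
    · norm_num at h
    · obtain ⟨q, hq, hd⟩ := (hr.prime.dvd_finsetProd_iff _).1 h
      obtain ⟨hne, hmem⟩ := Finset.mem_erase.1 hq
      exact hne ((Nat.prime_dvd_prime_iff_eq hr (Nat.prime_of_mem_primeFactors hmem)).1 hd).symm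
  · have : r ∣ 30 * ∏ q ∈ g.primeFactors.erase 7, q := Dvd.dvd.mul_left
      (Finset.dvd_prod_of_mem _ (Finset.mem_erase.2 ⟨h7, Nat.mem_primeFactors.2 ⟨hr, h2, hg⟩⟩)) _
    exact h7 ((Nat.prime_dvd_prime_iff_eq hr (by norm_num)).1 ((Nat.dvd_add_left this).1 h1))

theorem fi_seven (i : Fin 4) {k : ℕ} (hk : k % 30 = 7) (g : CG) :
    fi ((![0, 2, 1, 3] : Fin 4 → Fin 4) i) g = fi i (g ^ k) := by
  obtain ⟨h30, h7⟩ := all_seven _ (cod_mem g)
  have hg : g ^ 30 = 1 := cod_injective (by rw [cod_pow, h30, cod_one])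
  simp only [fi]
  rw [pow_eq_pow_mod k hg, hk, cod_pow, h7]
  generalize cls (cod g) = j
  fin_cases j <;> fin_cases i <;> simp [V, sw]

include ht e in
/-- The order is one of two numbers. -/
theorem order_two_values [Finite G] (hconj : ∀ u : G, orderOf u = 2 → IsConj t u)
    {P : Subgroup G} (hP : Nat.card P = 8) (hPe : ∀ x ∈ P, x * x = 1)
    (h168 : 168 ∣ Nat.card G) (hodd : Nat.card G / 8 % 2 = 1) :
    Nat.card G = 175560 ∨ Nat.card G = 189000 := by
  classical
  haveI := Fintype.ofFinite G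
  choose z hz hzc using fun i => exists_int_coords (gen_theta e i)
  let d : IrrCharacter G → ℕ := fun χ => deg (χ : G → ℂ)
  have hd : ∀ χ : IrrCharacter G, (χ : G → ℂ) 1 = (d χ : ℂ) := fun χ => char_one_eq_deg (irr_isCharacter χ.2)
  let o : IrrCharacter G := ⟨fun _ => 1, isIrrCharacter_one⟩
  obtain ⟨k, hk, hk30⟩ := exists_exponent (Nat.card G) Nat.card_pos.ne'
  let f : IrrCharacter G → IrrCharacter G := fun χ => ⟨fun g => (χ : G → ℂ) (g ^ k), isIrrCharacter_pow χ.2 hk⟩
  have hf : Function.Injective f := fun χ ψ h => Subtype.ext (funext fun g => by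
    obtain ⟨y, rfl⟩ := (powCoprime hk.symm).surjective g
    exact congrFun (congrArg Subtype.val h) y)
  let π : Equiv.Perm (IrrCharacter G) := Equiv.ofBijective f ⟨hf, Finite.surjective_of_injective hf⟩
  have hgram : ∀ i j, ∑ χ, z i χ * z j χ = gram i j := by
    intro i j
    have h := inner_theta ht e i j
    rw [hz i, classInner_sum_left] at h
    have : ∀ χ : IrrCharacter G, classInner ((z i χ : ℂ) • (χ : G → ℂ)) (theta e j) = ((z i χ * z j χ : ℤ) : ℂ) := by
      intro χ
      rw [classInner_smul_left, ← classInner_symm, hzc, map_intCast]; push_cast; rfl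
    rw [Finset.sum_congr rfl fun χ _ => this χ] at h
    exact_mod_cast h
  have hval : ∀ χ : IrrCharacter G, (χ : G → ℂ) t =
      ((z 0 χ + 2 * z 1 χ + 2 * z 2 χ + 4 * z 3 χ : ℤ) : ℂ) := by
    intro χ
    have h := congrArg conj (value_t ht e (isClassFunction_character (irr_isCharacter χ.2)))
    simp only [hzc, Complex.conj_conj, map_add, map_mul, map_intCast, map_ofNat] at h
    rw [← h]; push_cast; ring
  have hone : ∀ i, z i o = (![1, 0, 0, 0] : Fin 4 → ℤ) i := fun i => by
    have := inner_theta_one e i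
    rw [show (fun _ => (1 : ℂ)) = ((o : IrrCharacter G) : G → ℂ) from rfl, hzc] at this
    exact_mod_cast this
  have hpi : ∀ i χ, z ((![0, 2, 1, 3] : Fin 4 → Fin 4) i) (π χ) = z i χ := by
    intro i χ
    haveI := Fintype.ofFinite ↥(Subgroup.centralizer ({t} : Set G))
    have a1 := hzc ((![0, 2, 1, 3] : Fin 4 → Fin 4) i) (π χ)
    have a2 := hzc i χ
    rw [theta, Cfsg.Agent.Char.frobenius _ _ (isClassFunction_character (irr_isCharacter (π χ).2))] at a1
    rw [theta, Cfsg.Agent.Char.frobenius _ _ (isClassFunction_character (irr_isCharacter χ.2))] at a2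
    have e' : classInner (psi e ((![0, 2, 1, 3] : Fin 4 → Fin 4) i))
        (fun n : ↥(Subgroup.centralizer ({t} : Set G)) => ((π χ : IrrCharacter G) : G → ℂ) n) =
        classInner (psi e i) (fun n : ↥(Subgroup.centralizer ({t} : Set G)) => (χ : G → ℂ) n) := by
      simp only [classInner]
      congr 1
      refine Fintype.sum_equiv (powCoprime (Nat.Coprime.coprime_dvd_left (Subgroup.card_subgroup_dvd_card _) hk.symm))
        _ _ fun n => ?_
      show psi e _ n * conj ((χ : G → ℂ) ((n : G) ^ k)) = psi e i (n ^ k) * conj ((χ : G → ℂ) ((n ^ k : _) : G))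
      rw [Subgroup.coe_pow, psi, psi, map_pow, fi_seven i hk30]
    rw [e', a2] at a1
    exact_mod_cast a1.symm
  have hdeg : ∀ i, ∑ χ, z i χ * (d χ : ℤ) = 0 := by
    intro i
    have h := theta_one e i
    rw [hz i, Finset.sum_apply] at h
    simp only [Pi.smul_apply, smul_eq_mul, hd] at h
    exact_mod_cast h
  have hcong : ∀ χ : IrrCharacter G, (8 : ℤ) ∣ (d χ : ℤ) + 7 * (z 0 χ + 2 * z 1 χ + 2 * z 2 χ + 4 * z 3 χ) := by
    intro χ
    haveI := Fintype.ofFinite P
    obtain ⟨n, hn⟩ := classInner_natCast (G := P) (isCharacter_comp P.subtype (irr_isCharacter χ.2)) isCharacter_one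
    refine ⟨(n : ℤ), ?_⟩
    simp only [classInner, map_one, mul_one, hP] at hn
    have hv : ∀ x : P, x ∈ Finset.univ.erase (1 : P) → (χ : G → ℂ) (x : G) = (χ : G → ℂ) t := by
      intro x hx
      have hx1 : (x : G) ≠ 1 := fun h => Finset.ne_of_mem_erase hx (Subtype.ext h)
      obtain ⟨c, hc⟩ := isConj_iff.1 (hconj _ (orderOf_two_iff.2 ⟨hPe _ x.2, hx1⟩))
      rw [← hc, isClassFunction_character (irr_isCharacter χ.2) t c]
    change ((8 : ℕ) : ℂ)⁻¹ * ∑ x : P, (χ : G → ℂ) (x : G) = _ at hn
    rw [← Finset.add_sum_erase _ _ (Finset.mem_univ (1 : P)), Finset.sum_congr rfl hv, Finset.sum_const,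
      Finset.card_erase_of_mem (Finset.mem_univ _), Finset.card_univ, ← Nat.card_eq_fintype_card, hP,
      Subgroup.coe_one, hd, hval, nsmul_eq_mul] at hn
    rw [inv_mul_eq_iff_eq_mul₀ (by norm_num)] at hn
    exact_mod_cast hn
  have hsq : ∑ χ, d χ ^ 2 = Nat.card G := by
    have h := sum_sq_deg (G := G)
    simp only [hd] at h
    exact_mod_cast h
  have heq : ∀ i, ∑ χ, (z i χ : ℚ) *
      (((z 0 χ + 2 * z 1 χ + 2 * z 2 χ + 4 * z 3 χ : ℤ) : ℚ) ^ 2 / (d χ : ℚ)) =
      (![201600, 57600, 57600, 0] : Fin 4 → ℚ) i / (Nat.card G : ℚ) := by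
    intro i
    have h := pair_equation ht e hconj i
    have hsum : ∑ a : G, ∑ b : G, theta e i (a * t * a⁻¹ * (b * t * b⁻¹)) =
        (Nat.card G : ℂ) ^ 2 * ∑ χ : IrrCharacter G, (z i χ : ℂ) *
          (((z 0 χ + 2 * z 1 χ + 2 * z 2 χ + 4 * z 3 χ : ℤ) : ℂ) ^ 2 / (d χ : ℂ)) := by
      rw [hz i]
      simp only [Finset.sum_apply, Pi.smul_apply, smul_eq_mul]
      rw [Finset.sum_congr rfl fun a _ => Finset.sum_comm, Finset.sum_comm, Finset.mul_sum]
      refine Finset.sum_congr rfl fun χ _ => ?_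
      simp only [← Finset.mul_sum, sum_pair_irr, hval, hd]
      ring
    rw [hsum] at h
    have hG0 : (Nat.card G : ℂ) ≠ 0 := Nat.cast_ne_zero.2 Nat.card_pos.ne'
    rw [show (![201600, 57600, 57600, 0] : Fin 4 → ℚ) i = 120 * ((![1680, 480, 480, 0] : Fin 4 → ℤ) i : ℚ) by
      fin_cases i <;> norm_num]
    apply (Rat.cast_injective (α := ℂ))
    push_cast
    push_cast at h
    rw [eq_div_iff hG0]
    refine mul_left_cancel₀ hG0 ?_
    linear_combination h
  have D : Data z o π d (Nat.card G) :=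
    { g00 := by simp only [pow_two]; exact hgram 0 0
      g11 := by simp only [pow_two]; exact hgram 1 1
      g22 := by simp only [pow_two]; exact hgram 2 2
      g33 := by simp only [pow_two]; exact hgram 3 3
      g01 := hgram 0 1
      g12 := hgram 1 2
      g03 := hgram 0 3
      g13 := hgram 1 3
      g23 := hgram 2 3
      z0o := hone 0
      z1o := hone 1
      z2o := hone 2
      z3o := hone 3
      dp := fun χ => by
        apply Nat.cast_injective (R := ℂ)
        rw [← hd, ← hd]
        show (χ : G → ℂ) (1 ^ k) = _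
        rw [one_pow]
      p0 := fun χ => hpi 0 χ
      p12 := fun χ => hpi 2 χ
      p21 := fun χ => hpi 1 χ
      p3 := fun χ => hpi 3 χ
      deg := hdeg
      dpos := fun χ => deg_pos χ.2
      do1 := by
        have := hd o
        have h1 : ((o : IrrCharacter G) : G → ℂ) 1 = 1 := rfl
        rw [h1] at this
        exact_mod_cast this.symm
      cong := hcong
      sq := hsq
      eq := heq }
  exact D.order h168 hodd

end Cfsg.Agent.Lead.JankoOne
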