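import Cfsg.Agent.Lib.Lead.JankoOne.Frame
import Cfsg.Agent.Lib.Lead.JankoOne.Coset.TableB
import Mathlib.GroupTheory.Perm.Cycle.Type
import Mathlib.GroupTheory.GroupAction.Primitive

/-!
# Uniqueness: the action on the cosets of the centraliser is given by one table
-/

set_option autoImplicit false
set_option maxRecDepth 20000
set_option linter.style.haveILetI false

namespace Cfsg.Agent.Lead.JankoOne

open Cfsg Cfsg.Agent.Char
open Cfsg.Agent.Lead.GLTwoThree (orderOf_two_iff mem_cent_iff t_mem)

universe u v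

/-- the group generated by the rows of the table -/
def tableGroup : Subgroup (Equiv.Perm (Fin 1463)) :=
  Subgroup.closure {p | ∃ k < 4, ∀ i : Fin 1463, (p i).val = (Coset.edge.get (4 * i.val + k)).1}

variable {G : Type u} [Group G] [Finite G] {t : G}
variable (e : ↥(Subgroup.centralizer ({t} : Set G)) ≃* CG) (y : G)

omit [Finite G] in
/-- The letters `T`, `U`, `V` and `Y` generate the centraliser and `y`. -/
theorem cent_le_gen (H : Subgroup G) (hgen : ∀ c ∈ [3319, 482, 894], lift e c ∈ H) :
    Subgroup.centralizer ({t} : Set G) ≤ H := by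
  have hc : ∀ c ∈ [3319, 482, 894], c ∈ codes := by decide +kernel
  have hgrow : ∀ n, ∀ c ∈ growN n, c ∈ codes ∧ lift e c ∈ H := by
    intro n
    induction n with
    | zero =>
      intro c hc'
      rw [growN, List.mem_singleton] at hc'
      subst hc'
      exact ⟨by decide +kernel, by rw [lift_one]; exact one_mem H⟩
    | succ n ih =>
      intro c hc'
      rw [growN, grow, List.mem_eraseDups] at hc'
      simp only [List.mem_append, List.mem_map] at hc'
      have step : ∀ g ∈ [3319, 482, 894], ∀ a ∈ growN n, mc a g ∈ codes ∧ lift e (mc a g) ∈ H := fun g hg a ha => by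
        refine ⟨mc_mem (ih a ha).1 (hc g hg), ?_⟩
        rw [← lift_mul e (ih a ha).1 (hc g hg)]
        exact H.mul_mem (ih a ha).2 (hgen g hg)
      rcases hc' with ((h | ⟨a, ha, rfl⟩) | ⟨a, ha, rfl⟩) | ⟨a, ha, rfl⟩
      · exact ih c h
      · exact step _ (by simp) a ha
      · exact step _ (by simp) a ha
      · exact step _ (by simp) a ha
  intro n hn
  rw [← show lift e (cod (e ⟨n, hn⟩)) = n from lift_cod e ⟨n, hn⟩]
  exact (hgrow 14 _ (cg_generated _ (cod_mem _))).2

theorem sign_of_one_fixed {α : Type*} [Fintype α] [DecidableEq α] (σ : Equiv.Perm α) (h2 : σ * σ = 1)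
    (hfix : ∃ a, ∀ b, σ b = b ↔ b = a) :
    Equiv.Perm.sign σ = (-1) ^ ((Fintype.card α - 1) / 2) := by
  obtain ⟨a, ha⟩ := hfix
  have hsupp : σ.support.card = Fintype.card α - 1 := by
    have : σ.support = Finset.univ.erase a := by
      ext b; simp [Equiv.Perm.mem_support, ha]
    rw [this, Finset.card_erase_of_mem (Finset.mem_univ a), Finset.card_univ]
  have hct : ∀ m ∈ σ.cycleType, m = 2 := fun m hm => by
    have hd : m ∣ orderOf σ := Equiv.Perm.dvd_of_mem_cycleType hm
    have h2' : orderOf σ ∣ 2 := orderOf_dvd_of_pow_eq_one (by rw [pow_two]; exact h2)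
    have hle := Nat.le_of_dvd (by norm_num) (hd.trans h2')
    have := Equiv.Perm.two_le_of_mem_cycleType hm
    omega
  have hrep : σ.cycleType = Multiset.replicate σ.cycleType.card 2 := Multiset.eq_replicate_card.2 hct
  have hsum : σ.cycleType.card * 2 = σ.support.card := by
    rw [← Equiv.Perm.sum_cycleType]
    conv_rhs => rw [hrep]
    simp
  rw [Equiv.Perm.sign_of_cycleType, hrep, Multiset.sum_replicate, Multiset.card_replicate, smul_eq_mul,
    show (Fintype.card α - 1) / 2 = σ.cycleType.card by omega]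
  rw [show σ.cycleType.card * 2 + σ.cycleType.card = 2 * σ.cycleType.card + σ.cycleType.card by ring, pow_add,
    pow_mul]
  simp

include e in
theorem eq_top_of_amalg [IsSimpleGroup G] (h2c : IsTwoCentralInvolution t) (hcard : Nat.card G = 175560)
    {zc : ℕ} {rel : List ℕ} (A : Amalg e y zc rel) (H : Subgroup G)
    (hC : Subgroup.centralizer ({t} : Set G) ≤ H) (hy : y ∈ H) : H = ⊤ := by
  classical
  have ht := h2c.1
  obtain ⟨tt, t1⟩ := orderOf_two_iff.1 ht
  obtain ⟨⟨P, hP⟩, -, -⟩ := sylow_facts ht e h2c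
  haveI : Fact (Nat.Prime 2) := ⟨Nat.prime_two⟩
  haveI : Fact (Nat.Prime 7) := ⟨by norm_num⟩
  have htC : t ∈ Subgroup.centralizer ({t} : Set G) := t_mem
  have htH : t ∈ H := hC htC
  have hy1 : y ≠ 1 := fun h => A.ync (h ▸ one_mem _)
  have d120 : 120 ∣ Nat.card H := card_centralizer ht e ▸ Subgroup.card_dvd_of_le hC
  have d7 : 7 ∣ Nat.card H := by
    rw [← orderOf_eq_prime A.y7 hy1]; exact Subgroup.orderOf_dvd_natCard _ hy
  -- one class of involutions in `H`
  have hSH : sylG e ≤ H := fun q hq => hC ((mem_sylG e).1 hq).1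
  have hone : ∀ u ∈ H, orderOf u = 2 → ∃ g ∈ H, g * t * g⁻¹ = u := by
    intro u hu hu2
    have h8 : Nat.card ((sylG e).subgroupOf H) = 2 ^ (Nat.card H).factorization 2 := by
      rw [Nat.card_congr (Subgroup.subgroupOfEquivOfLe hSH).toEquiv, card_sylG e]
      have h1 : (Nat.card H).factorization 2 ≤ (Nat.card G).factorization 2 :=
        (Nat.factorization_le_iff_dvd Nat.card_pos.ne' Nat.card_pos.ne').2 (Subgroup.card_subgroup_dvd_card H) 2
      have h2 : 3 ≤ (Nat.card H).factorization 2 :=
        (Nat.Prime.pow_dvd_iff_le_factorization Nat.prime_two Nat.card_pos.ne').1 (by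
          exact (show 2 ^ 3 ∣ 120 by norm_num).trans d120)
      have h3 : (Nat.card G).factorization 2 = 3 := by
        rw [hcard, show (175560 : ℕ) = 2 ^ 3 * 21945 by norm_num, Nat.factorization_mul (by norm_num) (by norm_num),
          Finsupp.add_apply, Nat.Prime.factorization_pow Nat.prime_two, Finsupp.single_eq_same,
          Nat.factorization_eq_zero_of_not_dvd (by norm_num)]
      rw [show (Nat.card H).factorization 2 = 3 by omega]; norm_num
    let P' : Sylow 2 H := Sylow.ofCard _ h8
    have hpg : IsPGroup 2 (Subgroup.zpowers (⟨u, hu⟩ : H)) := IsPGroup.of_card (n := 1) (by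
      rw [Nat.card_zpowers, ← Subgroup.orderOf_coe, hu2, pow_one])
    obtain ⟨Q, hQ⟩ := hpg.exists_le_sylow
    obtain ⟨g, hg⟩ := MulAction.exists_smul_eq H Q P'
    have hmem : (g * ⟨u, hu⟩ * g⁻¹ : H) ∈ ((g • Q : Sylow 2 H) : Subgroup H) := by
      rw [Sylow.smul_def]; exact ⟨_, hQ (Subgroup.mem_zpowers _), rfl⟩
    rw [hg, Sylow.coe_ofCard, Subgroup.mem_subgroupOf] at hmem
    set q : G := ((g * ⟨u, hu⟩ * g⁻¹ : H) : G) with hq
    have hq' : q = (g : G) * u * (g : G)⁻¹ := rfl
    have hq1 : q ≠ 1 := fun h => by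
      rw [hq'] at h
      rw [conj_eq_one_iff.1 h, orderOf_one] at hu2
      omega
    -- every non-trivial element of the Sylow subgroup is a power-conjugate of `t`
    obtain ⟨h', hn⟩ := (mem_sylG e).1 hmem
    have hql : q = lift e (cod (e ⟨q, h'⟩)) := (lift_cod e ⟨q, h'⟩).symm
    have hn1 : cod (e ⟨q, h'⟩) ≠ 194 := fun h => hq1 (by rw [hql, h, lift_one])
    have hyT : ∀ p, (∃ k : ℕ, y ^ k * t * (y ^ k)⁻¹ = p) → ∃ k : ℕ, y ^ k * t * (y ^ k)⁻¹ = y * p * y⁻¹ := by
      rintro p ⟨k, rfl⟩
      exact ⟨k + 1, by rw [pow_succ']; group⟩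
    have e0 : ∃ k : ℕ, y ^ k * t * (y ^ k)⁻¹ = lift e 3319 := ⟨0, by rw [A.tT]; group⟩
    have e1 := hyT _ e0
    rw [A.tT, A.yT] at e1
    have cC := amalgam_codes
    obtain ⟨-, -, c3, -, -, c6, c7, -, c9, -, h714, h1634, h2154, -, -, -, -, -⟩ := cC
    have h5279 : (5279 : ℕ) ∈ codes := (syl_check.1 5279 (by decide)).1
    have h3839 : (3839 : ℕ) ∈ codes := (syl_check.1 3839 (by decide)).1
    have h4759 : (4759 : ℕ) ∈ codes := (syl_check.1 4759 (by decide)).1
    have h3319 := three_base.2.2.1
    have yC1 : y * lift e 2154 * y⁻¹ = lift e 714 := by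
      have h := A.yB
      rw [← c3, ← lift_mul e h714 h2154, show y * (lift e 714 * lift e 2154) * y⁻¹ =
        (y * lift e 714 * y⁻¹) * (y * lift e 2154 * y⁻¹) by group, A.yA, ← c7,
        ← (t_mul_lift e A.tT h714).1] at h
      exact mul_left_cancel h
    have y5279 : y * lift e 5279 * y⁻¹ = lift e 4759 := by
      rw [← c6, ← lift_mul e h2154 h3319, A.tT, show y * (lift e 2154 * t) * y⁻¹ =
        (y * lift e 2154 * y⁻¹) * (y * t * y⁻¹) by group, yC1, A.yT, lift_mul e h714 h5279, c9]
    have e2 := hyT _ e1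
    rw [y5279] at e2
    have e3 := hyT _ e2
    rw [← c9, ← lift_mul e h714 h5279, show y * (lift e 714 * lift e 5279) * y⁻¹ =
      (y * lift e 714 * y⁻¹) * (y * lift e 5279 * y⁻¹) by group, A.yA, y5279, (t_mul_lift e A.tT h4759).1,
      show mc 3319 4759 = 1634 by decide] at e3
    have e4 := hyT _ e3
    rw [A.yB] at e4
    have e5 := hyT _ e4
    rw [← c7, ← (t_mul_lift e A.tT h714).1, show y * (t * lift e 714) * y⁻¹ =
      (y * t * y⁻¹) * (y * lift e 714 * y⁻¹) by group, A.yT, A.yA, (t_mul_lift e A.tT h5279).2,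
      show mc 5279 3319 = 2154 by decide] at e5
    have e6 := hyT _ e5
    rw [yC1] at e6
    obtain ⟨k, hk⟩ : ∃ k : ℕ, y ^ k * t * (y ^ k)⁻¹ = q := by
      rw [hql]
      simp only [cSyl, List.mem_cons, List.not_mem_nil, or_false] at hn
      rcases hn with h | h | h | h | h | h | h | h
      · exact absurd h hn1
      all_goals rw [h]; assumption
    refine ⟨(g : G)⁻¹ * y ^ k, H.mul_mem (H.inv_mem g.2) (H.pow_mem hy k), ?_⟩
    rw [show (g : G)⁻¹ * y ^ k * t * ((g : G)⁻¹ * y ^ k)⁻¹ = (g : G)⁻¹ * (y ^ k * t * (y ^ k)⁻¹) * g by group, hk,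
      hq']
    group
  -- the index
  obtain ⟨a, ha⟩ := (Nat.Coprime.mul_dvd_of_dvd_of_dvd (by norm_num : Nat.Coprime 120 7) d120 d7)
  have hmul := H.card_mul_index
  rw [hcard, ha] at hmul
  have hidx : H.index ∣ 209 := ⟨a, by
    apply Nat.eq_of_mul_eq_mul_left (show 0 < 120 * 7 by norm_num)
    rw [show 120 * 7 * (H.index * a) = 120 * 7 * a * H.index by ring, hmul]⟩
  have hm : H.index ∈ Nat.divisors 209 := Nat.mem_divisors.2 ⟨hidx, by norm_num⟩
  rw [show Nat.divisors 209 = {1, 11, 19, 209} by decide +kernel] at hm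
  simp only [Finset.mem_insert, Finset.mem_singleton] at hm
  rcases eq_or_ne H.index 1 with h1 | h1
  · exact Subgroup.index_eq_one.1 h1
  exfalso
  by_cases h209 : H.index = 209
  · -- seven involutions at most, but the centraliser has thirty-one
    have hH840 : Nat.card H = 840 := by
      have := H.card_mul_index
      rw [h209, hcard] at this
      omega
    haveI := Fintype.ofFinite H
    let CH := (Subgroup.centralizer ({t} : Set G)).subgroupOf H
    have hCH : CH.index = 7 := by
      have := CH.card_mul_index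
      rw [Nat.card_congr (Subgroup.subgroupOfEquivOfLe hC).toEquiv, card_centralizer ht e, hH840] at this
      omega
    let I := {n : ↥(Subgroup.centralizer ({t} : Set G)) // orderOf (n : G) = 2}
    have hI : Nat.card I = 31 := by
      have : Nat.card I = Nat.card {x : ℕ // x ∈ (codes.filter fun u => u != 194 && mc u u == 194).toFinset} := by
        refine Nat.card_congr (Equiv.ofBijective (fun n => ⟨cod (e n.1), ?_⟩) ⟨?_, ?_⟩)
        · rw [List.mem_toFinset, List.mem_filter]
          refine ⟨cod_mem _, ?_⟩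
          have h2 := n.2
          rw [Subgroup.orderOf_coe, ← MulEquiv.orderOf_eq e, orderOf_two_iff, invol_cod] at h2
          simp [h2.1, h2.2]
        · exact fun a b h => Subtype.ext (e.injective (cod_injective (congrArg Subtype.val h)))
        · rintro ⟨x, hx⟩
          rw [List.mem_toFinset, List.mem_filter] at hx
          refine ⟨⟨e.symm (ofCode x hx.1), ?_⟩, Subtype.ext (by show cod (e _) = x; rw [cod_lift])⟩
          rw [Subgroup.orderOf_coe, MulEquiv.orderOf_eq, orderOf_two_iff, invol_cod, cod_ofCode]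
          have := hx.2
          simp only [Bool.and_eq_true, bne_iff_ne, beq_iff_eq, ne_eq] at this
          exact ⟨this.2, this.1⟩
      rw [this, Nat.card_eq_finsetCard, List.toFinset_card_of_nodup (codes_nodup.filter _), involution_count]
    have hle : Nat.card I ≤ Nat.card (↥H ⧸ CH) := by
      choose f hf hf' using fun n : I => hone n.1 (hC n.1.2) n.2
      refine Nat.card_le_card_of_injective (fun n => ((⟨f n, hf n⟩ : H) : ↥H ⧸ CH)) fun a b h => ?_
      rw [QuotientGroup.eq, Subgroup.mem_subgroupOf] at h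
      have hc : ((f a)⁻¹ * f b) * t = t * ((f a)⁻¹ * f b) := mem_cent_iff.1 h
      refine Subtype.ext (Subtype.ext ?_)
      rw [← hf' a, ← hf' b]
      calc f a * t * (f a)⁻¹ = f a * (t * ((f a)⁻¹ * f b)) * (f b)⁻¹ := by group
        _ = f b * t * (f b)⁻¹ := by rw [← hc]; group
    rw [hI, show Nat.card (↥H ⧸ CH) = CH.index from rfl, hCH] at hle
    omega
  · -- `t` is an odd permutation of the cosets
    haveI := Fintype.ofFinite G
    haveI := Fintype.ofFinite (G ⧸ H)
    let φ := (Equiv.Perm.sign).comp (MulAction.toPermHom G (G ⧸ H))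
    have hfix : ∃ a, ∀ b : G ⧸ H, MulAction.toPermHom G (G ⧸ H) t b = b ↔ b = a := by
      refine ⟨((1 : G) : G ⧸ H), fun b => ?_⟩
      induction b using QuotientGroup.induction_on with
      | H g =>
        rw [MulAction.toPermHom_apply, MulAction.toPerm_apply, MulAction.Quotient.smul_coe, smul_eq_mul]
        constructor
        · intro h
          rw [QuotientGroup.eq] at h
          have hu : g⁻¹ * t * g ∈ H := by
            have := H.inv_mem h
            simpa [mul_assoc, inv_eq_of_mul_eq_one_left tt] using this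
          have hu2 : orderOf (g⁻¹ * t * g) = 2 := by
            rw [show g⁻¹ * t * g = MulAut.conj g⁻¹ t by rw [MulAut.conj_apply, inv_inv], MulEquiv.orderOf_eq, ht]
          obtain ⟨q, hq, hqe⟩ := hone _ hu hu2
          have hgq : (g * q) * t = t * (g * q) := by
            calc g * q * t = g * (q * t * q⁻¹) * q := by group
              _ = t * (g * q) := by rw [hqe]; group
          rw [QuotientGroup.eq, mul_one]
          have := H.mul_mem (hC (mem_cent_iff.2 hgq)) (H.inv_mem hq)
          rw [mul_inv_cancel_right] at this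
          exact H.inv_mem this
        · intro h
          rw [h]
          rw [QuotientGroup.eq, mul_one] at h
          rw [QuotientGroup.eq, mul_one]
          exact H.inv_mem (H.mul_mem htH (by simpa using H.inv_mem h))
    have hsq : MulAction.toPermHom G (G ⧸ H) t * MulAction.toPermHom G (G ⧸ H) t = 1 := by
      rw [← map_mul, tt, map_one]
    have hsign : φ t = -1 := by
      show Equiv.Perm.sign (MulAction.toPermHom G (G ⧸ H) t) = -1
      rw [sign_of_one_fixed _ hsq hfix, ← Nat.card_eq_fintype_card, show Nat.card (G ⧸ H) = H.index from rfl]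
      rcases hm with h | h | h | h
      · exact absurd h h1
      · rw [h]; rfl
      · rw [h]; rfl
      · exact absurd h h209
    rcases φ.normal_ker.eq_bot_or_eq_top with h | h
    · have h2 : Nat.card G ≤ Nat.card ℤˣ := Nat.card_le_card_of_injective φ ((MonoidHom.ker_eq_bot_iff φ).1 h)
      rw [hcard, Nat.card_eq_fintype_card, Fintype.card_units_int] at h2
      omega
    · have : φ t = 1 := φ.mem_ker.1 (h ▸ Subgroup.mem_top t)
      rw [hsign] at this
      exact absurd this (by decide)

omit [Finite G] in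
theorem image_invariant {ι α : Type*} [Finite ι] [MulAction G α] (f : ι → α) (g : G)
    (h : ∀ i, ∃ j, f j = g⁻¹ • f i) (a : α) : (∃ i, f i = a) ↔ ∃ i, f i = g • a := by
  have hmap : (g⁻¹ • ·) '' Set.range f = Set.range f := by
    refine Set.eq_of_subset_of_ncard_le ?_ ?_ (Set.finite_range f)
    · rintro _ ⟨_, ⟨i, rfl⟩, rfl⟩
      exact h i
    · rw [Set.ncard_image_of_injective _ (MulAction.injective g⁻¹)]
  change a ∈ Set.range f ↔ g • a ∈ Set.range f
  constructor
  · intro ha
    rw [← hmap] at ha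
    obtain ⟨b, hb, rfl⟩ := ha
    rwa [smul_inv_smul]
  · intro ha
    rw [← hmap]
    exact ⟨_, ha, inv_smul_smul g a⟩

set_option maxHeartbeats 1000000 in
include e in
omit [Finite G] in
theorem exists_table_map (A : Amalg e y 1202 relNear) :
    ∃ f : Fin 1463 → G ⧸ Subgroup.centralizer ({t} : Set G),
      (∀ (i : Fin 1463) (k : Fin 4), ∃ h : (Coset.edge.get (4 * i.val + k.val)).1 < 1463,
        f ⟨_, h⟩ = (letterVal e y 1202 (Coset.genLetter k.val))⁻¹ • f i) ∧
      f ⟨0, by norm_num⟩ = ((1 : G) : G ⧸ Subgroup.centralizer ({t} : Set G)) := by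
  have hrels : Coset.logB.rels.all (relOK 1202 relNear) = true := by
    have h := rels_ok.1
    simp only [Bool.and_eq_true] at h
    exact h.1.1.2
  have hlet : ∀ r ∈ Coset.logB.rels, ∀ g ∈ r, g < 13 := fun r hr =>
    rels_ok.2 r (by simp [show Coset.logB.rels = Coset.relsB from rfl] at hr ⊢; tauto)
  have hz : (1202 : ℕ) ∈ [970, 1202, 1110, 1138] := by simp
  let S := A.sys e y hz Coset.logB hrels hlet rfl
  let f : Fin 1463 → G ⧸ Subgroup.centralizer ({t} : Set G) := fun i => S.val (Coset.live.get i.val)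
  have htab := Coset.table_ok
  rw [Bool.and_eq_true] at htab
  have hedge : ∀ (i : Fin 1463) (k : Fin 4), ∃ h : (Coset.edge.get (4 * i.val + k.val)).1 < 1463,
      f ⟨_, h⟩ = (letterVal e y 1202 (Coset.genLetter k.val))⁻¹ • f i := by
    intro i k
    have h := List.all_eq_true.1 htab.1 (4 * i.val + k.val) (List.mem_range.2 (by omega))
    simp only [Coset.edgeCheck, Bool.and_eq_true, Nat.blt_eq, Nat.beq_eq] at h
    obtain ⟨h1, hr, e1, e2, e3⟩ := h
    refine ⟨h1, ?_⟩
    rw [show (4 * i.val + k.val) / 4 = i.val by omega] at e1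
    rw [show (4 * i.val + k.val) % 4 = k.val by omega] at e2
    obtain ⟨hf, hg⟩ := S.holds Coset.okB _ hr
    show S.val _ = S.act (S.val _) _
    rw [← e1, ← e2, ← e3]
    unfold Coset.Log.ends
    cases hpar : ((Coset.edge.get (4 * i.val + k.val)).2 % 2 == 0)
    · simp only [cond_false]
      rw [← hf, S.cancel _ _ hg]
    · simp only [cond_true]
      exact hf.symm
  have h0 : f ⟨0, by norm_num⟩ = ((1 : G) : G ⧸ Subgroup.centralizer ({t} : Set G)) := by
    show S.val (Coset.live.get 0) = _
    rw [Nat.eq_of_beq_eq_true htab.2, S.val_zero]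
    rfl
  exact ⟨f, hedge, h0⟩

set_option maxHeartbeats 1000000 in
include e in
/-- A group of order 175560 with this centraliser is given by the table. -/
theorem nonempty_table [IsSimpleGroup G] (h2c : IsTwoCentralInvolution t) :
    Nonempty (G ≃* tableGroup) := by
  classical
  have hcard := card_eq h2c e
  obtain ⟨e', y, A⟩ := exists_amalg e h2c hcard
  obtain ⟨f, hedge, h0⟩ := exists_table_map e' y A
  -- the image is invariant
  let M : Subgroup G :=
    { carrier := {g | ∀ a, (∃ i, f i = a) ↔ ∃ i, f i = g • a}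
      one_mem' := fun a => by rw [one_smul]
      mul_mem' := fun {g h} hg hh a => by rw [mul_smul, ← hg (h • a)]; exact hh a
      inv_mem' := fun {g} hg a => by
        have := hg (g⁻¹ • a)
        rw [smul_inv_smul] at this
        exact this.symm }
  haveI := Fintype.ofFinite G
  haveI := Fintype.ofFinite (G ⧸ Subgroup.centralizer ({t} : Set G))
  have hgenM : ∀ k : Fin 4, letterVal e' y 1202 (Coset.genLetter k.val) ∈ M := by
    intro k
    refine image_invariant f _ fun i => ?_
    obtain ⟨h, he⟩ := hedge i k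
    exact ⟨_, he⟩
  have hM : M = ⊤ := by
    refine eq_top_of_amalg e' y h2c hcard A M (cent_le_gen e' M fun c hc => ?_) ?_
    · simp only [List.mem_cons, List.not_mem_nil, or_false] at hc
      rcases hc with rfl | rfl | rfl
      · exact hgenM 0
      · exact hgenM 1
      · exact hgenM 2
    · exact hgenM 3
  have hsurj : Function.Surjective f := fun a => by
    induction a using QuotientGroup.induction_on with
    | H g =>
      have hg : g ∈ M := hM ▸ Subgroup.mem_top g
      obtain ⟨i, hi⟩ := (hg ((1 : G) : G ⧸ Subgroup.centralizer ({t} : Set G))).1 ⟨_, h0⟩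
      exact ⟨i, by rw [hi, MulAction.Quotient.smul_coe, smul_eq_mul, mul_one]⟩
  have hidx : Nat.card (G ⧸ Subgroup.centralizer ({t} : Set G)) = 1463 := by
    have := (Subgroup.centralizer ({t} : Set G)).card_mul_index
    rw [card_centralizer h2c.1 e, hcard] at this
    show (Subgroup.centralizer ({t} : Set G)).index = 1463
    omega
  let E : Fin 1463 ≃ G ⧸ Subgroup.centralizer ({t} : Set G) := Equiv.ofBijective f (hsurj.bijective_of_nat_card_le (by rw [hidx, Nat.card_fin]))
  let ψ : G →* Equiv.Perm (Fin 1463) := (E.symm.permCongrHom.toMonoidHom).comp (MulAction.toPermHom G (G ⧸ Subgroup.centralizer ({t} : Set G)))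
  have hψ : ∀ g i, ψ g i = E.symm (g • E i) := fun g i => rfl
  have hgenψ : ∀ k : Fin 4, ∀ i, (ψ (letterVal e' y 1202 (Coset.genLetter k.val))⁻¹ i).val =
      (Coset.edge.get (4 * i.val + k.val)).1 := by
    intro k i
    obtain ⟨h, he⟩ := hedge i k
    rw [hψ]
    show (E.symm ((letterVal e' y 1202 (Coset.genLetter k.val))⁻¹ • f i)).val = _
    rw [← he, show f ⟨_, h⟩ = E ⟨_, h⟩ from rfl, Equiv.symm_apply_apply]
  have hrange : ψ.range = tableGroup := by
    refine le_antisymm ?_ ((Subgroup.closure_le _).2 ?_)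
    · rw [MonoidHom.range_eq_map]
      refine Subgroup.map_le_iff_le_comap.2 (eq_top_of_amalg e' y h2c hcard A _ (cent_le_gen e' _ fun c hc => ?_) ?_).ge
      · simp only [List.mem_cons, List.not_mem_nil, or_false] at hc
        have key : ∀ k : Fin 4, ψ (letterVal e' y 1202 (Coset.genLetter k.val)) ∈ tableGroup := fun k => by
          have := Subgroup.inv_mem tableGroup (Subgroup.subset_closure (k := {p : Equiv.Perm (Fin 1463) |
            ∃ k < 4, ∀ i : Fin 1463, (p i).val = (Coset.edge.get (4 * i.val + k)).1}) ⟨k.val, k.2, hgenψ k⟩)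
          rwa [← map_inv, inv_inv] at this
        rcases hc with rfl | rfl | rfl
        · exact key 0
        · exact key 1
        · exact key 2
      · have := Subgroup.inv_mem tableGroup (Subgroup.subset_closure (k := {p : Equiv.Perm (Fin 1463) |
          ∃ k < 4, ∀ i : Fin 1463, (p i).val = (Coset.edge.get (4 * i.val + k)).1}) ⟨3, by norm_num, hgenψ 3⟩)
        rwa [← map_inv, inv_inv] at this
    · rintro p ⟨k, hk, hp⟩
      exact ⟨_, (Equiv.ext fun i => Fin.ext ((hgenψ ⟨k, hk⟩ i).trans (hp i).symm))⟩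
  have hinj : Function.Injective ψ := by
    rw [← MonoidHom.ker_eq_bot_iff]
    refine ψ.normal_ker.eq_bot_or_eq_top.resolve_right fun h => ?_
    have hy : ψ y = 1 := ψ.mem_ker.1 (h ▸ Subgroup.mem_top y)
    have h1 := congrArg (fun p : Equiv.Perm (Fin 1463) => E (p (E.symm ((1 : G) : G ⧸ Subgroup.centralizer ({t} : Set G))))) hy
    simp only [hψ, Equiv.apply_symm_apply, Equiv.Perm.one_apply, MulAction.Quotient.smul_coe, smul_eq_mul, mul_one] at h1
    rw [QuotientGroup.eq, mul_one] at h1
    exact A.ync ((Subgroup.centralizer ({t} : Set G)).inv_mem_iff.1 h1)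
  exact ⟨(MonoidHom.ofInjective hinj).trans (MulEquiv.subgroupCongr hrange)⟩

end Cfsg.Agent.Lead.JankoOne
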