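import Cfsg.Agent.Lib.Lead.JankoOne.Induced
import Cfsg.Agent.Lib.Char.ZStar
import Cfsg.Agent.Lib.Char.IsolatedStep
import Mathlib.GroupTheory.Sylow

/-!
# The Sylow two-subgroup when an involution has centraliser `C₂ × A₅`
-/

set_option autoImplicit false
set_option maxRecDepth 20000
set_option linter.style.haveILetI false

namespace Cfsg.Agent.Lead.JankoOne

open Cfsg Cfsg.Agent.Char
open Cfsg.Agent.Lead.GLTwoThree (orderOf_two_iff mem_cent_iff t_mem)

def cSyl : List ℕ := [194, 714, 1634, 2154, 3319, 3839, 4759, 5279]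

theorem syl_check : (∀ x ∈ cSyl, x ∈ codes ∧ iv x ∈ cSyl ∧ mc x x = 194) ∧
    (∀ x ∈ cSyl, ∀ y ∈ cSyl, mc x y ∈ cSyl ∧ mc x y = mc y x) ∧ 194 ∈ cSyl ∧ cSyl.Nodup := by decide +kernel

theorem syl_self : ∀ x ∈ codes, (∀ y ∈ cSyl, mc x y = mc y x) → x ∈ cSyl := by decide +kernel

theorem aFour_normal : (∀ x ∈ cAFour, ∀ y ∈ cSyl, mc (mc x y) (iv x) ∈ cSyl) ∧ cSyl ⊆ cAFour := by decide +kernel

theorem aFour_orbits : ∀ x ∈ cSyl, x ≠ 194 → x ≠ 3319 →
    (x ∈ [714, 1634, 2154] ∧ ∃ w ∈ cAFour, mc (mc w x) (iv w) = 714) ∨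
      (x ∈ [3839, 4759, 5279] ∧ ∃ w ∈ cAFour, mc (mc w x) (iv w) = 3839) := by decide +kernel

theorem small_orbits : ∀ L ∈ [[3319, 714, 1634, 2154], [3319, 3839, 4759, 5279]],
    L.Nodup ∧ L.length = 4 ∧ ∀ x ∈ L, x ∈ cSyl ∧ x ≠ 194 := by decide +kernel

/-- `C₂ × V₄` -/
def sylCG : Subgroup CG where
  carrier := {g | cod g ∈ cSyl}
  one_mem' := by show cod (1 : CG) ∈ cSyl; rw [cod_one]; exact syl_check.2.2.1
  mul_mem' := fun {a b} ha hb => by show cod (a * b) ∈ cSyl; rw [cod_mul]; exact (syl_check.2.1 _ ha _ hb).1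
  inv_mem' := fun {a} ha => by show cod a⁻¹ ∈ cSyl; rw [cod_inv]; exact (syl_check.1 _ ha).2.1

theorem mem_sylCG {g : CG} : g ∈ sylCG ↔ cod g ∈ cSyl := Iff.rfl

theorem card_sylCG : Nat.card sylCG = 8 := by
  have : cSyl.toFinset.card = 8 := by rw [List.toFinset_card_of_nodup syl_check.2.2.2]; rfl
  rw [← this, ← Nat.card_eq_finsetCard]
  refine Nat.card_congr (Equiv.ofBijective (fun g => ⟨cod g.1, List.mem_toFinset.2 g.2⟩) ⟨?_, ?_⟩)
  · exact fun a b h => Subtype.ext (cod_injective (congrArg Subtype.val h))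
  · rintro ⟨x, hx⟩
    have hx' := List.mem_toFinset.1 hx
    exact ⟨⟨ofCode x (syl_check.1 x hx').1, by rw [mem_sylCG, cod_ofCode]; exact hx'⟩,
      Subtype.ext (cod_ofCode x (syl_check.1 x hx').1)⟩

universe u

variable {G : Type u} [Group G] {t : G}
variable (ht : orderOf t = 2) (e : ↥(Subgroup.centralizer ({t} : Set G)) ≃* CG)

/-- the elementary abelian subgroup -/
def sylG : Subgroup G := (sylCG.comap e.toMonoidHom).map (Subgroup.centralizer ({t} : Set G)).subtype

theorem mem_sylG {x : G} : x ∈ sylG e ↔ ∃ h : x ∈ Subgroup.centralizer ({t} : Set G), cod (e ⟨x, h⟩) ∈ cSyl := by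
  constructor
  · rintro ⟨n, hn, rfl⟩; exact ⟨n.2, hn⟩
  · rintro ⟨h, hn⟩; exact ⟨⟨x, h⟩, hn, rfl⟩

theorem card_sylG : Nat.card (sylG e) = 8 := by
  rw [sylG, Subgroup.card_map_of_injective (Subgroup.subtype_injective _), ← card_sylCG]
  exact Nat.card_congr (e.toEquiv.subtypeEquiv fun x => Iff.rfl)

theorem sq_sylG {x : G} (hx : x ∈ sylG e) : x * x = 1 := by
  obtain ⟨h, hn⟩ := (mem_sylG e).1 hx
  have : (⟨x, h⟩ : ↥(Subgroup.centralizer ({t} : Set G))) * ⟨x, h⟩ = 1 := e.injective (cod_injective (by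
    rw [map_mul, cod_mul, map_one, cod_one, (syl_check.1 _ hn).2.2]))
  exact congrArg Subtype.val this

theorem comm_sylG {x y : G} (hx : x ∈ sylG e) (hy : y ∈ sylG e) : x * y = y * x := by
  obtain ⟨h, hn⟩ := (mem_sylG e).1 hx
  obtain ⟨h', hn'⟩ := (mem_sylG e).1 hy
  have : (⟨x, h⟩ : ↥(Subgroup.centralizer ({t} : Set G))) * ⟨y, h'⟩ = ⟨y, h'⟩ * ⟨x, h⟩ :=
    e.injective (cod_injective (by rw [map_mul, map_mul, cod_mul, cod_mul, (syl_check.2.1 _ hn _ hn').2]))
  exact congrArg Subtype.val this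

include ht in
theorem t_mem_sylG : t ∈ sylG e := (mem_sylG e).2 ⟨t_mem, by rw [cod_t ht e]; decide⟩

include ht in
theorem self_centralizing {x : G} (h : ∀ y ∈ sylG e, x * y = y * x) : x ∈ sylG e := by
  have hx : x ∈ Subgroup.centralizer ({t} : Set G) := mem_cent_iff.2 (h t (t_mem_sylG ht e))
  refine (mem_sylG e).2 ⟨hx, syl_self _ (cod_mem _) fun y hy => ?_⟩
  have hy' : ((e.symm (ofCode y (syl_check.1 y hy).1) : ↥(Subgroup.centralizer ({t} : Set G))) : G) ∈ sylG e :=
    (mem_sylG e).2 ⟨SetLike.coe_mem _, by rw [Subtype.coe_eta, e.apply_symm_apply, cod_ofCode]; exact hy⟩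
  have h2 : (⟨x, hx⟩ : ↥(Subgroup.centralizer ({t} : Set G))) * e.symm (ofCode y (syl_check.1 y hy).1) =
      e.symm (ofCode y (syl_check.1 y hy).1) * ⟨x, hx⟩ := Subtype.ext (h _ hy')
  have h3 := congrArg (fun n => cod (e n)) h2
  simp only [map_mul, cod_mul, e.apply_symm_apply, cod_ofCode] at h3
  exact h3

variable [Finite G]

include ht e in
theorem card_centralizer : Nat.card ↥(Subgroup.centralizer ({t} : Set G)) = 120 :=
  (Nat.card_congr e.toEquiv).trans card_cg

include ht e in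
theorem sylow_facts (h2c : IsTwoCentralInvolution t) :
    (∃ P : Sylow 2 G, (P : Subgroup G) = sylG e) ∧ 8 ∣ Nat.card G ∧ Nat.card G / 8 % 2 = 1 := by
  haveI : Fact (Nat.Prime 2) := ⟨Nat.prime_two⟩
  obtain ⟨-, P0, htP, hP⟩ := h2c
  have hle : (P0 : Subgroup G) ≤ Subgroup.centralizer ({t} : Set G) := fun x hx => mem_cent_iff.2 (hP x hx)
  have h120 := Subgroup.card_dvd_of_le hle
  rw [card_centralizer ht e] at h120
  have h8 : (sylG e).index ≠ 0 := Subgroup.index_ne_zero_of_finite
  have hpg : IsPGroup 2 (sylG e) := IsPGroup.of_card (n := 3) (by rw [card_sylG e]; norm_num)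
  obtain ⟨P1, hP1⟩ := hpg.exists_le_sylow
  have hsame : Nat.card (P0 : Subgroup G) = Nat.card (P1 : Subgroup G) := by
    rw [P0.card_eq_multiplicity, P1.card_eq_multiplicity]
  have hge := Subgroup.card_le_of_le hP1
  rw [card_sylG e, ← hsame] at hge
  obtain ⟨m, hm⟩ := IsPGroup.iff_card.1 P0.isPGroup'
  rw [hm] at hge h120
  have hm3 : m = 3 := by
    have h3 : ¬ (2 ^ 4 : ℕ) ∣ 120 := by norm_num
    have : m ≤ 3 := by
      by_contra hc
      exact h3 ((pow_dvd_pow 2 (show 4 ≤ m by omega)).trans h120)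
    interval_cases m <;> simp at hge ⊢
  subst hm3
  have hc8 : Nat.card (sylG e) = 2 ^ (Nat.card G).factorization 2 := by
    rw [card_sylG e, ← P0.card_eq_multiplicity, hm]; norm_num
  refine ⟨⟨Sylow.ofCard (sylG e) hc8, Sylow.coe_ofCard _ _⟩, card_sylG e ▸ Subgroup.card_subgroup_dvd_card _, ?_⟩
  have hf : (Nat.card G).factorization 2 = 3 :=
    Nat.pow_right_injective le_rfl (by show 2 ^ _ = 2 ^ 3; rw [← hc8, card_sylG e])
  have := Nat.not_dvd_ordCompl Nat.prime_two (Nat.card_pos (α := G)).ne'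
  rw [hf] at this
  norm_num at this
  omega

omit [Finite G] in
theorem conj_sylG (m : ↥(Subgroup.centralizer ({t} : Set G))) (hm : cod (e m) ∈ cAFour) (y : G) (hy : y ∈ sylG e) :
    (m : G) * y * (m : G)⁻¹ ∈ sylG e := by
  obtain ⟨h, hn⟩ := (mem_sylG e).1 hy
  let y' : ↥(Subgroup.centralizer ({t} : Set G)) := ⟨y, h⟩
  have hc : cod (e (m * y' * m⁻¹)) ∈ cSyl := by
    rw [map_mul, map_mul, map_inv, cod_mul, cod_mul, cod_inv]
    exact aFour_normal.1 _ hm _ hn
  exact (mem_sylG e).2 ⟨(m * y' * m⁻¹).2, hc⟩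

set_option maxHeartbeats 1000000 in
include ht e in
theorem one_class [IsSimpleGroup G] (h2c : IsTwoCentralInvolution t) :
    (∀ u : G, orderOf u = 2 → IsConj t u) ∧ 168 ∣ Nat.card G := by
  classical
  haveI : Fact (Nat.Prime 2) := ⟨Nat.prime_two⟩
  obtain ⟨⟨P, hP⟩, hdvd8, hodd⟩ := sylow_facts ht e h2c
  have ⟨ht2, ht1⟩ := orderOf_two_iff.1 ht
  -- the orbit of `t` under the normaliser
  let N := Subgroup.normalizer ((P : Subgroup G) : Set G)
  letI : MulAction N G := MulAction.compHom G (((ConjAct.toConjAct : G ≃* ConjAct G).toMonoidHom).comp N.subtype)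
  have hsmul : ∀ (n : N) (x : G), n • x = (n : G) * x * (n : G)⁻¹ := fun n x => rfl
  haveI := Fintype.ofFinite N
  haveI := Fintype.ofFinite G
  have horb : ∀ x, x ∈ MulAction.orbit N t ↔ x ∈ sylG e ∧ IsConj t x := by
    intro x
    constructor
    · rintro ⟨n, rfl⟩
      have h := (Subgroup.mem_normalizer_iff.1 n.2 t).1 (hP.symm ▸ t_mem_sylG ht e)
      rw [hP] at h
      exact ⟨h, isConj_iff.2 ⟨n, rfl⟩⟩
    · rintro ⟨hx, hconj⟩
      obtain ⟨g, hg⟩ := isConj_iff.1 hconj
      have hcen : ∀ y ∈ sylG e, y ∈ Subgroup.centralizer ((P : Subgroup G) : Set G) := fun y hy =>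
        Subgroup.mem_centralizer_iff.2 fun w hw => comm_sylG e (hP ▸ hw) hy
      obtain ⟨n, hn, he⟩ := Sylow.conj_eq_normalizer_conj_of_mem_centralizer P t g⁻¹ (hcen t (t_mem_sylG ht e))
        (by rw [inv_inv, hg]; exact hcen x hx)
      rw [inv_inv, hg] at he
      exact ⟨⟨n⁻¹, Subgroup.inv_mem _ hn⟩, by rw [he]; show n⁻¹ * t * (n⁻¹)⁻¹ = _; rw [inv_inv]⟩
  have hcard := MulAction.card_orbit_mul_card_stabilizer_eq_card_group N t
  rw [← Nat.card_eq_fintype_card, ← Nat.card_eq_fintype_card, ← Nat.card_eq_fintype_card] at hcard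
  have hNdvd : Nat.card N ∣ Nat.card G := Subgroup.card_subgroup_dvd_card _
  -- the elements of `C₂ × A₄` normalise

  have hw : ∀ w ∈ cAFour, ∃ n : N, (n : G) ∈ Subgroup.centralizer ({t} : Set G) ∧
      ∀ h : (n : G) ∈ Subgroup.centralizer ({t} : Set G), cod (e ⟨n, h⟩) = w := by
    intro w hw
    have hwc : w ∈ codes := (aFour_sub.2.2.1 w hw).1
    set n0 : ↥(Subgroup.centralizer ({t} : Set G)) := e.symm (ofCode w hwc) with hn0
    have hmem : (n0 : G) ∈ N := by
      refine Subgroup.mem_normalizer_iff.2 fun y => ?_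
      have key := conj_sylG e
      have hm0 : cod (e n0) ∈ cAFour := by rw [hn0, e.apply_symm_apply, cod_ofCode]; exact hw
      show y ∈ (P : Subgroup G) ↔ _ ∈ (P : Subgroup G)
      rw [hP]
      refine ⟨key n0 hm0 y, fun h => ?_⟩
      have := key n0⁻¹ (by rw [map_inv, cod_inv]; exact (aFour_sub.2.2.1 _ hm0).2) _ h
      simpa [mul_assoc] using this
    exact ⟨⟨n0, hmem⟩, n0.2, fun h => by rw [Subtype.coe_eta, e.apply_symm_apply, cod_ofCode]⟩
  have h24 : 24 ∣ Nat.card (MulAction.stabilizer N t) := by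
    choose n hn hcn using hw
    let K : Subgroup CG :=
      { carrier := {g | cod g ∈ cAFour}
        one_mem' := by show cod (1 : CG) ∈ cAFour; rw [cod_one]; exact aFour_sub.1.1
        mul_mem' := fun {a b} ha hb => by
          show cod (a * b) ∈ cAFour; rw [cod_mul]; exact (aFour_sub.2.2.2 _ ha _ hb).1
        inv_mem' := fun {a} ha => by show cod a⁻¹ ∈ cAFour; rw [cod_inv]; exact (aFour_sub.2.2.1 _ ha).2 }
    have hK : Nat.card K = 24 := by
      have : cAFour.toFinset.card = 24 := by rw [List.toFinset_card_of_nodup aFour_sub.2.1]; rfl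
      rw [← this, ← Nat.card_eq_finsetCard]
      refine Nat.card_congr (Equiv.ofBijective (fun g => ⟨cod g.1, List.mem_toFinset.2 g.2⟩) ⟨?_, ?_⟩)
      · exact fun a b h => Subtype.ext (cod_injective (congrArg Subtype.val h))
      · rintro ⟨x, hx⟩
        have hx' := List.mem_toFinset.1 hx
        exact ⟨⟨ofCode x (aFour_sub.2.2.1 x hx').1, by show cod _ ∈ cAFour; rw [cod_ofCode]; exact hx'⟩,
          Subtype.ext (cod_ofCode x (aFour_sub.2.2.1 x hx').1)⟩
    let f : K →* G := ((Subgroup.centralizer ({t} : Set G)).subtype.comp e.symm.toMonoidHom).comp K.subtype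
    have hf : Function.Injective f := fun a b h => Subtype.ext (e.symm.injective (Subtype.ext h))
    have hle : f.range ≤ (MulAction.stabilizer N t).map N.subtype := by
      rintro _ ⟨k, rfl⟩
      refine ⟨n _ k.2, ?_, ?_⟩
      · rw [SetLike.mem_coe, MulAction.mem_stabilizer_iff, hsmul, mem_cent_iff.1 (hn _ k.2), mul_inv_cancel_right]
      · show (n _ k.2 : G) = ((e.symm k.1 : ↥(Subgroup.centralizer ({t} : Set G))) : G)
        refine congrArg Subtype.val (show (⟨(n _ k.2 : G), hn _ k.2⟩ : ↥(Subgroup.centralizer ({t} : Set G))) =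
          e.symm k.1 from ?_)
        rw [MulEquiv.eq_symm_apply]
        exact cod_injective (hcn _ k.2 (hn _ k.2))
    have := Subgroup.card_dvd_of_le hle
    rwa [Subgroup.card_map_of_injective N.subtype_injective, ← Nat.card_congr (MonoidHom.ofInjective hf).toEquiv,
      hK] at this
  -- two points `a`, `b` represent the small orbits
  have h714 : 714 ∈ codes := by decide +kernel
  have h3839 : 3839 ∈ codes := by decide +kernel
  set a : G := ((e.symm (ofCode 714 h714) : ↥(Subgroup.centralizer ({t} : Set G))) : G) with hadef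
  set b : G := ((e.symm (ofCode 3839 h3839) : ↥(Subgroup.centralizer ({t} : Set G))) : G) with hbdef
  have hor : ∀ x ∈ sylG e, x ≠ 1 → x ≠ t → ∀ h : x ∈ Subgroup.centralizer ({t} : Set G),
      (cod (e ⟨x, h⟩) ∈ [714, 1634, 2154] ∧ IsConj x a) ∨ (cod (e ⟨x, h⟩) ∈ [3839, 4759, 5279] ∧ IsConj x b) := by
    intro x hx hx1 hxt h
    obtain ⟨_, hn⟩ := (mem_sylG e).1 hx
    have q1 : cod (e ⟨x, h⟩) ≠ 194 := fun hh => hx1 (by
      rw [← cod_one, ← map_one e] at hh
      exact congrArg Subtype.val (e.injective (cod_injective hh)))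
    have q2 : cod (e ⟨x, h⟩) ≠ 3319 := fun hh => hxt (by
      rw [← cod_t ht e] at hh
      exact congrArg Subtype.val (e.injective (cod_injective hh)))
    have mk : ∀ (w c : ℕ) (hw : w ∈ cAFour) (hc : c ∈ codes), mc (mc w (cod (e ⟨x, h⟩))) (iv w) = c →
        IsConj x ((e.symm (ofCode c hc) : ↥(Subgroup.centralizer ({t} : Set G))) : G) := by
      intro w c hw hc hwc
      have hwm := (aFour_sub.2.2.1 w hw).1
      refine isConj_iff.2 ⟨((e.symm (ofCode w hwm) : ↥(Subgroup.centralizer ({t} : Set G))) : G), ?_⟩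
      have : e.symm (ofCode w hwm) * ⟨x, h⟩ * (e.symm (ofCode w hwm))⁻¹ = e.symm (ofCode c hc) := by
        rw [MulEquiv.eq_symm_apply]
        refine cod_injective ?_
        rw [map_mul, map_mul, map_inv, cod_mul, cod_mul, cod_inv, e.apply_symm_apply, cod_ofCode, cod_ofCode, hwc]
      exact congrArg Subtype.val this
    rcases aFour_orbits _ hn q1 q2 with ⟨hm, w, hw, hwc⟩ | ⟨hm, w, hw, hwc⟩
    · exact Or.inl ⟨hm, mk w 714 hw h714 hwc⟩
    · exact Or.inr ⟨hm, mk w 3839 hw h3839 hwc⟩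
  -- orbit size
  have hsz : Nat.card (MulAction.orbit N t) * Nat.card (MulAction.stabilizer N t) ∣ Nat.card G := hcard ▸ hNdvd
  have hod : Odd (Nat.card (MulAction.orbit N t)) := by
    rw [Nat.odd_iff]
    by_contra hc
    obtain ⟨m, hm⟩ : 2 ∣ Nat.card (MulAction.orbit N t) := by omega
    obtain ⟨r, hr⟩ := (dvd_trans (by norm_num : 8 ∣ 24) h24)
    obtain ⟨q, hq⟩ := hsz
    rw [hm, hr] at hq
    rw [hq, show 2 * m * (8 * r) * q = 8 * (2 * (m * r * q)) by ring] at hodd
    omega
  by_cases hboth : IsConj t a ∧ IsConj t b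
  · have hall : ∀ x ∈ sylG e, x ≠ 1 → IsConj t x := fun x hx hx1 => by
      by_cases hxt : x = t
      · rw [hxt]
      rcases hor x hx hx1 hxt ((mem_sylG e).1 hx).1 with ⟨-, h⟩ | ⟨-, h⟩
      · exact hboth.1.trans h.symm
      · exact hboth.2.trans h.symm
    refine ⟨fun u hu => ?_, ?_⟩
    · have hpg : IsPGroup 2 (Subgroup.zpowers u) := IsPGroup.of_card (n := 1) (by
        rw [Nat.card_zpowers, hu, pow_one])
      obtain ⟨Q, hQ⟩ := hpg.exists_le_sylow
      obtain ⟨g, hg⟩ := MulAction.exists_smul_eq G Q P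
      have hm : g * u * g⁻¹ ∈ sylG e := by
        rw [← hP, ← hg, Sylow.smul_def]
        exact ⟨u, hQ (Subgroup.mem_zpowers u), rfl⟩
      have hne : g * u * g⁻¹ ≠ 1 := fun h => by
        have : u = 1 := by simpa [mul_inv_eq_one] using h
        rw [this, orderOf_one] at hu
        omega
      exact (hall _ hm hne).trans (isConj_iff.2 ⟨g⁻¹, by group⟩)
    · have e7 : Nat.card (MulAction.orbit N t) = 7 := by
        have : MulAction.orbit N t = (sylG e : Set G) \ {1} := by
          ext x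
          rw [horb]
          exact ⟨fun h => ⟨h.1, fun h1 => ht1 (by rw [h1] at h; exact (isConj_one_right.1 h.2.symm))⟩,
            fun h => ⟨h.1, hall x h.1 h.2⟩⟩
        rw [this, Nat.card_coe_set_eq, Set.ncard_sdiff (by simp [(sylG e).one_mem]), Set.ncard_singleton,
          ← Nat.card_coe_set_eq]
        show Nat.card (sylG e) - 1 = 7
        rw [card_sylG e]
      rw [e7] at hsz
      exact (Nat.mul_dvd_mul_left 7 h24).trans hsz
  · exfalso
    have hiso : ∀ g : G, g * t * g⁻¹ ∈ (P : Subgroup G) → g * t * g⁻¹ = t := by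
      intro g hg
      by_contra hne
      rw [hP] at hg
      have hc : IsConj t (g * t * g⁻¹) := isConj_iff.2 ⟨g, rfl⟩
      have hne1 : g * t * g⁻¹ ≠ 1 := fun h => ht1 (by simpa [mul_inv_eq_one] using h)
      -- exactly one of the small orbits is fused, so the orbit has size four
      have hone : IsConj t a ∨ IsConj t b := by
        rcases hor _ hg hne1 hne ((mem_sylG e).1 hg).1 with ⟨-, h⟩ | ⟨-, h⟩
        · exact Or.inl (hc.trans h)
        · exact Or.inr (hc.trans h)
      set L : List ℕ := if IsConj t a then [3319, 714, 1634, 2154] else [3319, 3839, 4759, 5279] with hL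
      obtain ⟨hLnd, hLlen, hLsub⟩ := small_orbits L (by rw [hL]; split_ifs <;> simp)
      have hmem : ∀ x, x ∈ MulAction.orbit N t ↔
          ∃ h : x ∈ Subgroup.centralizer ({t} : Set G), cod (e ⟨x, h⟩) ∈ L := by
        intro x
        rw [horb]
        constructor
        · rintro ⟨hx, hxc⟩
          obtain ⟨h, hn⟩ := (mem_sylG e).1 hx
          refine ⟨h, ?_⟩
          have hx1 : x ≠ 1 := fun h1 => ht1 (by rw [h1] at hxc; exact (isConj_one_right.1 hxc.symm))
          by_cases hxt : x = t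
          · subst hxt
            rw [cod_t ht e, hL]; split_ifs <;> simp
          rcases hor x hx hx1 hxt h with ⟨hm, hh⟩ | ⟨hm, hh⟩
          · rw [hL, if_pos (hxc.trans hh)]; exact List.mem_cons_of_mem _ hm
          · rw [hL, if_neg fun ha => hboth ⟨ha, hxc.trans hh⟩]; exact List.mem_cons_of_mem _ hm
        · rintro ⟨h, hm⟩
          have hx : x ∈ sylG e := (mem_sylG e).2 ⟨h, (hLsub _ hm).1⟩
          refine ⟨hx, ?_⟩
          have hx1 : x ≠ 1 := fun h1 => (hLsub _ hm).2 (by
            rw [← cod_one, ← map_one e]; exact congrArg (fun n => cod (e n)) (Subtype.ext h1))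
          by_cases hxt : x = t
          · rw [hxt]
          rcases hor x hx hx1 hxt h with ⟨hk, hh⟩ | ⟨hk, hh⟩
          · by_cases ha : IsConj t a
            · exact ha.trans hh.symm
            · rw [hL, if_neg ha] at hm
              exact absurd hm ((by decide : ∀ c ∈ ([714, 1634, 2154] : List ℕ), c ∉ [3319, 3839, 4759, 5279]) _ hk)
          · by_cases ha : IsConj t a
            · rw [hL, if_pos ha] at hm
              exact absurd hm ((by decide : ∀ c ∈ ([3839, 4759, 5279] : List ℕ), c ∉ [3319, 714, 1634, 2154]) _ hk)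
            · exact (hone.resolve_left ha).trans hh.symm
      have h4 : Nat.card (MulAction.orbit N t) = 4 := by
        rw [← hLlen, ← List.toFinset_card_of_nodup hLnd, ← Nat.card_eq_finsetCard]
        refine Nat.card_congr (Equiv.ofBijective
          (fun x => ⟨cod (e ⟨x.1, ((hmem x.1).1 x.2).1⟩), List.mem_toFinset.2 ((hmem x.1).1 x.2).2⟩) ⟨?_, ?_⟩)
        · intro x y h
          have := e.injective (cod_injective (congrArg Subtype.val h))
          exact Subtype.ext (Subtype.mk.inj this)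
        · rintro ⟨c, hc⟩
          have hc' := List.mem_toFinset.1 hc
          set n := e.symm (ofCode c (syl_check.1 c (hLsub c hc').1).1) with hn
          refine ⟨⟨(n : G), (hmem _).2 ⟨n.2, by rw [Subtype.coe_eta, hn, e.apply_symm_apply, cod_ofCode]; exact hc'⟩⟩,
            Subtype.ext ?_⟩
          show cod (e n) = c
          rw [hn, e.apply_symm_apply, cod_ofCode]
      rw [h4] at hod
      exact absurd hod (by decide)
    have htP : t ∈ P := by
      show t ∈ (P : Subgroup G)
      rw [hP]; exact t_mem_sylG ht e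
    have hz := zStar (oddInvol_of_isolated_sylow ht htP hiso)
    have hO : oddCore G = ⊥ := by
      refine ((inferInstance : (oddCore G).Normal).eq_bot_or_eq_top).resolve_right fun h => ?_
      have h1 := card_oddCore_odd G
      rw [h, Subgroup.card_top, Nat.odd_iff] at h1
      omega
    have hcent : ∀ g : G, t * g = g * t := zStar_central (oddInvol_of_isolated_sylow ht htP hiso) hO
    have hn : (Subgroup.zpowers t).Normal := ⟨fun x hx g => by
      obtain ⟨k, rfl⟩ := Subgroup.mem_zpowers_iff.1 hx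
      have : Commute g (t ^ k) := (show Commute g t from (hcent g).symm).zpow_right k
      rw [this.eq, mul_inv_cancel_right]
      exact Subgroup.mem_zpowers_iff.2 ⟨k, rfl⟩⟩
    rcases hn.eq_bot_or_eq_top with h | h
    · exact ht1 (Subgroup.zpowers_eq_bot.1 h)
    · have h1 : Nat.card G = 2 := by rw [← Subgroup.card_top, ← h, Nat.card_zpowers, ht]
      have h2 := Subgroup.card_subgroup_dvd_card (Subgroup.centralizer ({t} : Set G))
      rw [card_centralizer ht e, h1] at h2
      norm_num at h2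

end Cfsg.Agent.Lead.JankoOne
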