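import Cfsg.Agent.Lib.Char.IndSpan
import Mathlib.GroupTheory.SpecificGroups.Alternating
import Mathlib.Data.ZMod.Basic

/-!
# The group `C₂ × A₅` by codes
-/

set_option autoImplicit false
set_option maxRecDepth 20000
set_option linter.style.haveILetI false

namespace Cfsg.Agent.Lead.JankoOne

open Cfsg Module

/-- `C₂ × A₅` -/
abbrev CG : Type := Multiplicative (ZMod 2) × alternatingGroup (Fin 5)

/-- the `i`th digit -/
def dg (x i : ℕ) : ℕ := x / 5 ^ (4 - i) % 5

def pack (a : ℕ) (f : ℕ → ℕ) : ℕ := a % 2 * 3125 + f 0 * 625 + f 1 * 125 + f 2 * 25 + f 3 * 5 + f 4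

def mc (x y : ℕ) : ℕ := pack (x / 3125 + y / 3125) fun i => dg x (dg y i)

def ivd (x j : ℕ) : ℕ :=
  if dg x 0 = j then 0 else if dg x 1 = j then 1 else if dg x 2 = j then 2
  else if dg x 3 = j then 3 else 4

def iv (x : ℕ) : ℕ := pack (x / 3125) (ivd x)

/-- all codes -/
def codes : List ℕ :=
  [194, 222, 238, 298, 334, 366, 414, 446, 482, 542, 558, 586, 698, 714, 742,
   894, 970, 978, 1022, 1054, 1110, 1138, 1190, 1202, 1294, 1346, 1358, 1398, 1454, 1490,
   1634, 1670, 1726, 1766, 1778, 1830, 1922, 1934, 1986, 2014, 2070, 2102, 2146, 2154, 2230,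
   2382, 2410, 2426, 2538, 2566, 2582, 2642, 2678, 2710, 2758, 2790, 2826, 2886, 2902, 2930,
   3319, 3347, 3363, 3423, 3459, 3491, 3539, 3571, 3607, 3667, 3683, 3711, 3823, 3839, 3867,
   4019, 4095, 4103, 4147, 4179, 4235, 4263, 4315, 4327, 4419, 4471, 4483, 4523, 4579, 4615,
   4759, 4795, 4851, 4891, 4903, 4955, 5047, 5059, 5111, 5139, 5195, 5227, 5271, 5279, 5355,
   5507, 5535, 5551, 5663, 5691, 5707, 5767, 5803, 5835, 5883, 5915, 5951, 6011, 6027, 6055]

def fiveA : List ℕ := [970, 1022, 1202, 1358, 1778, 1830, 1986, 2146, 2230, 2538, 2886, 2902]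

/-- classes of the alternating factor: 1, involutions, order 3, two classes of order 5 -/
def cls5 (x : ℕ) : ℕ :=
  if x = 194 then 0 else if mc x x = 194 then 1 else if mc x (mc x x) = 194 then 2
  else if x ∈ fiveA then 3 else 4

/-- the class -/
def cls (x : ℕ) : Fin 10 := ⟨(x / 3125 * 5 + cls5 (x % 3125)) % 10, Nat.mod_lt _ (by norm_num)⟩

def cod (g : CG) : ℕ :=
  pack g.1.toAdd.val fun i => ((g.2 : Equiv.Perm (Fin 5)) (Fin.ofNat 5 i)).val

theorem cod_digits (g : CG) : cod g / 3125 = g.1.toAdd.val ∧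
    ∀ i : Fin 5, dg (cod g) i.val = ((g.2 : Equiv.Perm (Fin 5)) i).val := by
  have b : ∀ i : Fin 5, ((g.2 : Equiv.Perm (Fin 5)) i).val < 5 := fun i => Fin.isLt _
  have := b 0; have := b 1; have := b 2; have := b 3; have := b 4
  have := ZMod.val_lt g.1.toAdd
  refine ⟨?_, fun i => ?_⟩
  · simp only [cod, pack, Fin.ofNat]
    norm_num
    omega
  · fin_cases i <;> simp only [cod, pack, dg, Fin.ofNat] <;> norm_num <;> omega

theorem cod_injective : Function.Injective cod := by
  intro g h e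
  obtain ⟨a1, a2⟩ := cod_digits g
  obtain ⟨b1, b2⟩ := cod_digits h
  refine Prod.ext (Multiplicative.toAdd.injective (ZMod.val_injective _ (by rw [← a1, e, b1])))
    (Subtype.ext (Equiv.ext fun i => Fin.ext (by rw [← a2, e, b2])))

theorem cod_mul (g h : CG) : cod (g * h) = mc (cod g) (cod h) := by
  obtain ⟨a1, a2⟩ := cod_digits g
  obtain ⟨b1, b2⟩ := cod_digits h
  have key : ∀ i : Fin 5, dg (cod g) (dg (cod h) i.val) =
      ((g.2 : Equiv.Perm (Fin 5)) ((h.2 : Equiv.Perm (Fin 5)) i)).val := fun i => by rw [b2, a2]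
  have k0 := key 0; have k1 := key 1; have k2 := key 2; have k3 := key 3; have k4 := key 4
  simp only [Fin.val_zero, Fin.val_one, Fin.val_two] at k0 k1 k2
  simp only [show ((3 : Fin 5) : ℕ) = 3 from rfl, show ((4 : Fin 5) : ℕ) = 4 from rfl] at k3 k4
  rw [mc, a1, b1]
  simp only [pack, k0, k1, k2, k3, k4]
  simp only [cod, pack, Prod.fst_mul, Prod.snd_mul, toAdd_mul, Subgroup.coe_mul, Equiv.Perm.mul_apply,
    ZMod.val_add, Nat.mod_mod]
  rfl

theorem cod_one : cod (1 : CG) = 194 := by decide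

theorem perm_check : ∀ s : Equiv.Perm (Fin 5), Equiv.Perm.sign s = 1 →
    pack 0 (fun i => (s (Fin.ofNat 5 i)).val) ∈ codes ∧ pack 1 (fun i => (s (Fin.ofNat 5 i)).val) ∈ codes := by
  decide +kernel

theorem cod_mem (g : CG) : cod g ∈ codes := by
  obtain ⟨h0, h1⟩ := perm_check g.2.1 (Equiv.Perm.mem_alternatingGroup.1 g.2.2)
  have := ZMod.val_lt g.1.toAdd
  simp only [cod]
  interval_cases g.1.toAdd.val
  · exact h0
  · exact h1

theorem codes_nodup : codes.Nodup := by decide +kernel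

theorem card_cg : Nat.card CG = 120 := by
  rw [Nat.card_prod, nat_card_alternatingGroup, Nat.card_eq_fintype_card, Fintype.card_multiplicative, ZMod.card,
    Nat.card_eq_fintype_card, Fintype.card_fin]
  rfl

theorem cod_surj {x : ℕ} (hx : x ∈ codes) : ∃ g : CG, cod g = x := by
  classical
  haveI := Fintype.ofFinite CG
  have hsub : (Finset.univ : Finset CG).image cod ⊆ codes.toFinset := fun y hy => by
    obtain ⟨g, -, rfl⟩ := Finset.mem_image.1 hy
    exact List.mem_toFinset.2 (cod_mem g)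
  have := Finset.eq_of_subset_of_card_le hsub (by
    rw [List.toFinset_card_of_nodup codes_nodup, Finset.card_image_of_injective _ cod_injective,
      Finset.card_univ, ← Nat.card_eq_fintype_card, card_cg]
    decide)
  rw [← List.mem_toFinset, ← this] at hx
  obtain ⟨g, -, hg⟩ := Finset.mem_image.1 hx
  exact ⟨g, hg⟩

/-- the element with a given code -/
noncomputable def ofCode (x : ℕ) (hx : x ∈ codes) : CG := (cod_surj hx).choose

theorem cod_ofCode (x : ℕ) (hx : x ∈ codes) : cod (ofCode x hx) = x := (cod_surj hx).choose_spec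

theorem sum_cod [Fintype CG] {M : Type*} [AddCommMonoid M] (F : ℕ → M) :
    ∑ g : CG, F (cod g) = (codes.map F).sum := by
  classical
  rw [← List.sum_toFinset F codes_nodup]
  refine Finset.sum_nbij cod (fun g _ => List.mem_toFinset.2 (cod_mem g))
    (fun a _ b _ h => cod_injective h) (fun x hx => ?_) (fun g _ => rfl)
  exact ⟨ofCode x (List.mem_toFinset.1 hx), Finset.mem_univ _, cod_ofCode _ _⟩

theorem inv_check : ∀ x ∈ codes, ∀ y ∈ codes, mc x y = 194 → y = iv x := by decide +kernel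

theorem cod_inv (g : CG) : cod g⁻¹ = iv (cod g) := by
  refine inv_check _ (cod_mem g) _ (cod_mem _) ?_
  rw [← cod_mul, mul_inv_cancel, cod_one]

/-- exponents of the conjugates lying in a list -/
def expo (Hl : List ℕ) (k : ℕ → ℕ) (g : ℕ) : List ℕ :=
  codes.filterMap fun x => if mc (iv x) (mc g x) ∈ Hl then some (k (mc (iv x) (mc g x))) else none

def expoTab (Hl : List ℕ) (k : ℕ → ℕ) (n g : ℕ) : List ℕ :=
  (List.range n).map fun m => ((expo Hl k g).map (· % n)).count m

theorem sum_pow_eq_count {n : ℕ} (hn : 0 < n) {ζ : ℂ} (hζ : ζ ^ n = 1) (l : List ℕ) :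
    (l.map (fun m => ζ ^ m)).sum =
      ∑ m ∈ Finset.range n, (((l.map (· % n)).count m : ℕ) : ℂ) * ζ ^ m := by
  induction l with
  | nil => simp
  | cons a l ih =>
    rw [List.map_cons, List.sum_cons, ih]
    simp only [List.map_cons, List.count_cons, Nat.cast_add, add_mul, Finset.sum_add_distrib]
    rw [add_comm]
    congr 1
    rw [Finset.sum_eq_single (a % n)]
    · simp [pow_eq_pow_mod a hζ]
    · intro b _ hb
      simp [Ne.symm hb]
    · intro h
      exact absurd (Finset.mem_range.2 (Nat.mod_lt a hn)) h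

theorem sum_filterMap {α β M : Type*} [AddCommMonoid M] (l : List α) (p : α → Prop) [DecidablePred p]
    (k : α → β) (F : β → M) :
    (l.map fun x => if p x then F (k x) else 0).sum =
      ((l.filterMap fun x => if p x then some (k x) else none).map F).sum := by
  induction l with
  | nil => rfl
  | cons a l ih => by_cases h : p a <;> simp [h, ih]

/-- Induced linear characters, by counting. -/
theorem ind_char (Hl : List ℕ) (k : ℕ → ℕ) (n : ℕ) (hn : 0 < n) {ζ : ℂ} (hζ : ζ ^ n = 1)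
    (h1 : (194 ∈ Hl ∧ k 194 % n = 0) ∧ Hl.Nodup ∧ (∀ x ∈ Hl, x ∈ codes ∧ iv x ∈ Hl) ∧
      ∀ x ∈ Hl, ∀ y ∈ Hl, mc x y ∈ Hl ∧ k (mc x y) % n = (k x + k y) % n) :
    IsCharacter CG (fun g => (Hl.length : ℂ)⁻¹ *
      ∑ m ∈ Finset.range n, (((expoTab Hl k n (cod g)).getD m 0 : ℕ) : ℂ) * ζ ^ m) := by
  classical
  haveI := Fintype.ofFinite CG
  obtain ⟨⟨hone, hk1⟩, hnd, hsub, hmul⟩ := h1
  let K : Subgroup CG :=
    { carrier := {g | cod g ∈ Hl}
      one_mem' := by show cod (1 : CG) ∈ Hl; rw [cod_one]; exact hone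
      mul_mem' := fun {a b} ha hb => by show cod (a * b) ∈ Hl; rw [cod_mul]; exact (hmul _ ha _ hb).1
      inv_mem' := fun {a} ha => by show cod a⁻¹ ∈ Hl; rw [cod_inv]; exact (hsub _ ha).2 }
  let u : ℂˣ := Units.ofPowEqOne ζ n hζ hn.ne'
  let l : K →* ℂˣ :=
    { toFun := fun g => u ^ k (cod g.1)
      map_one' := by
        apply Units.ext
        show ((u : ℂˣ) ^ k (cod (1 : CG)) : ℂˣ).val = 1
        rw [cod_one, Units.val_pow_eq_pow_val, Units.val_ofPowEqOne, pow_eq_pow_mod _ hζ, hk1, pow_zero]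
      map_mul' := fun a b => by
        apply Units.ext
        show ((u : ℂˣ) ^ k (cod (a.1 * b.1)) : ℂˣ).val = _
        rw [cod_mul, Units.val_mul]
        simp only [Units.val_pow_eq_pow_val, u, Units.val_ofPowEqOne]
        rw [← pow_add, pow_eq_pow_mod _ hζ, (hmul _ a.2 _ b.2).2, ← pow_eq_pow_mod _ hζ] }
  have hK : Nat.card K = Hl.length := by
    rw [← List.toFinset_card_of_nodup hnd, ← Nat.card_eq_finsetCard]
    refine Nat.card_congr (Equiv.ofBijective (fun g => ⟨cod g.1, List.mem_toFinset.2 g.2⟩) ⟨?_, ?_⟩)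
    · exact fun a b h => Subtype.ext (cod_injective (congrArg Subtype.val h))
    · rintro ⟨x, hx⟩
      have hxH := List.mem_toFinset.1 hx
      exact ⟨⟨ofCode x (hsub x hxH).1, by show cod _ ∈ Hl; rw [cod_ofCode]; exact hxH⟩,
        Subtype.ext (cod_ofCode x (hsub x hxH).1)⟩
  have hch := Cfsg.Agent.Char.isCharacter_indFun K (Cfsg.Agent.Char.isCharacter_hom K l)
  have e : indFun K (fun x => (l x : ℂ)) = fun g => (Hl.length : ℂ)⁻¹ *
      ∑ m ∈ Finset.range n, (((expoTab Hl k n (cod g)).getD m 0 : ℕ) : ℂ) * ζ ^ m := by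
    funext g
    show (Nat.card K : ℂ)⁻¹ * _ = _
    rw [hK]
    congr 1
    have : ∀ x : CG, extendByZero K (fun x => (l x : ℂ)) (x⁻¹ * g * x) =
        if mc (iv (cod x)) (mc (cod g) (cod x)) ∈ Hl then ζ ^ k (mc (iv (cod x)) (mc (cod g) (cod x))) else 0 := by
      intro x
      have ec : cod (x⁻¹ * g * x) = mc (iv (cod x)) (mc (cod g) (cod x)) := by
        rw [mul_assoc, cod_mul, cod_mul, cod_inv]
      rw [← ec]
      split_ifs with hx
      · rw [Cfsg.Agent.Char.extendByZero_mem K _ hx]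
        show ((u ^ k (cod (x⁻¹ * g * x)) : ℂˣ) : ℂ) = _
        rw [Units.val_pow_eq_pow_val, Units.val_ofPowEqOne]
      · exact Cfsg.Agent.Char.extendByZero_not_mem K _ hx
    rw [Finset.sum_congr rfl fun x _ => this x,
      sum_cod (fun c => if mc (iv c) (mc (cod g) c) ∈ Hl then ζ ^ k (mc (iv c) (mc (cod g) c)) else 0),
      sum_filterMap codes (fun c => mc (iv c) (mc (cod g) c) ∈ Hl) (fun c => k (mc (iv c) (mc (cod g) c)))
        (fun m => ζ ^ m), sum_pow_eq_count hn hζ]
    refine Finset.sum_congr rfl fun m hm => ?_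
    simp only [expoTab, expo, List.getD_eq_getElem?_getD, List.getElem?_map,
      List.getElem?_range (Finset.mem_range.1 hm), Option.map_some, Option.getD_some]
  rw [← e]
  exact hch

end Cfsg.Agent.Lead.JankoOne
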